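import Mathlib

/-!
# Facts on the alternating group of degree four, transported along isomorphisms
-/

set_option autoImplicit false

namespace Cfsg.Agent.H6.AFour

abbrev A4 := ↥(alternatingGroup (Fin 4))

set_option synthInstance.maxHeartbeats 400000 in
set_option synthInstance.maxSize 2000 in
theorem alt_facts : (∀ a b : A4, a * a = 1 → b * b = 1 → a * b = b * a ∧ (a * b) * (a * b) = 1) ∧
    (Finset.univ.filter fun a : A4 => a * a = 1).card = 4 ∧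
    (∀ a b : A4, a * a = 1 → b * b = 1 → a ≠ 1 → b ≠ 1 → ∃ c : A4, c * a * c⁻¹ = b) ∧
    (∀ a b : A4, a * a = 1 → a ≠ 1 → a * b = b * a → b * b = 1) ∧
    (∀ r a : A4, r * r ≠ 1 → a * a = 1 → r * a = a * r → a = 1) ∧
    (∀ r : A4, r * r ≠ 1 → r * r * r = 1) ∧
    (∃ r : A4, r * r ≠ 1) ∧
    (∀ z : A4, (∀ b : A4, z * b = b * z) → z = 1) ∧
    (∀ r s : A4, r * r ≠ 1 → s * s ≠ 1 → ∃ c : A4, c * r * c⁻¹ = s ∨ c * (r * r) * c⁻¹ = s) ∧
    (∀ r b : A4, r * r ≠ 1 → ∃ v : A4, v * v = 1 ∧ (b = v ∨ b = v * r ∨ b = v * (r * r))) := by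
  unfold A4
  refine ⟨?_, ?_, ?_, ?_, ?_, ?_, ?_, ?_, ?_, ?_⟩ <;> decide +kernel

end Cfsg.Agent.H6.AFour
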