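import Cfsg.Agent.H6.AFour.Lines
import Cfsg.Agent.H70.SameFix.Main

/-!
# The centraliser of an involution on its line, flat case
-/

set_option autoImplicit false
set_option linter.unusedSectionVars false
set_option linter.style.haveILetI false

namespace Cfsg.Agent.H6.AFour

open MulAction

/-- A fixed-point-free element of a sharply doubly transitive group lies in the regular normal subgroup. -/
theorem mem_regular_of_fpf {Q α : Type*} [Group Q] [Finite Q] [MulAction Q α] [Finite α]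
    (h2 : IsMultiplyPretransitive Q α 2) (hn : 2 ≤ Nat.card α)
    (hsharp : ∀ a b : α, a ≠ b → ∀ g : Q, g • a = a → g • b = b → g = 1)
    (N : Subgroup Q) (htr : ∀ x y : α, ∃ r ∈ N, r • x = y)
    (hfree : ∀ x : α, ∀ r ∈ N, r • x = x → r = 1) {g : Q} (hg : ∀ x : α, g • x ≠ x) : g ∈ N := by
  classical
  have := Fintype.ofFinite α
  have : Nontrivial α := Finite.one_lt_card_iff_nontrivial.1 hn
  have hstab : ∀ a : α, Nat.card (stabilizer Q a) = Nat.card α - 1 := by
    intro a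
    obtain ⟨b, hb⟩ := exists_ne a
    rw [card_eq_orbit_mul (stabilizer Q a) b {z | z ≠ a} fun z => ⟨fun hz => ?_, ?_⟩,
      show {z | z ≠ a} = ({a} : Set α)ᶜ from rfl, Set.ncard_compl, Set.ncard_singleton,
      show Nat.card ↥(stabilizer Q a ⊓ stabilizer Q b) = 1 from ?_, mul_one]
    · rw [Subgroup.card_eq_one, Subgroup.eq_bot_iff_forall]
      exact fun k hk => hsharp a b hb.symm k hk.1 hk.2
    · obtain ⟨k, ka, kb⟩ := H36.CyZ.exists_map_pair h2 hb.symm (Ne.symm hz)
      exact ⟨k, ka, kb⟩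
    · rintro ⟨k, ka, rfl⟩ e
      exact hb (MulAction.injective k (e.trans (mem_stabilizer_iff.1 ka).symm))
  obtain ⟨a, -⟩ := exists_pair_ne α
  have hQ : Nat.card Q = Nat.card α * (Nat.card α - 1) := by
    rw [← hstab a, ← Subgroup.card_top, card_eq_orbit_mul (⊤ : Subgroup Q) a Set.univ fun z =>
      ⟨fun _ => ?_, fun _ => trivial⟩, Set.ncard_univ, top_inf_eq]
    obtain ⟨r, -, hr⟩ := htr a z
    exact ⟨r, trivial, hr⟩
  have hN : Nat.card N = Nat.card α := by
    rw [card_eq_orbit_mul N a Set.univ fun z => ⟨fun _ => htr a z, fun _ => trivial⟩, Set.ncard_univ,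
      show Nat.card ↥(N ⊓ stabilizer Q a) = 1 from ?_, mul_one]
    rw [Subgroup.card_eq_one, Subgroup.eq_bot_iff_forall]
    exact fun k hk => hfree a k hk.1 hk.2
  let φ : N ⊕ (Σ x : α, {k : Q // k • x = x ∧ k ≠ 1}) → Q :=
    Sum.elim (fun r => r.1) (fun p => p.2.1)
  have hφ : Function.Injective φ := by
    rintro (r | ⟨x, k, hk⟩) (r' | ⟨x', k', hk'⟩) (e : _ = _)
    · exact congrArg Sum.inl (Subtype.ext e)
    · exact absurd (hfree x' r.1 r.2 (by show (r : Q) • x' = x'; rw [show (r : Q) = k' from e]; exact hk'.1))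
        (by rw [show (r : Q) = k' from e]; exact hk'.2)
    · exact absurd (hfree x r'.1 r'.2 (by show (r' : Q) • x = x; rw [← show k = (r' : Q) from e]; exact hk.1))
        (by rw [← show k = (r' : Q) from e]; exact hk.2)
    · obtain rfl : k = k' := e
      obtain rfl : x = x' := by_contra fun hne => hk.2 (hsharp x x' hne k hk.1 hk'.1)
      rfl
  have hsurj : Function.Surjective φ := by
    refine ((Nat.bijective_iff_injective_and_card φ).2 ⟨hφ, ?_⟩).2
    rw [Nat.card_sum, Nat.card_sigma, Finset.sum_congr rfl (g := fun _ => Nat.card α - 2) fun x _ => ?_,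
      Finset.sum_const, Finset.card_univ, smul_eq_mul, ← Nat.card_eq_fintype_card, hN, hQ]
    · obtain ⟨i, hi⟩ := Nat.exists_eq_add_of_le hn
      rw [hi, show 2 + i - 2 = i by omega, show 2 + i - 1 = 1 + i by omega]
      ring
    · have e : {k : Q // k • x = x ∧ k ≠ 1} ≃ ↥((stabilizer Q x : Set Q) \ {1}) :=
        Equiv.subtypeEquivRight fun k => Iff.rfl
      rw [Nat.card_congr e, Nat.card_coe_set_eq, Set.ncard_sdiff_singleton_of_mem (one_mem (stabilizer Q x)),
        ← Nat.card_coe_set_eq, show Nat.card ↥(stabilizer Q x : Set Q) = Nat.card α - 1 from hstab x]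
      omega
  rcases hsurj g with ⟨r | ⟨x, k⟩, e⟩
  · exact e ▸ r.2
  · exact absurd (e ▸ k.2.1 : g • x = x) (hg x)

variable {G Ω : Type*} [Group G] [MulAction G Ω]

namespace Hyp

variable (h : Hyp G Ω) [Finite G] [Finite Ω]
include h

/-- The translations of a line inside the centraliser of one of its involutions. -/
theorem exists_translations (hF : Flat G Ω) {x y : Ω} (hxy : x ≠ y) {t : G} (ht : t ∈ h.four hxy)
    (t1 : t ≠ 1) :
    ∃ R : Subgroup G, R ≤ Subgroup.centralizer ({t} : Set G) ∧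
      Subgroup.centralizer ({t} : Set G) ≤ Subgroup.normalizer (R : Set G) ∧
      h.four hxy ≤ R ∧ Nat.card R = 4 * (line G x y).ncard ∧
      (∀ z ∈ line G x y, ∀ w ∈ line G x y, ∃ r ∈ R, r • z = w) ∧
      (∀ r ∈ R, ∀ z ∈ line G x y, r • z = z → r ∈ h.four hxy) ∧
      (∀ g ∈ Subgroup.centralizer ({t} : Set G), (∀ z ∈ line G x y, g • z ≠ z) → g ∈ R) := by
  classical
  have ti : Inv t := ⟨t1, ht.2⟩
  set C := Subgroup.centralizer ({t} : Set G) with hC
  set L := line G x y
  have hCL : ∀ g ∈ C, ∀ z ∈ L, g • z ∈ L := fun g hg z hz => h.line_of_centralizer hF hxy ht t1 hg hz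
  letI act : MulAction C L :=
    { smul := fun g z => ⟨(g : G) • (z : Ω), hCL g g.2 z z.2⟩
      one_smul := fun z => Subtype.ext (one_smul G (z : Ω))
      mul_smul := fun a b z => Subtype.ext (mul_smul (a : G) (b : G) (z : Ω)) }
  let φ : C →* Equiv.Perm L := toPermHom C L
  let Q := φ.range
  have hφ : ∀ (g : C) (z : L), (φ g z : Ω) = (g : G) • (z : Ω) := fun g z => rfl
  have hfix2 : ∀ {z w : Ω} (g : G), z ∈ L → w ∈ L → z ≠ w → g ∈ C → g • z = z → g • w = w →
      g ∈ h.four hxy := by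
    intro z w g hz hw hzw hg gz gw
    rw [← h.four_eq hxy hzw hz hw]
    exact ⟨mem_tw.2 ⟨gz, gw⟩, h.sq_of_cent ti hzw (hz t ht.1 ht.2) (hw t ht.1 ht.2) hg gz gw⟩
  have hker : ∀ g : C, φ g = 1 ↔ (g : G) ∈ h.four hxy := by
    intro g
    constructor
    · intro k
      have e : ∀ z : L, (g : G) • (z : Ω) = z := fun z => by rw [← hφ, k]; rfl
      exact hfix2 _ (left_mem_line x y) (right_mem_line x y) hxy g.2 (e ⟨x, left_mem_line x y⟩)
        (e ⟨y, right_mem_line x y⟩)
    · intro k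
      exact Equiv.ext fun z => Subtype.ext (by rw [hφ]; exact z.2 _ k.1 k.2)
  have hsharp : ∀ a b : L, a ≠ b → ∀ q : Q, q • a = a → q • b = b → q = 1 := by
    rintro a b hab ⟨_, g, rfl⟩ qa qb
    refine Subtype.ext ((hker g).2 (hfix2 _ a.2 b.2 (fun k => hab (Subtype.ext k)) g.2 ?_ ?_))
    · exact congrArg Subtype.val qa
    · exact congrArg Subtype.val qb
  have h2 : IsMultiplyPretransitive Q L 2 := is_two_pretransitive_iff.2 fun {a b c d} hab hcd => by
    obtain ⟨g, hg, ga, gb⟩ := h.witt ti (fun k => hab (Subtype.ext k)) (fun k => hcd (Subtype.ext k))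
      (a.2 t ht.1 ht.2) (b.2 t ht.1 ht.2) (c.2 t ht.1 ht.2) (d.2 t ht.1 ht.2)
    exact ⟨⟨φ ⟨g, hg⟩, _, rfl⟩, Subtype.ext ga, Subtype.ext gb⟩
  have hn : 2 ≤ Nat.card L := by rw [Nat.card_coe_set_eq]; exact h.two_le_line hxy
  obtain ⟨N, hNn, htr, hfree⟩ := H70.SameFix.hasRegularNormal_of_sharp h2 hn hsharp
  set R₀ : Subgroup C := N.comap φ.rangeRestrict
  have hR₀ : R₀.Normal := hNn.comap _
  refine ⟨R₀.map C.subtype, Subgroup.map_subtype_le R₀, ?_, ?_, ?_, ?_, ?_, ?_⟩
  · intro g hg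
    refine Subgroup.mem_normalizer_iff.2 fun a => ⟨?_, fun k => ?_⟩
    · rintro ⟨a, ha, rfl⟩
      exact ⟨⟨g, hg⟩ * a * ⟨g, hg⟩⁻¹, hR₀.conj_mem a ha _, rfl⟩
    · obtain ⟨b, hb, e⟩ := k
      refine ⟨⟨g, hg⟩⁻¹ * b * ⟨g, hg⟩, ?_, ?_⟩
      · have := hR₀.conj_mem b hb (⟨g, hg⟩⁻¹ : C)
        rwa [inv_inv] at this
      · show g⁻¹ * (b : G) * g = a
        rw [show (b : G) = g * a * g⁻¹ from e]
        group
  · intro v hv
    have hvC : v ∈ C := Subgroup.mem_centralizer_singleton_iff.2 (h.four_comm hxy hv ht)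
    refine ⟨⟨v, hvC⟩, ?_, rfl⟩
    show φ.rangeRestrict ⟨v, hvC⟩ ∈ N
    rw [show φ.rangeRestrict ⟨v, hvC⟩ = 1 from Subtype.ext ((hker ⟨v, hvC⟩).2 hv)]
    exact one_mem N
  · -- the order
    have hN : Nat.card N = L.ncard := by
      obtain ⟨a⟩ : Nonempty L := ⟨⟨x, left_mem_line x y⟩⟩
      rw [card_eq_orbit_mul N a Set.univ fun z => ⟨fun _ => htr a z, fun _ => trivial⟩, Set.ncard_univ,
        show Nat.card ↥(N ⊓ stabilizer Q a) = 1 from ?_, mul_one, Nat.card_coe_set_eq]
      rw [Subgroup.card_eq_one, Subgroup.eq_bot_iff_forall]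
      exact fun k hk => hfree a k hk.1 hk.2
    have hk : Nat.card φ.rangeRestrict.ker = 4 := by
      rw [← h.card_four' hxy]
      refine Nat.card_congr
        { toFun := fun g => ⟨(g.1 : G), (hker g.1).1 (congrArg Subtype.val g.2)⟩
          invFun := fun v => ⟨⟨v, Subgroup.mem_centralizer_singleton_iff.2 (h.four_comm hxy v.2 ht)⟩,
            Subtype.ext ((hker _).2 v.2)⟩
          left_inv := fun _ => rfl
          right_inv := fun _ => rfl }
    rw [Nat.card_congr (R₀.equivMapOfInjective _ C.subtype_injective).symm.toEquiv, ← hN, ← hk]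
    have e1 := (φ.rangeRestrict.comp R₀.subtype).ker.card_mul_index
    rw [Subgroup.index_ker] at e1
    rw [← e1]
    congr 1
    · refine Nat.card_congr
        { toFun := fun g => ⟨g.1.1, congrArg id g.2⟩
          invFun := fun g => ⟨⟨g.1, Subgroup.mem_comap.2 (by rw [show φ.rangeRestrict g.1 = 1 from g.2]; exact one_mem N)⟩, g.2⟩
          left_inv := fun _ => rfl
          right_inv := fun _ => rfl }
    · refine Nat.card_congr (Equiv.subtypeEquivRight fun q => ⟨?_, fun hq => ?_⟩)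
      · rintro ⟨g, rfl⟩
        exact g.2
      · obtain ⟨g, rfl⟩ := φ.rangeRestrict_surjective q
        exact ⟨⟨g, hq⟩, rfl⟩
  · intro z hz w hw
    obtain ⟨q, hq, e⟩ := htr ⟨z, hz⟩ ⟨w, hw⟩
    obtain ⟨g, rfl⟩ := φ.rangeRestrict_surjective q
    exact ⟨g, ⟨g, hq, rfl⟩, congrArg Subtype.val e⟩
  · rintro _ ⟨g, hg, rfl⟩ z hz e
    exact (hker g).1 (congrArg Subtype.val (hfree ⟨z, hz⟩ _ hg (Subtype.ext e)))
  · intro g hg hfpf
    exact ⟨⟨g, hg⟩, mem_regular_of_fpf h2 hn hsharp N htr hfree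
      (g := φ.rangeRestrict ⟨g, hg⟩) fun z k => hfpf z z.2 (congrArg Subtype.val k), rfl⟩

/-- For lines of even size, an involution moving a line point fixes none. -/
theorem swap_fpf {x y : Ω} (hxy : x ≠ y) (hF : Flat G Ω) (hev : Even (line G x y).ncard) {t g : G}
    (ht : t ∈ h.four hxy) (t1 : t ≠ 1) (hg : g ∈ Subgroup.centralizer ({t} : Set G)) (gi : Inv g)
    (hgV : g ∉ h.four hxy) : ∀ z ∈ line G x y, g • z ≠ z := by
  classical
  have : Fact (Nat.Prime 2) := ⟨Nat.prime_two⟩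
  intro z hz gz
  set Z := Subgroup.zpowers g
  have hL : ∀ k ∈ Z, ∀ u ∈ line G x y, k • u ∈ line G x y := fun k hk u hu =>
    h.line_of_centralizer hF hxy ht t1 ((Subgroup.zpowers_le.2 hg) hk) hu
  letI act : MulAction Z (line G x y) :=
    { smul := fun k u => ⟨(k : G) • (u : Ω), hL k k.2 u u.2⟩
      one_smul := fun u => Subtype.ext (one_smul G (u : Ω))
      mul_smul := fun a b u => Subtype.ext (mul_smul (a : G) (b : G) (u : Ω)) }
  have hp : IsPGroup 2 Z := IsPGroup.of_card (n := 1) (by rw [Nat.card_zpowers, gi.orderOf, pow_one])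
  have hm := hp.card_modEq_card_fixedPoints (line G x y)
  rw [Nat.card_coe_set_eq, Nat.ModEq, Nat.even_iff.1 hev] at hm
  have hsing : fixedPoints Z (line G x y) = {⟨z, hz⟩} := by
    ext u
    refine ⟨fun hu => Subtype.ext (by_contra fun hne => hgV ?_), fun hu => ?_⟩
    · have gu : g • (u : Ω) = u := congrArg Subtype.val (hu ⟨g, Subgroup.mem_zpowers g⟩)
      rw [← h.four_eq hxy hne u.2 hz]
      exact ⟨mem_tw.2 ⟨gu, gz⟩, gi.2⟩
    · rw [Set.mem_singleton_iff.1 hu]
      exact fun k => Subtype.ext ((Subgroup.zpowers_le.2 (show g ∈ stabilizer G z from gz)) k.2)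
  rw [hsing, Nat.card_coe_set_eq, Set.ncard_singleton] at hm
  omega

/-- The central exchanging involution commutes with the four group of the pair. -/
theorem mid_mem_centralizer {x y z w : Ω} (hxy : x ≠ y) (hzw : z ≠ w) (hz : z ∈ line G x y)
    (hw : w ∈ line G x y) {J g : G} (hJ : IsMid z w J) (hg : g ∈ swaps G z w) {v : G}
    (hv : v ∈ h.four hxy) : g * v = v * g := by
  rw [← h.four_eq hxy hzw hz hw] at hv
  obtain ⟨u, hu, u2, rfl⟩ := (h.swaps_of_mid hzw hJ).1 hg
  exact ((show Commute J v from hJ.2 v hv.1).mul_left (h.two_comm hzw hu hv.1 u2 hv.2).1).eq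

end Hyp

end Cfsg.Agent.H6.AFour
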