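import Cfsg.Agent.H6.AFour.CaseAThin
import Cfsg.Agent.H6.AFour.FlatAction
import Cfsg.Agent.H27.Dihedral
import Cfsg.Agent.S0483
import Cfsg.Agent.H88.Walter.PiecePSL
import Cfsg.Agent.Perm.RegularNormal
import Cfsg.Agent.S0205

/-!
# No central exchanging involution: the alternating groups of degree six and seven
-/

set_option autoImplicit false
set_option linter.unusedSectionVars false
set_option linter.style.haveILetI false

namespace Cfsg.Agent.H6.AFour

open MulAction
open scoped Pointwise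

variable {G Ω : Type*} [Group G] [MulAction G Ω]

namespace Hyp

variable (h : Hyp G Ω) [Finite G] [Finite Ω]
include h

/-- A non-trivial normal subgroup of odd order forces prime power degree. -/
theorem primePow_of_odd_normal {N : Subgroup G} [N.Normal] (hN : N ≠ ⊥) (hodd : Odd (Nat.card N)) :
    ∃ p m : ℕ, p.Prime ∧ Nat.card Ω = p ^ m := by
  classical
  haveI := h.faithful
  obtain ⟨M, hMn, hMN, hMne, hMmin⟩ := Perm.exists_minimal_normal_le hN
  haveI : Group.IsSolvable ↥N := Cfsg.Agent.S0205.result hodd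
  haveI : Group.IsSolvable ↥M := Group.isSolvable_of_isSolvable_injective
    (f := Subgroup.inclusion hMN) (Subgroup.inclusion_injective hMN)
  have hab : IsMulCommutative ↥M := by
    refine Perm.isMulCommutative_iff_comm.2 ?_
    rcases hMmin ⁅M, M⁆ inferInstance (Subgroup.commutator_le_self M) with e | e
    · intro a ha b hb
      have := Subgroup.commutator_mem_commutator ha hb
      rw [e, Subgroup.mem_bot] at this
      exact commutatorElement_eq_one_iff_mul_comm.mp this
    · exfalso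
      haveI : Nontrivial ↥M := (Subgroup.nontrivial_iff_ne_bot M).mpr hMne
      refine (Group.IsSolvable.commutator_lt_top_of_nontrivial ↥M).ne ?_
      apply Subgroup.map_injective M.subtype_injective
      rw [Subgroup.map_subtype_commutator, e, ← MonoidHom.range_eq_map, Subgroup.range_subtype]
  obtain ⟨p, hp, hexp⟩ := Perm.minimal_abelian_exp hMne hMmin hab
  obtain ⟨m, hm⟩ := Perm.card_prime_pow_of_exp hp hexp
  obtain ⟨x, -⟩ := h.nontriv
  have hd := H36.CyZ.card_dvd_of_trans M x (H36.CyZ.normal_trans h.two M hMne x)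
  rw [hm] at hd
  obtain ⟨j, -, hj⟩ := (Nat.dvd_prime_pow hp).1 hd
  exact ⟨p, j, hp, hj⟩

/-- Degree six. -/
theorem iso_alt_six (hd : Nat.card Ω = 6) : Nonempty (G ≃* ↥(alternatingGroup (Fin 6))) := by
  classical
  haveI := h.faithful
  obtain ⟨e⟩ : Nonempty (Ω ≃ Fin 6) := ⟨Finite.equivFinOfCardEq hd⟩
  let φ : G →* Equiv.Perm (Fin 6) := e.permCongrHom.toMonoidHom.comp (toPermHom G Ω)
  have hφ : Function.Injective φ := fun a b k => by
    have : toPermHom G Ω a = toPermHom G Ω b := e.permCongrHom.injective k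
    exact MulAction.toPerm_injective this
  have hc : Nat.card φ.range = 360 := by
    rw [← Nat.card_congr (MonoidHom.ofInjective hφ).toEquiv, h.card_group, hd]
  have hi : φ.range.index = 2 := by
    have := φ.range.card_mul_index
    rw [hc, Nat.card_perm, Nat.card_fin, show Nat.factorial 6 = 720 from rfl] at this
    omega
  exact ⟨(MonoidHom.ofInjective hφ).trans
    (MulEquiv.subgroupCongr (Equiv.Perm.eq_alternatingGroup_of_index_eq_two hi))⟩

section Odd

variable (hF : Flat G Ω) {x y : Ω} (hxy : x ≠ y) {t : G} (ht : t ∈ h.four hxy) (t1 : t ≠ 1)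
include hF hxy ht t1

/-- Two involutions modulo the kernel fixing the same single point agree on an odd line. -/
theorem agree_on_line {p : Ω} (hp : p ∈ line G x y) {g g' : G}
    (hg : g ∈ Subgroup.centralizer ({t} : Set G)) (hg' : g' ∈ Subgroup.centralizer ({t} : Set G))
    (hgg : g * g ∈ h.four hxy) (hgg' : g' * g' ∈ h.four hxy) (gp : g • p = p) (gp' : g' • p = p)
    (hone : ∀ z ∈ line G x y, g • z = z → z = p) (hone' : ∀ z ∈ line G x y, g' • z = z → z = p) :
    ∀ z ∈ line G x y, g • z = g' • z := by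
  classical
  obtain ⟨R, hRC, hCR, -, -, hRtr, hRfix, -⟩ := h.exists_translations hF hxy ht t1
  set L := line G x y
  have hL : ∀ k ∈ Subgroup.centralizer ({t} : Set G), ∀ z ∈ L, k • z ∈ L := fun k hk z hz =>
    h.line_of_centralizer hF hxy ht t1 hk hz
  have hVz : ∀ v ∈ h.four hxy, ∀ z ∈ L, v • z = z := fun v hv z hz => hz v hv.1 hv.2
  have inverts : ∀ g : G, g ∈ Subgroup.centralizer ({t} : Set G) → g * g ∈ h.four hxy → g • p = p →
      (∀ z ∈ L, g • z = z → z = p) → ∀ m ∈ R, g • m • p = m⁻¹ • p := by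
    intro g hg hgg gp hone
    have hm : ∀ z : L, ∃ r ∈ R, r • p = z.1 := fun z => hRtr p hp z.1 z.2
    choose ρ hρR hρ using hm
    let ψ : L → L := fun z => ⟨(ρ z)⁻¹ • g • z.1, hL _ (inv_mem (hRC (hρR z))) _ (hL g hg z.1 z.2)⟩
    have hinj : Function.Injective ψ := by
      intro z z' e
      have e' : (ρ z)⁻¹ • g • z.1 = (ρ z')⁻¹ • g • z'.1 := congrArg Subtype.val e
      set s := ρ z' * (ρ z)⁻¹
      have hs : s ∈ R := mul_mem (hρR z') (inv_mem (hρR z))
      have hsz : s • z.1 = z'.1 := by rw [mul_smul, ← hρ z, inv_smul_smul, hρ z']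
      have hgs : s • g • z.1 = g • z'.1 := by rw [mul_smul, e', smul_inv_smul]
      have hgp : g • s • p = s • p := by
        have hk : g * s * g⁻¹ ∈ R := (Subgroup.mem_normalizer_iff.1 (hCR hg) s).1 hs
        have hfix : (s⁻¹ * (g * s * g⁻¹)) • (g • z.1) = g • z.1 := by
          rw [mul_smul, mul_smul, mul_smul, inv_smul_smul, hsz, ← hgs, inv_smul_smul]
        have := hVz _ (hRfix _ (mul_mem (inv_mem hs) hk) _ (hL g hg z.1 z.2) hfix) p hp
        rw [mul_smul, mul_smul, mul_smul, inv_smul_eq_iff, inv_smul_eq_iff.2 gp.symm] at this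
        exact this
      have hsp : s • p = p := hone _ (hL s (hRC hs) p hp) hgp
      refine Subtype.ext ?_
      rw [← hsz]
      exact (hVz _ (hRfix s hs p hp hsp) z.1 z.2).symm
    intro m hm
    obtain ⟨z, hz⟩ := (Finite.injective_iff_surjective.1 hinj) ⟨m • p, hL m (hRC hm) p hp⟩
    have hz' : (ρ z)⁻¹ • g • ρ z • p = m • p := by rw [hρ z]; exact congrArg Subtype.val hz
    set r := ρ z
    have hr := hρR z
    have hgr : g * r * g⁻¹ ∈ R := (Subgroup.mem_normalizer_iff.1 (hCR hg) r).1 hr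
    have e0 : (r⁻¹ * (g * r * g⁻¹)) • p = m • p := by
      rw [mul_smul, mul_smul, mul_smul, inv_smul_eq_iff.2 gp.symm, hz']
    set m' := r⁻¹ * (g * r * g⁻¹)
    have hv : m⁻¹ * m' ∈ h.four hxy := hRfix _ (mul_mem (inv_mem hm) (mul_mem (inv_mem hr) hgr)) p hp
      (by rw [mul_smul, e0, inv_smul_smul])
    have e2 : m'⁻¹ • p = g • m • p := by
      have hrp : r • p ∈ L := hL r (hRC hr) p hp
      have hgi : g⁻¹ • r • p = g • r • p := by
        conv_lhs => rw [← hVz _ hgg _ hrp, mul_smul, inv_smul_smul]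
      rw [← hz', show m'⁻¹ = g * r⁻¹ * g⁻¹ * r by simp only [m', mul_inv_rev, inv_inv, mul_assoc],
        mul_smul, mul_smul, mul_smul, hgi]
    rw [show m⁻¹ = m⁻¹ * m' * m'⁻¹ by group, mul_smul,
      hVz _ hv _ (hL _ (inv_mem (mul_mem (inv_mem (hRC hr)) (hRC hgr))) p hp), e2]
  intro z hz
  obtain ⟨m, hm, rfl⟩ := hRtr p hp z hz
  rw [inverts g hg hgg gp hone m hm, inverts g' hg' hgg' gp' hone' m hm]

end Odd

/-- The odd flat case: the centraliser of the four group has Sylow two-subgroup the four group. -/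
theorem noMid_flat_cent (hn : NoMid G Ω) (hF : Flat G Ω) {x y : Ω} (hxy : x ≠ y)
    (hodd : Odd (line G x y).ncard) :
    ¬ 8 ∣ Nat.card (Subgroup.centralizer (h.four hxy : Set G)) := by
  classical
  have : Fact (Nat.Prime 2) := ⟨Nat.prime_two⟩
  obtain ⟨t, ht, ti⟩ := h.exists_inv_two hxy
  have htV : t ∈ h.four hxy := ⟨ht, ti.2⟩
  set L := line G x y
  set Cv := Subgroup.centralizer (h.four hxy : Set G) with hCv
  have hcomm : ∀ c ∈ Cv, ∀ v ∈ h.four hxy, c * v = v * c := fun c hc v hv =>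
    (Subgroup.mem_centralizer_iff.1 hc v hv).symm
  have hCvC : Cv ≤ Subgroup.centralizer ({t} : Set G) := fun c hc =>
    Subgroup.mem_centralizer_singleton_iff.2 (hcomm c hc t htV)
  have hL : ∀ k ∈ Cv, ∀ z ∈ L, k • z ∈ L := fun k hk z hz =>
    h.line_of_centralizer hF hxy htV ti.1 (hCvC hk) hz
  have hpair : ∀ z ∈ L, ∀ z' ∈ L, z ≠ z' → ∀ k ∈ Cv, k • z = z → k • z' = z' → k ∈ h.four hxy := by
    intro z hz z' hz' hne k hk kz kz'
    rw [← h.four_eq hxy hne hz hz']
    exact ⟨mem_tw.2 ⟨kz, kz'⟩, h.sq_of_cent ti hne (hz t ht ti.2) (hz' t ht ti.2) (hCvC hk) kz kz'⟩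
  -- every involution of the centraliser lies in the four group
  have hinvol : ∀ i ∈ Cv, i * i = 1 → i ∈ h.four hxy := by
    intro i hi i2
    by_contra hiV
    have ii : Inv i := ⟨fun e => hiV (e ▸ one_mem _), i2⟩
    obtain ⟨z, hz, hne⟩ : ∃ z ∈ L, i • z ≠ z := by
      by_contra k
      push Not at k
      exact hiV (hpair x (left_mem_line x y) y (right_mem_line x y) hxy i hi
        (k x (left_mem_line x y)) (k y (right_mem_line x y)))
    have hz' := hL i hi z hz
    have h4 := h.four_eq hxy (Ne.symm hne) hz hz'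
    have h2 := h.card_cent_swap (Ne.symm hne) (hn _ _ (Ne.symm hne)) (J := i) ⟨ii, rfl⟩
    have hle : ((h.four hxy : Subgroup G) : Set G) ⊆ {d | d ∈ tw G z (i • z) ∧ i * d = d * i} :=
      fun v hv => ⟨(h4 ▸ hv : v ∈ h.four (Ne.symm hne)).1, hcomm i hi v hv⟩
    have h3 := Set.ncard_le_ncard hle (Set.toFinite _)
    rw [← Nat.card_coe_set_eq, show Nat.card ↥((h.four hxy : Subgroup G) : Set G) = 4 from h.card_four' hxy,
      ← Nat.card_coe_set_eq, show Nat.card ↥{d : G | d ∈ tw G z (i • z) ∧ i * d = d * i} = 2 from h2] at h3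
    omega
  intro h8
  have hVC : h.four hxy ≤ Cv := fun v hv =>
    Subgroup.mem_centralizer_iff.2 fun w hw => h.four_comm hxy hw hv
  have hVp : IsPGroup 2 (h.four hxy) := IsPGroup.of_card (n := 2) (h.card_four' hxy)
  obtain ⟨S, hS⟩ := (hVp.comap_of_injective Cv.subtype Cv.subtype_injective).exists_le_sylow
  set R := (S : Subgroup Cv).map Cv.subtype
  have hRC : R ≤ Cv := Subgroup.map_subtype_le _
  have hRp : IsPGroup 2 R := S.2.map _
  have hR8 : 8 ∣ Nat.card R := by
    rw [Subgroup.card_map_of_injective Cv.subtype_injective]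
    exact S.pow_dvd_card_of_pow_dvd_card (n := 3) h8
  obtain ⟨r₀, hr₀, hr₀V⟩ : ∃ r ∈ R, r ∉ h.four hxy := by
    by_contra k
    push Not at k
    have := Nat.le_of_dvd Nat.card_pos hR8
    have := Subgroup.card_le_of_le (show R ≤ h.four hxy from k)
    rw [h.card_four' hxy] at this
    omega
  obtain ⟨z, hz, hzV, hzz⟩ : ∃ z ∈ R, z ∉ h.four hxy ∧ z * z ∈ h.four hxy := by
    obtain ⟨j, hj⟩ : ∃ j : ℕ, r₀ ^ 2 ^ j = 1 := by
      obtain ⟨j, hj⟩ := hRp ⟨r₀, hr₀⟩
      exact ⟨j, by simpa using congrArg Subtype.val hj⟩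
    have hex : ∃ j : ℕ, r₀ ^ 2 ^ j ∈ h.four hxy := ⟨j, hj ▸ one_mem _⟩
    have h0 : Nat.find hex ≠ 0 := fun e => hr₀V (by
      have := Nat.find_spec hex
      rwa [e, pow_zero, pow_one] at this)
    refine ⟨r₀ ^ 2 ^ (Nat.find hex - 1), pow_mem hr₀ _, Nat.find_min hex (by omega), ?_⟩
    rw [← pow_add, ← two_mul, ← pow_succ', Nat.sub_add_cancel (Nat.pos_of_ne_zero h0)]
    exact Nat.find_spec hex
  -- a fixed point of the two-group on the line
  letI act : MulAction R L :=
    { smul := fun k u => ⟨(k : G) • (u : Ω), hL k (hRC k.2) u u.2⟩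
      one_smul := fun u => Subtype.ext (one_smul G (u : Ω))
      mul_smul := fun a b u => Subtype.ext (mul_smul (a : G) (b : G) (u : Ω)) }
  obtain ⟨⟨p, hp⟩, hfix⟩ := hRp.nonempty_fixed_point_of_prime_not_dvd_card L (by
    rw [Nat.card_coe_set_eq, ← even_iff_two_dvd]
    exact Nat.not_even_iff_odd.2 hodd)
  have hRp' : ∀ k ∈ R, k • p = p := fun k hk => congrArg Subtype.val (hfix ⟨k, hk⟩)
  -- an element inducing a three-cycle and normalising the two-group
  obtain ⟨r, hr, r2⟩ := h.exists_three hxy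
  have hrV : ∀ v : G, v ∈ h.four hxy → r * v * r⁻¹ ∈ h.four hxy := fun v hv => by
    have := conj_mem_tw (c := r) hv.1
    rw [(mem_tw.1 hr).1, (mem_tw.1 hr).2] at this
    exact ⟨this, by rw [show r * v * r⁻¹ * (r * v * r⁻¹) = r * (v * v) * r⁻¹ by group, hv.2, mul_one, mul_inv_cancel]⟩
  have hrV' : ∀ v : G, v ∈ h.four hxy → r⁻¹ * v * r ∈ h.four hxy := fun v hv => by
    have := conj_mem_tw (c := r⁻¹) hv.1
    rw [inv_inv, inv_smul_eq_iff.2 (mem_tw.1 hr).1.symm, inv_smul_eq_iff.2 (mem_tw.1 hr).2.symm] at this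
    exact ⟨this, by rw [show r⁻¹ * v * r * (r⁻¹ * v * r) = r⁻¹ * (v * v) * r by group, hv.2, mul_one, inv_mul_cancel]⟩
  have hrCv : ∀ c ∈ Cv, r * c * r⁻¹ ∈ Cv := fun c hc => Subgroup.mem_centralizer_iff.2 fun v hv => by
    have := hcomm c hc _ (hrV' v hv)
    calc v * (r * c * r⁻¹) = r * ((r⁻¹ * v * r) * c) * r⁻¹ := by group
      _ = r * c * r⁻¹ * v := by rw [← this]; group
  have hrCv' : ∀ c ∈ Cv, r⁻¹ * c * r ∈ Cv := fun c hc => Subgroup.mem_centralizer_iff.2 fun v hv => by
    have := hcomm c hc _ (hrV v hv)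
    calc v * (r⁻¹ * c * r) = r⁻¹ * ((r * v * r⁻¹) * c) * r := by group
      _ = r⁻¹ * c * r * v := by rw [← this]; group
  let σ : Cv ≃* Cv :=
    { toFun := fun c => ⟨r * c * r⁻¹, hrCv c c.2⟩
      invFun := fun c => ⟨r⁻¹ * c * r, hrCv' c c.2⟩
      left_inv := fun c => Subtype.ext (by simp [mul_assoc])
      right_inv := fun c => Subtype.ext (by simp [mul_assoc])
      map_mul' := fun a b => Subtype.ext (by simp [mul_assoc]) }
  let S' : Sylow 2 Cv := S.comapOfInjective σ.symm.toMonoidHom σ.symm.injective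
    (fun a _ => ⟨σ a, σ.symm_apply_apply a⟩)
  obtain ⟨c, hc⟩ := MulAction.exists_smul_eq Cv S' S
  have hconj : ∀ k ∈ R, (c : G) * (r * k * r⁻¹) * (c : G)⁻¹ ∈ R := by
    rintro _ ⟨k, hk, rfl⟩
    refine ⟨c * σ k * c⁻¹, ?_, rfl⟩
    rw [← hc, SetLike.mem_coe, Sylow.coe_subgroup_smul, Subgroup.mem_pointwise_smul_iff_inv_smul_mem,
      show (MulAut.conj c)⁻¹ • (c * σ k * c⁻¹) = σ k by
        rw [MulAut.smul_def, MulAut.conj_inv_apply]; group]
    show σ.symm (σ k) ∈ (S : Subgroup Cv)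
    rwa [σ.symm_apply_apply]
  set z' := (c : G) * (r * z * r⁻¹) * (c : G)⁻¹ with hz'
  have hsq' : z' * z' = r * (z * z) * r⁻¹ := by
    rw [hz', show (c : G) * (r * z * r⁻¹) * (c : G)⁻¹ * ((c : G) * (r * z * r⁻¹) * (c : G)⁻¹) =
      (c : G) * (r * (z * z) * r⁻¹) * (c : G)⁻¹ by group, hcomm _ c.2 _ (hrV _ hzz), mul_inv_cancel_right]
  have hz'R := hconj z hz
  have hz'V : z' ∉ h.four hxy := fun k => hzV (by
    have e : r * z * r⁻¹ = z' := by
      rw [show r * z * r⁻¹ = (c : G)⁻¹ * z' * c by rw [hz']; group, mul_assoc,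
        ← hcomm _ c.2 _ k, inv_mul_cancel_left]
    have := hrV' _ k
    rwa [← e, show r⁻¹ * (r * z * r⁻¹) * r = z by group] at this)
  have hone : ∀ k ∈ R, k ∉ h.four hxy → ∀ u ∈ L, k • u = u → u = p := fun k hk hkV u hu ku =>
    by_contra fun hne => hkV (hpair u hu p hp hne k (hRC hk) ku (hRp' k hk))
  have hzz' : z' * z' ∈ h.four hxy := hsq' ▸ hrV _ hzz
  have hag := h.agree_on_line hF hxy htV ti.1 hp (hCvC (hRC hz)) (hCvC (hRC hz'R)) hzz hzz'
    (hRp' z hz) (hRp' z' hz'R) (hone z hz hzV) (hone z' hz'R hz'V)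
  have hv : z⁻¹ * z' ∈ h.four hxy := hpair x (left_mem_line x y) y (right_mem_line x y) hxy _
    (mul_mem (inv_mem (hRC hz)) (hRC hz'R))
    (by rw [mul_smul, ← hag x (left_mem_line x y), inv_smul_smul])
    (by rw [mul_smul, ← hag y (right_mem_line x y), inv_smul_smul])
  set v := z⁻¹ * z' with hvdef
  have e : z' * z' = z * z := by
    rw [show z' = z * v by rw [hvdef, mul_inv_cancel_left],
      show z * v * (z * v) = z * (v * z) * v by group, ← hcomm z (hRC hz) v hv, mul_assoc z (z * v) v,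
      mul_assoc z v v, hv.2, mul_one]
  rw [hsq'] at e
  have h1 := h.two_fpf hxy hr hzz.1 r2 hzz.2 (mul_inv_eq_iff_eq_mul.1 e)
  exact hzV (hinvol z (hRC hz) h1)

/-- The odd flat case is the alternating group of degree seven. -/
theorem noMid_flat_odd (hn : NoMid G Ω) (hF : Flat G Ω) {t : G} (hT : IsT Ω t)
    (hodd : Odd (fixCard Ω t)) :
    Nat.card Ω = 15 ∧ Nonempty (G ≃* ↥(alternatingGroup (Fin 7))) := by
  classical
  haveI := h.faithful
  have : Fact (Nat.Prime 2) := ⟨Nat.prime_two⟩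
  obtain ⟨x, y, hxy, hx, hy⟩ := hT.2
  have htV : t ∈ h.four hxy := ⟨mem_tw.2 ⟨hx, hy⟩, hT.1.2⟩
  have hLf := h.line_card_of_flat hF hxy hT
  have h8 := h.noMid_flat_cent hn hF hxy (by rwa [hLf])
  set f := fixCard Ω t with hfdef
  have hf2 : 2 ≤ f := two_le_fixCard h hT
  have hf3 : 3 ≤ f := by rw [Nat.odd_iff] at hodd; omega
  have heqn : Nat.card Ω - f = 2 * (f * (f - 1)) := h.eq_A hn hT
  have hfn : f ≤ Nat.card Ω := Finite.card_subtype_le _
  obtain ⟨u, hu⟩ := Nat.exists_eq_add_of_le hf2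
  have hnat : Nat.card Ω = f * (2 * f - 1) := by
    rw [hu] at heqn hfn ⊢
    rw [show 2 + u - 1 = 1 + u by omega] at heqn
    rw [show 2 * (2 + u) - 1 = 3 + 2 * u by omega]
    have e : (2 + u) * (3 + 2 * u) = 2 * ((2 + u) * (1 + u)) + (2 + u) := by ring
    omega
  set C := Subgroup.centralizer ({t} : Set G) with hCdef
  set Cv := Subgroup.centralizer (h.four hxy : Set G)
  have hCc : Nat.card C = 4 * (f * (f - 1)) := h.card_centralizer hT
  obtain ⟨w, hw, w1, wt⟩ := h.exists_third hxy t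
  obtain ⟨s, hs, hst, hsw⟩ := h.exists_sigma hn hxy htV hT.1.1 hw w1 wt
  have hwt : w * t ≠ w := fun e => hT.1.1 (mul_eq_left.1 e)
  have hfour : ∀ v ∈ h.four hxy, v = 1 ∨ v = t ∨ v = w ∨ v = w * t := by
    intro v hv
    have hsub : ({1, t, w, w * t} : Set G) ⊆ (h.four hxy : Set G) := by
      rintro u (rfl | rfl | rfl | rfl)
      · exact one_mem _
      · exact htV
      · exact hw
      · exact mul_mem hw htV
    have e1 : w * t ≠ 1 := fun e => wt (by rw [eq_inv_of_mul_eq_one_left e, hT.1.inv_eq])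
    have e2 : w * t ≠ t := fun e => w1 (mul_eq_right.1 e)
    have h4 : ({1, t, w, w * t} : Set G).ncard = 4 := by
      rw [Set.ncard_insert_of_notMem, Set.ncard_insert_of_notMem, Set.ncard_pair hwt.symm]
      · simp [Ne.symm wt, e2.symm]
      · simp [hT.1.1.symm, w1.symm, e1.symm]
    have := Set.eq_of_subset_of_ncard_le hsub (by
      rw [h4, ← Nat.card_coe_set_eq]
      exact (h.card_four' hxy).le) (Set.toFinite _)
    exact (this ▸ hv : v ∈ ({1, t, w, w * t} : Set G))
  have hCN := h.centralizer_le_normalizer hF hxy htV hT.1.1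
  have hind : Nat.card C = 2 * Nat.card Cv := by
    letI act : MulAction C G := MulAction.compHom G ((ConjAct.toConjAct (G := G)).toMonoidHom.comp C.subtype)
    have hsm : ∀ (c : C) (u : G), c • u = (c : G) * u * (c : G)⁻¹ := fun c u => rfl
    have h1 := (stabilizer C w).card_mul_index
    rw [index_stabilizer] at h1
    have hor : orbit C w = {w, w * t} := by
      ext u
      constructor
      · rintro ⟨c, rfl⟩
        show c • w ∈ _
        rw [hsm]
        rcases hfour _ ((Subgroup.mem_normalizer_iff.1 (hCN c.2) w).1 hw) with e | e | e | e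
        · exact absurd (conj_eq_one_iff.1 e) w1
        · exact absurd (show w = t by
            rw [show w = (c : G)⁻¹ * ((c : G) * w * (c : G)⁻¹) * c by group, e, mul_assoc,
              ← Subgroup.mem_centralizer_singleton_iff.1 c.2, inv_mul_cancel_left]) wt
        · exact Or.inl e
        · exact Or.inr e
      · rintro (rfl | rfl)
        · exact mem_orbit_self _
        · refine ⟨⟨s, Subgroup.mem_centralizer_singleton_iff.2 hst⟩, ?_⟩
          show s * w * s⁻¹ = w * t
          rw [hs.1.inv_eq, hsw]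
    rw [hor, Set.ncard_pair hwt.symm] at h1
    rw [← h1, mul_comm]
    congr 1
    refine Nat.card_congr
      { toFun := fun c => ⟨c.1.1, ?_⟩
        invFun := fun c => ⟨⟨c.1, ?_⟩, ?_⟩
        left_inv := fun _ => rfl
        right_inv := fun _ => rfl }
    · refine Subgroup.mem_centralizer_iff.2 fun v hv => ?_
      have e1 : (c.1 : G) * t = t * c.1 := Subgroup.mem_centralizer_singleton_iff.1 c.1.2
      have e2 : (c.1 : G) * w = w * c.1 := by
        have := c.2
        rw [mem_stabilizer_iff, hsm, mul_inv_eq_iff_eq_mul] at this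
        exact this
      rcases hfour v hv with rfl | rfl | rfl | rfl
      · rw [one_mul, mul_one]
      · exact e1.symm
      · exact e2.symm
      · exact (((show Commute (c.1 : G) w from e2).mul_right e1).eq).symm
    · exact Subgroup.mem_centralizer_singleton_iff.2 (Subgroup.mem_centralizer_iff.1 c.2 t htV).symm
    · rw [mem_stabilizer_iff, hsm, mul_inv_eq_iff_eq_mul]
      exact (Subgroup.mem_centralizer_iff.1 c.2 w hw).symm
  have hf4 : f % 4 = 3 := by
    rw [Nat.odd_iff] at hodd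
    by_contra k
    refine h8 ?_
    have : 4 ∣ f - 1 := by omega
    obtain ⟨a, ha⟩ := this
    refine ⟨f * a, ?_⟩
    rw [hind, ha] at hCc
    rw [show 8 * (f * a) = 2 * (f * (4 * a)) by ring]
    omega
  obtain ⟨a, ha⟩ : ∃ a, f = 4 * a + 3 := ⟨f / 4, by omega⟩
  have hn1 : Nat.card Ω - 1 = (2 * f + 1) * (f - 1) := by
    rw [hnat, hu, show 2 * (2 + u) - 1 = 3 + 2 * u by omega, show 2 + u - 1 = 1 + u by omega]
    have : (2 + u) * (3 + 2 * u) = (2 * (2 + u) + 1) * (1 + u) + 1 := by ring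
    omega
  have hG : Nat.card G = 8 * (3 * ((2 * a + 1) * (f * ((2 * f - 1) * (2 * f + 1))))) := by
    rw [h.card_group, hn1, hnat, show f - 1 = 2 * (2 * a + 1) by omega]
    ring
  -- a dihedral Sylow subgroup
  set r := s * w with hr
  have hr2 : r * r = t := by
    rw [hr, show s * w * (s * w) = s * w * s * w by group, hsw, mul_assoc, h.four_comm hxy htV hw,
      ← mul_assoc, hw.2, one_mul]
  have hro : orderOf r = 2 ^ (1 + 1) := by
    refine orderOf_eq_prime_pow ?_ ?_
    · rw [pow_one, pow_two, hr2]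
      exact hT.1.1
    · rw [show (2 : ℕ) ^ (1 + 1) = 2 * 2 by norm_num, pow_mul, pow_two r, hr2, pow_two, hT.1.2]
  let e4 : Multiplicative (ZMod 4) ≃* Subgroup.zpowers r := mulEquivOfCyclicCardEq (by
    rw [Nat.card_congr Multiplicative.toAdd, Nat.card_zmod, Nat.card_zpowers, hro]; norm_num)
  let T : Multiplicative (ZMod 4) →* G := (Subgroup.zpowers r).subtype.comp e4.toMonoidHom
  have hinvr : s * r * s⁻¹ = r⁻¹ := by
    rw [hr, mul_inv_rev, hs.1.inv_eq, Inv.inv_eq ⟨w1, hw.2⟩]
    calc s * (s * w) * s = (s * s) * w * s := by group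
      _ = w * s := by rw [hs.1.2, one_mul]
  have hTs : ∀ b, T b * s = s * T b⁻¹ := by
    intro b
    obtain ⟨i, hi⟩ := (e4 b).2
    have hi' : T b = r ^ i := hi.symm
    have : s * T b * s⁻¹ = (T b)⁻¹ := by
      rw [hi', ← conj_zpow, hinvr, inv_zpow]
    rw [map_inv, ← this]
    simp only [← mul_assoc, hs.1.2, one_mul, hs.1.inv_eq]
  have hTinj : Function.Injective T := Subtype.val_injective.comp e4.injective
  have hsT : ∀ b, T b ≠ s := by
    intro b hb
    obtain ⟨i, hi⟩ := (e4 b).2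
    have hb' : r ^ i = s := hi.trans hb
    have := hinvr
    rw [← hb', ((Commute.refl r).zpow_left i).eq, mul_inv_cancel_right] at this
    refine hT.1.1 ?_
    rw [← hr2]
    exact mul_eq_one_iff_eq_inv.2 this
  let δ := H27.Dihedral.ofInverting T s hs.1.2 hTs
  have hδ : Function.Injective δ := H27.Dihedral.ofInverting_bijective_range T s hs.1.2 hTs hTinj hsT
  have hDc : Nat.card δ.range = 8 := by
    rw [← Nat.card_congr (MonoidHom.ofInjective hδ).toEquiv, DihedralGroup.nat_card]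
  have hSidx : ¬ 2 ∣ δ.range.index := by
    have e := δ.range.card_mul_index
    rw [hDc, hG] at e
    rw [Nat.eq_of_mul_eq_mul_left (show 0 < 8 by norm_num) e]
    refine fun k => Nat.not_even_iff_odd.2 ?_ (even_iff_two_dvd.2 k)
    exact (show Odd 3 by decide).mul ((odd_two_mul_add_one a).mul
      (hodd.mul ((Nat.odd_iff.2 (by omega)).mul (odd_two_mul_add_one f))))
  let S : Sylow 2 G := (IsPGroup.of_card (p := 2) (n := 3) hDc).toSylow hSidx
  -- no odd normal subgroup
  have hodd0 : ∀ N : Subgroup G, N.Normal → Odd (Nat.card N) → N = ⊥ := by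
    intro N hN hNo
    by_contra hne
    obtain ⟨p, m, hp, hpm⟩ := h.primePow_of_odd_normal hne hNo
    rw [hnat] at hpm
    obtain ⟨i, -, hi⟩ := (Nat.dvd_prime_pow hp).1 (show f ∣ p ^ m from ⟨_, hpm.symm⟩)
    obtain ⟨j, -, hj⟩ := (Nat.dvd_prime_pow hp).1 (show 2 * f - 1 ∣ p ^ m from ⟨f, by rw [mul_comm, hpm]⟩)
    have hi0 : i ≠ 0 := fun e => by rw [hi, e, pow_zero] at hf2; omega
    have hj0 : j ≠ 0 := fun e => by rw [e, pow_zero] at hj; omega
    have h1 := Nat.dvd_sub (dvd_mul_of_dvd_right (hi ▸ dvd_pow_self p hi0 : p ∣ f) 2)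
      (hj ▸ dvd_pow_self p hj0 : p ∣ 2 * f - 1)
    rw [show 2 * f - (2 * f - 1) = 1 by omega] at h1
    exact hp.one_lt.ne' (Nat.dvd_one.1 h1)
  -- a minimal normal subgroup
  obtain ⟨N, hNn, -, hNne, hNmin⟩ := Perm.exists_minimal_normal_le (N := (⊤ : Subgroup G))
    (fun e => hT.1.1 (Subgroup.mem_bot.1 (e ▸ Subgroup.mem_top t)))
  have hNev : 2 ∣ Nat.card N := by
    by_contra k
    exact hNne (hodd0 N hNn (Nat.odd_iff.2 (by omega)))
  obtain ⟨i₀, hi₀⟩ := exists_prime_orderOf_dvd_card' (G := N) 2 hNev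
  rw [← Subgroup.orderOf_coe] at hi₀
  have hinvN : ∀ i : G, Inv i → i ∈ N := by
    intro i hi
    obtain ⟨g, hg⟩ := h.isT_conj (h.allT_of_noMid hn _ (inv_of_orderOf hi₀)) (h.allT_of_noMid hn i hi)
    exact hg ▸ hNn.conj_mem _ i₀.2 g
  have hwN : w ∈ N := hinvN w ⟨w1, hw.2⟩
  have hsN : s ∈ N := hinvN s hs.1
  have htN : t ∈ N := hinvN t hT.1
  have hSN : δ.range ≤ N := by
    rintro _ ⟨d, rfl⟩
    have hrN : ∀ b, T b ∈ N := fun b => by
      obtain ⟨i, hi⟩ := (e4 b).2
      have hi' : T b = r ^ i := hi.symm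
      rw [hi']
      exact zpow_mem (mul_mem hsN hwN) i
    rcases d with i | i
    · exact hrN _
    · exact mul_mem hsN (hrN _)
  have hperf : Group.IsPerfect ↥N := by
    have : N.Normal := hNn
    rcases hNmin ⁅N, N⁆ inferInstance (Subgroup.commutator_le_self N) with e | e
    · exfalso
      have h1 := Subgroup.commutator_mem_commutator hsN hwN
      rw [e, Subgroup.mem_bot, commutatorElement_eq_one_iff_mul_comm] at h1
      rw [mul_assoc, ← h1, ← mul_assoc, hs.1.2, one_mul] at hsw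
      exact hwt hsw.symm
    · exact Subgroup.isPerfect_iff.2 e
  let S₁ : Sylow 2 N := S.subtype hSN
  have hS₁ : Nonempty ((S₁ : Subgroup N) ≃* DihedralGroup 4) :=
    ⟨(Subgroup.subgroupOfEquivOfLe hSN).trans (MonoidHom.ofInjective hδ).symm⟩
  have hcore : Cfsg.oddCore ↥N = ⊥ := by
    haveI : (Cfsg.oddCore ↥N).Characteristic := Cores.pPrimeCore_characteristic
    have hcn : ((Cfsg.oddCore ↥N).map N.subtype).Normal := ConjAct.normal_of_characteristic_of_normal
    have := hodd0 _ hcn (by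
      rw [Subgroup.card_map_of_injective N.subtype_injective]; exact Cores.odd_card_oddCore)
    exact Subgroup.map_injective N.subtype_injective (this.trans (Subgroup.map_bot _).symm)
  let eN : ↥N ⧸ Cfsg.oddCore ↥N ≃* ↥N := (QuotientGroup.quotientMulEquivOfEq hcore).trans QuotientGroup.quotientBot
  have hNt := H36.CyZ.card_dvd_of_trans N x (H36.CyZ.normal_trans h.two N hNne x)
  rcases Cfsg.Agent.S0483.result S₁ 4 (by norm_num) hS₁ with ⟨F, _, _, hFodd, -, ⟨φ⟩⟩ | hA7
  · -- the linear case is impossible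
    exfalso
    let ψ := eN.symm.trans φ
    set a := ψ ⟨w, hwN⟩
    set b := ψ ⟨t, htN⟩
    have hsq : ∀ (u : G) (hu : u ∈ N), u * u = 1 → ψ ⟨u, hu⟩ * ψ ⟨u, hu⟩ = 1 := fun u hu u2 => by
      rw [← map_mul, ← map_one ψ]; exact congrArg ψ (Subtype.ext u2)
    have hab : Commute a b := by
      show ψ _ * ψ _ = ψ _ * ψ _
      rw [← map_mul, ← map_mul]; exact congrArg ψ (Subtype.ext (h.four_comm hxy hw htV))
    have hne1 : ∀ (u : G) (hu : u ∈ N), u ≠ 1 → ψ ⟨u, hu⟩ ≠ 1 := fun u hu u1 k =>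
      u1 (congrArg Subtype.val ((map_eq_one_iff ψ ψ.injective).1 k))
    have hcent : ∀ c ∈ N, c ∈ Cv → c ∈ h.four hxy := by
      intro c hcN hc
      have hmem : ψ ⟨c, hcN⟩ ∈ Subgroup.centralizer ({b, a} : Set _) := by
        refine Subgroup.mem_centralizer_iff.2 fun u hu => ?_
        rcases hu with rfl | rfl <;> show ψ _ * ψ _ = ψ _ * ψ _ <;> rw [← map_mul, ← map_mul] <;>
          refine congrArg ψ (Subtype.ext ?_)
        · exact Subgroup.mem_centralizer_iff.1 hc t htV
        · exact Subgroup.mem_centralizer_iff.1 hc w hw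
      have hcl := H88.Walter.PSL.centralizer_four (v := b) (u := a) hFodd (hne1 _ _ hT.1.1)
        (hsq _ _ hT.1.2) hab (hsq _ _ hw.2) (hne1 _ _ w1)
        (fun k => wt (congrArg Subtype.val (ψ.injective k))) hmem
      have hle : Subgroup.closure ({b, a} : Set _) ≤ ((h.four hxy).subgroupOf N).map ψ.toMonoidHom := by
        refine (Subgroup.closure_le _).2 ?_
        rintro _ (rfl | rfl)
        · exact ⟨⟨t, htN⟩, Subgroup.mem_subgroupOf.2 htV, rfl⟩
        · exact ⟨⟨w, hwN⟩, Subgroup.mem_subgroupOf.2 hw, rfl⟩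
      obtain ⟨c', hc', e⟩ := hle hcl
      rw [show c = c'.1 from congrArg Subtype.val (ψ.injective e).symm]
      exact hc'
    set K := C ⊓ N with hK
    have hVK : h.four hxy ≤ K := fun v hv => by
      refine ⟨Subgroup.mem_centralizer_singleton_iff.2 (h.four_comm hxy hv htV), ?_⟩
      rcases hfour v hv with rfl | rfl | rfl | rfl
      · exact one_mem _
      · exact htN
      · exact hwN
      · exact mul_mem hwN htN
    have hK8 : Nat.card K ∣ 8 := by
      have e1 : K ⊓ Cv = h.four hxy := le_antisymm (fun c hc => hcent c hc.1.2 hc.2)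
        (le_inf hVK fun v hv => Subgroup.mem_centralizer_iff.2 fun v' hv' => h.four_comm hxy hv' hv)
      have e2 := Subgroup.relIndex_mul_relIndex ⊥ (K ⊓ Cv) K bot_le inf_le_left
      rw [Subgroup.relIndex_bot_left, Subgroup.relIndex_bot_left, Subgroup.inf_relIndex_left, e1,
        h.card_four' hxy] at e2
      have hne' : Cv.relIndex C = 2 := by
        have := Subgroup.relIndex_mul_relIndex ⊥ Cv C bot_le (fun c hc =>
          Subgroup.mem_centralizer_singleton_iff.2 (Subgroup.mem_centralizer_iff.1 hc t htV).symm)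
        rw [Subgroup.relIndex_bot_left, Subgroup.relIndex_bot_left, hind, mul_comm] at this
        exact Nat.eq_of_mul_eq_mul_right Nat.card_pos this
      have hle2 : Cv.relIndex K ≤ 2 := by
        rw [← hne']
        exact Subgroup.relIndex_le_of_le_right inf_le_left (by omega)
      have hpos : 0 < Nat.card K := Nat.card_pos
      have hor : Cv.relIndex K = 1 ∨ Cv.relIndex K = 2 := by
        rcases Nat.eq_zero_or_pos (Cv.relIndex K) with k | k
        · rw [k, mul_zero] at e2; omega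
        · omega
      rcases hor with k | k <;> rw [← e2, k]
      norm_num
    -- `K` is transitive on the line
    have hsx : s ∈ K := ⟨Subgroup.mem_centralizer_singleton_iff.2 hst, hsN⟩
    have hconj : ∀ g ∈ C, ∀ k ∈ K, g * k * g⁻¹ ∈ K := fun g hg k hk =>
      ⟨(mul_mem (mul_mem hg hk.1) (inv_mem hg) : g * k * g⁻¹ ∈ C), hNn.conj_mem k hk.2 g⟩
    have htr : ∀ z, z ∈ line G x y ↔ ∃ k ∈ K, k • x = z := by
      intro z
      refine ⟨fun hz => ?_, fun ⟨k, hk, e⟩ => e ▸ h.line_of_centralizer hF hxy htV hT.1.1 hk.1 (left_mem_line x y)⟩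
      by_cases hzx : z = x
      · exact ⟨1, one_mem _, by rw [one_smul, hzx]⟩
      obtain ⟨g, hg, gx, gy⟩ := h.witt hT.1 hxy (Ne.symm hzx) hx hy hx (hz t htV.1 htV.2)
      refine ⟨g * s * g⁻¹, hconj g hg s hsx, ?_⟩
      rw [mul_smul, mul_smul, inv_smul_eq_iff.2 gx.symm, hs.2, gy]
    have h1 := card_eq_orbit_mul K x (line G x y) htr
    rw [hLf] at h1
    have hd8 : f ∣ 8 := (Dvd.intro _ h1.symm).trans hK8
    obtain ⟨i, -, hi⟩ := (Nat.dvd_prime_pow Nat.prime_two).1 (show f ∣ 2 ^ 3 from hd8)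
    rw [Nat.odd_iff] at hodd
    rcases i with _ | i
    · simp at hi; omega
    · rw [hi, pow_succ] at hodd; omega
  · obtain ⟨φ⟩ := hA7
    let ψ := eN.symm.trans φ
    have hNc : Nat.card N = 2520 := by
      rw [Nat.card_congr ψ.toEquiv, nat_card_alternatingGroup, Nat.card_fin]; rfl
    rw [hnat, hNc] at hNt
    have hf' : f = 3 := by
      have h1 : f ∈ Nat.divisors 2520 := Nat.mem_divisors.2 ⟨(Dvd.intro _ rfl).trans hNt, by norm_num⟩
      have key : ∀ f ∈ Nat.divisors 2520, f % 4 = 3 → f * (2 * f - 1) ∣ 2520 → f = 3 := by decide +kernel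
      exact key f h1 hf4 hNt
    have hn15 : Nat.card Ω = 15 := by rw [hnat, hf']
    refine ⟨hn15, ?_⟩
    have hNtop : N = ⊤ := Subgroup.eq_top_of_card_eq N (by rw [hNc, h.card_group, hn15])
    exact ⟨(Subgroup.topEquiv.symm.trans (MulEquiv.subgroupCongr hNtop.symm)).trans ψ⟩

/-- Without central exchanging involutions the group is alternating of degree six or seven. -/
theorem conclusion_noMid (hn : NoMid G Ω) :
    (Nat.card Ω = 6 ∧ Nonempty (G ≃* ↥(alternatingGroup (Fin 6)))) ∨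
      (Nat.card Ω = 15 ∧ Nonempty (G ≃* ↥(alternatingGroup (Fin 7)))) := by
  have hF := h.caseA_flat_of_noMid hn
  obtain ⟨t, hT⟩ := h.exists_isT
  obtain ⟨x, y, hxy, -, -⟩ := hT.2
  have hLf := h.line_card_of_flat hF hxy hT
  rcases Nat.even_or_odd (fixCard Ω t) with hev | hodd
  · left
    have he := h.thinA_even hn hxy (by rwa [hLf])
    rw [hLf] at he
    have heqn := h.eq_A hn hT
    have hd : Nat.card Ω = 6 := by
      have hfn : fixCard Ω t ≤ Nat.card Ω := Finite.card_subtype_le _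
      rw [he] at heqn hfn
      omega
    exact ⟨hd, h.iso_alt_six hd⟩
  · exact Or.inr (h.noMid_flat_odd hn hF hT hodd)

end Hyp

end Cfsg.Agent.H6.AFour
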