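import Cfsg.Agent.H6.AFour.BThin.OneClass
import Cfsg.Agent.H6.AFour.BThin.SquareOdd
import Cfsg.Agent.H6.AFour.BThin.SquareEven

/-!
# Case B is impossible in the thin case
-/

set_option autoImplicit false
set_option linter.unusedSectionVars false

namespace Cfsg.Agent.H6.AFour

open MulAction

variable {G Ω : Type*} [Group G] [MulAction G Ω]

namespace Hyp

variable (h : Hyp G Ω) [Finite G] [Finite Ω]
include h

theorem caseB_thin_false (hA : AllT G Ω) (hn : ¬ NoMid G Ω) (hth : ¬ Flat G Ω) : False := by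
  obtain ⟨x, y, hxy⟩ := h.nontriv
  obtain ⟨t, ht, ti⟩ := h.exists_inv_two hxy
  have htV : t ∈ h.four hxy := ⟨ht, ti.2⟩
  have hT : IsT Ω t := h.isT_of_mem hxy ht ti
  obtain ⟨w, hw, w1, wt⟩ := h.exists_third hxy t
  have hwC : w ∈ Subgroup.centralizer ({t} : Set G) :=
    Subgroup.mem_centralizer_singleton_iff.2 (h.four_comm hxy hw htV)
  obtain ⟨hτ, hτc⟩ := h.isTau_of_four hth hxy htV ti.1 hw w1 wt hwC
  have hex := h.caseB_exists_swap hA hn hth hT
  have hsquare : fixCard Ω t = (line G x y).ncard ^ 2 := by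
    rcases (h.two_hyp hth hT).dichotomy hτ with ⟨hall, -⟩ | ⟨hf, -⟩
    · obtain ⟨q, hq⟩ := hex
      exact absurd hq (hall q hq.1).not_isSwap
    · rw [hτc] at hf
      exact hf
  rcases Nat.even_or_odd (fixCard Ω t) with hev | hodd
  · exact h.caseB_square_even_false hA hn hth hxy htV ti.1 hw w1 wt hev hsquare hex
  · exact h.caseB_square_odd_false hA hn hth hT hsquare hodd hex

end Hyp

end Cfsg.Agent.H6.AFour
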