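import Cfsg.Agent.H6.AFour.Count
import Cfsg.Agent.H49.UChar.Isolated

/-!
# Odd degree with involutions fixing a single point
-/

set_option autoImplicit false
set_option linter.unusedSectionVars false

namespace Cfsg.Agent.H6.AFour

open MulAction

variable {G Ω : Type*} [Group G] [MulAction G Ω]

variable (G Ω) in
/-- The involutions fixing at most one point. -/
def singles : Set G := {g | Inv g ∧ ¬ IsT Ω g}

theorem singles_conj {g : G} (hg : g ∈ singles G Ω) (c : G) : c * g * c⁻¹ ∈ singles G Ω :=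
  ⟨hg.1.conj c, fun k => hg.2 (by
    have := k.conj c⁻¹
    rwa [show c⁻¹ * (c * g * c⁻¹) * c⁻¹⁻¹ = g by group] at this)⟩

theorem singles_fix [Finite G] [Finite Ω] (hn : Odd (Nat.card Ω)) {g : G} (hg : g ∈ singles G Ω) :
    ∃! c : Ω, g • c = c := by
  have h1 : fixCard Ω g = 1 := by
    have := fixCard_le_one hg.1 hg.2
    have := fixCard_mod_two (Ω := Ω) hg.1
    rw [Nat.odd_iff.1 hn] at this
    omega
  obtain ⟨hs, ⟨c, hc⟩⟩ := Nat.card_eq_one_iff_unique.1 h1
  exact ⟨c, hc, fun d hd => congrArg Subtype.val (hs.elim ⟨d, hd⟩ ⟨c, hc⟩)⟩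

namespace Hyp

variable (h : Hyp G Ω) [Finite G] [Finite Ω]
include h

theorem three_le_of_odd (hn : Odd (Nat.card Ω)) : 3 ≤ Nat.card Ω := by
  have := h.two_le_card
  rw [Nat.odd_iff] at hn
  omega

/-- The number of single involutions fixing a point equals the number exchanging a pair. -/
theorem card_singles_at (hn : Odd (Nat.card Ω)) (k : ℕ)
    (hk : ∀ x y : Ω, x ≠ y → Nat.card ↥(singles G Ω ∩ swaps G x y) = k) (c : Ω) :
    Nat.card {g : G // g ∈ singles G Ω ∧ g • c = c} = k := by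
  classical
  have := Fintype.ofFinite Ω
  have hcnt := double_count (singles G Ω) k 1 (fun s hs => hs.1) (fun s hs => by
    obtain ⟨d, hd, hu⟩ := singles_fix hn hs
    exact Nat.card_eq_one_iff_unique.2 ⟨⟨fun a b => Subtype.ext ((hu _ a.2).trans (hu _ b.2).symm)⟩,
      ⟨⟨d, hd⟩⟩⟩) hk
  have h3 := h.three_le_of_odd hn
  have hS : Nat.card (singles G Ω) = k * Nat.card Ω := by
    refine Nat.eq_of_mul_eq_mul_right (show 0 < Nat.card Ω - 1 by omega) ?_
    rw [hcnt, mul_assoc]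
  have hsum : Nat.card (singles G Ω) = Nat.card Ω * Nat.card {g : G // g ∈ singles G Ω ∧ g • c = c} := by
    have e : (Σ z : Ω, {g : G // g ∈ singles G Ω ∧ g • z = z}) ≃ singles G Ω :=
      Equiv.ofBijective (fun p => ⟨p.2.1, p.2.2.1⟩) ⟨fun p q e => by
        obtain ⟨z, g, hg, hgz⟩ := p
        obtain ⟨z', g', hg', hgz'⟩ := q
        obtain rfl : g = g' := congrArg Subtype.val e
        obtain ⟨d, -, hu⟩ := singles_fix hn hg
        obtain rfl : z = z' := (hu _ hgz).trans (hu _ hgz').symm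
        rfl,
        fun g => by
          obtain ⟨d, hd, -⟩ := singles_fix hn g.2
          exact ⟨⟨d, g.1, g.2, hd⟩, rfl⟩⟩
    rw [← Nat.card_congr e, Nat.card_sigma, Finset.sum_congr rfl fun z _ => ?_, Finset.sum_const,
      Finset.card_univ, smul_eq_mul, ← Nat.card_eq_fintype_card]
    have := H36.CyZ.isTrans h.two
    obtain ⟨a, ha⟩ := MulAction.exists_smul_eq G z c
    refine Nat.card_congr ((MulAut.conj a).toEquiv.subtypeEquiv fun g => ?_)
    simp only [MulEquiv.toEquiv_eq_coe, MulEquiv.coe_toEquiv, MulAut.conj_apply]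
    constructor
    · rintro ⟨hg, hgz⟩
      exact ⟨singles_conj hg a, by rw [← ha, mul_smul, mul_smul, inv_smul_smul, hgz]⟩
    · rintro ⟨hg, hgz⟩
      refine ⟨?_, MulAction.injective a ?_⟩
      · have := singles_conj hg a⁻¹
        rwa [show a⁻¹ * (a * g * a⁻¹) * a⁻¹⁻¹ = g by group] at this
      · rwa [← ha, mul_smul, mul_smul, inv_smul_smul] at hgz
  rw [hS, mul_comm k] at hsum
  exact (Nat.eq_of_mul_eq_mul_left (by omega) hsum).symm

/-- Case C in odd degree: the central exchanging involution is isolated. -/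
theorem conclusion_C_odd (hC : CaseC G Ω) (hn : Odd (Nat.card Ω)) :
    ∃ J : G, orderOf J = 2 ∧ Subgroup.centralizer ({J} : Set G) ⊔ Cfsg.oddCore G = ⊤ := by
  obtain ⟨a, b, hab⟩ := h.nontriv
  obtain ⟨J, hJ, hJT, -⟩ := hC a b hab
  have hone := h.card_singles_at hn 1 fun x y hxy => by
    obtain ⟨K, hK, hKT, hg⟩ := hC x y hxy
    rw [show singles G Ω ∩ swaps G x y = {K} from Set.ext fun g =>
      ⟨fun k => by_contra fun e => k.1.2 (hg g k.2 e), fun k => by
        rw [Set.mem_singleton_iff.1 k]; exact ⟨⟨hK.1.1, hKT⟩, hK.1⟩⟩]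
    rw [Nat.card_coe_set_eq, Set.ncard_singleton]
  refine ⟨J, hJ.1.1.orderOf, H49.UChar.sup_oddCore_top hJ.1.1.2 hJ.1.1.1 fun g hg => ?_⟩
  have hs : J ∈ singles G Ω := ⟨hJ.1.1, hJT⟩
  have hs' := singles_conj hs g
  set J' := g * J * g⁻¹
  obtain ⟨c, hc, hcu⟩ := singles_fix hn hs
  have hc' : J' • c = c := hcu _ (by show J • J' • c = J' • c; rw [← mul_smul, ← hg, mul_smul, hc])
  obtain ⟨hsub, -⟩ := Nat.card_eq_one_iff_unique.1 (hone c)
  exact congrArg Subtype.val (hsub.elim ⟨J', hs', hc'⟩ ⟨J, hs, hc⟩)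

/-- Case D has even degree. -/
theorem caseD_even (hD : CaseD G Ω) : Even (Nat.card Ω) := by
  by_contra hn
  rw [Nat.not_even_iff_odd] at hn
  obtain ⟨x, y, hxy⟩ := h.nontriv
  obtain ⟨J, hJ, hJT, hoth⟩ := hD x y hxy
  have hthree := h.card_singles_at hn 3 fun a b hab => by
    obtain ⟨K, hK, hKT, hg⟩ := hD a b hab
    rw [show singles G Ω ∩ swaps G a b = swaps G a b \ {K} from Set.ext fun g =>
      ⟨fun k => ⟨k.2, fun e => k.1.2 (Set.mem_singleton_iff.1 e ▸ hKT)⟩,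
        fun k => ⟨⟨k.1.1, hg g k.1 k.2⟩, k.1⟩⟩]
    exact h.card_others hab hK
  obtain ⟨g₀, hg₀, hg₀J⟩ := h.exists_other hxy hJ
  have hs₀ : g₀ ∈ singles G Ω := ⟨hg₀.1, hoth g₀ hg₀ hg₀J⟩
  obtain ⟨c, hc, hcu⟩ := singles_fix hn hs₀
  -- the others fix the same point
  have hfix : ∀ g ∈ swaps G x y \ {J}, g ∈ singles G Ω ∧ g • c = c := by
    intro g hg
    have hs : g ∈ singles G Ω := ⟨hg.1.1, hoth g hg.1 hg.2⟩
    refine ⟨hs, hcu _ ?_⟩
    obtain ⟨v, hv, v2, rfl⟩ := (h.swaps_of_mid hxy hJ).1 hg₀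
    obtain ⟨w, hw, w2, rfl⟩ := (h.swaps_of_mid hxy hJ).1 hg.1
    have cm : Commute (J * w) (J * v) := by
      have h1 : Commute J v := hJ.2 v hv
      have h2 : Commute J w := hJ.2 w hw
      have h3 : Commute w v := (h.two_comm hxy hw hv w2 v2).1
      exact ((Commute.refl J).mul_right h1).mul_left (h2.symm.mul_right h3)
    rw [← mul_smul, ← cm.eq, mul_smul, hc]
  have hall : ∀ g, g ∈ singles G Ω → g • c = c → g ∈ swaps G x y \ {J} := by
    intro g hg hgc
    have heq : (swaps G x y \ {J}) = {g | g ∈ singles G Ω ∧ g • c = c} := by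
      refine Set.eq_of_subset_of_ncard_le hfix ?_ (Set.toFinite _)
      rw [← Nat.card_coe_set_eq, ← Nat.card_coe_set_eq, h.card_others hxy hJ]
      exact (hthree c).le
    rw [heq]
    exact ⟨hg, hgc⟩
  have hxc : c ≠ x := fun e => hxy (by rw [← hg₀.2, ← e, hc])
  set P : Set G := {w | ∃ g g', (g ∈ singles G Ω ∧ g • c = c) ∧ (g' ∈ singles G Ω ∧ g' • c = c) ∧
    w = g * g'}
  have hNx : Subgroup.closure P ≤ stabilizer G x := by
    refine (Subgroup.closure_le _).2 ?_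
    rintro w ⟨g, g', hg, hg', rfl⟩
    show (g * g') • x = x
    rw [mul_smul, (hall g' hg'.1 hg'.2).1.2, swaps_back (hall g hg.1 hg.2).1]
  obtain ⟨v, hv, vi⟩ := h.exists_inv_two hxy
  obtain ⟨v', hv', v2', hg'⟩ := (h.swaps_of_mid hxy hJ).1 hg₀
  have hv'1 : v' ≠ 1 := fun e => hg₀J (by rw [hg', e, mul_one])
  -- a non-trivial element of the normal set
  obtain ⟨w, hw, hw1⟩ : ∃ w ∈ P, w ≠ 1 := by
    obtain ⟨g, hg, hgne⟩ : ∃ g ∈ swaps G x y \ {J}, g ≠ g₀ := by
      by_contra k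
      push Not at k
      have : Nat.card ↥(swaps G x y \ {J}) ≤ 1 :=
        Finite.card_le_one_iff_subsingleton.2 ⟨fun a b => Subtype.ext ((k _ a.2).trans (k _ b.2).symm)⟩
      rw [h.card_others hxy hJ] at this
      omega
    exact ⟨g * g₀, ⟨g, g₀, hfix g hg, ⟨hs₀, hc⟩, rfl⟩, fun e => hgne (by
      rw [← hg₀.1.inv_eq]; exact eq_inv_of_mul_eq_one_left e)⟩
  refine hw1 (h.eq_one_of_fix fun z => ?_)
  by_cases hzc : z = c
  · obtain ⟨g, g', hg, hg', rfl⟩ := hw
    rw [hzc, mul_smul, hg'.2, hg.2]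
  obtain ⟨s, sc, rfl⟩ := h.exists_map hxc (Ne.symm hzc)
  have hmem : s⁻¹ * w * s ∈ P := by
    obtain ⟨g, g', hg, hg', rfl⟩ := hw
    have hsc : s⁻¹ • c = c := inv_smul_eq_iff.2 sc.symm
    refine ⟨s⁻¹ * g * s, s⁻¹ * g' * s, ⟨?_, ?_⟩, ⟨?_, ?_⟩, by group⟩
    · simpa using singles_conj hg.1 s⁻¹
    · rw [mul_smul, mul_smul, sc, hg.2, hsc]
    · simpa using singles_conj hg'.1 s⁻¹
    · rw [mul_smul, mul_smul, sc, hg'.2, hsc]
  have := hNx (Subgroup.subset_closure hmem)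
  rw [mem_stabilizer_iff, mul_smul, mul_smul, inv_smul_eq_iff] at this
  exact this

end Hyp

end Cfsg.Agent.H6.AFour
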