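import Cfsg.Agent.H6.AFour.FlatAction
import Cfsg.Agent.H6.AFour.Single

/-!
# Case D is impossible in even degree
-/

set_option autoImplicit false
set_option linter.unusedSectionVars false

namespace Cfsg.Agent.H6.AFour

open MulAction

variable {G Ω : Type*} [Group G] [MulAction G Ω]

namespace Hyp

variable (h : Hyp G Ω) [Finite G] [Finite Ω]
include h

theorem flat_of_caseD (hD : CaseD G Ω) : Flat G Ω := by
  intro x y hxy t ht ti
  refine Set.Subset.antisymm (fun z hz => ?_) (h.line_le_fix hxy ⟨ht, ti.2⟩)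
  rw [h.mem_line hxy]
  intro v hv
  by_contra hne
  have tz : t • z = z := hz
  have hc : t * v = v * t := h.four_comm hxy ⟨ht, ti.2⟩ hv
  have tz' : t • v • z = v • z := by rw [← mul_smul, hc, mul_smul, tz]
  have v1 : v ≠ 1 := fun k => hne (by rw [k, one_smul])
  have hvt : v * t ∈ h.four hxy := mul_mem hv ⟨ht, ti.2⟩
  have vt1 : v * t ≠ 1 := fun k => hne (by
    rw [eq_inv_of_mul_eq_one_left k, ti.inv_eq]; exact tz)
  obtain ⟨J, -, -, hoth⟩ := hD z (v • z) (Ne.symm hne)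
  have h1 : v = J := by_contra fun k =>
    hoth v ⟨⟨v1, hv.2⟩, rfl⟩ k (h.isT_of_mem hxy hv.1 ⟨v1, hv.2⟩)
  have h2 : v * t = J := by_contra fun k =>
    hoth (v * t) ⟨⟨vt1, hvt.2⟩, by rw [mul_smul, tz]⟩ k (h.isT_of_mem hxy hvt.1 ⟨vt1, hvt.2⟩)
  exact ti.1 (mul_eq_left.1 (h2.trans h1.symm))

theorem caseD_false (hD : CaseD G Ω) : False := by
  classical
  have : Fact (Nat.Prime 2) := ⟨Nat.prime_two⟩
  have hF := h.flat_of_caseD hD
  have hev := h.caseD_even hD
  obtain ⟨x, y, hxy⟩ := h.nontriv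
  obtain ⟨t, ht, ti⟩ := h.exists_inv_two hxy
  have htV : t ∈ h.four hxy := ⟨ht, ti.2⟩
  have hT : IsT Ω t := h.isT_of_mem hxy ht ti
  have heqn := h.eq_D hD hT
  have hLf := h.line_card_of_flat hF hxy hT
  set f := fixCard Ω t with hf
  have hf2 : 2 ≤ f := two_le_fixCard h hT
  have hfn : f ≤ Nat.card Ω := Finite.card_subtype_le _
  have hfev : Even f := by
    have := fixCard_mod_two (Ω := Ω) ti
    rw [← hf, Nat.even_iff.1 hev] at this
    exact Nat.even_iff.2 this
  set C := Subgroup.centralizer ({t} : Set G)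
  obtain ⟨R, hRC, hCR, hVR, hRc, hRtr, hRfix, hRfpf⟩ := h.exists_translations hF hxy htV ti.1
  rw [hLf] at hRc
  set L := line G x y
  -- exchanging involutions of pairs of the line
  have hswap : ∀ z ∈ L, ∀ w ∈ L, z ≠ w → ∀ g ∈ swaps G z w, g ∈ R := by
    intro z hz w hw hzw g hg
    obtain ⟨J, hJ, -, -⟩ := hD z w hzw
    have hgC : g ∈ C := Subgroup.mem_centralizer_singleton_iff.2
      (h.mid_mem_centralizer hxy hzw hz hw hJ hg htV)
    refine hRfpf g hgC (h.swap_fpf hxy hF (by rwa [hLf]) htV ti.1 hgC hg.1 fun k => ?_)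
    have := hg.2
    rw [hz g k.1 k.2] at this
    exact hzw this
  have hmove : ∀ r ∈ R, r ∉ h.four hxy → r • x ∈ L ∧ x ≠ r • x ∧ r ∈ swaps G x (r • x) := by
    intro r hr hrV
    have hxL : x ∈ L := left_mem_line x y
    have hr' : r • x ∈ L := h.line_of_centralizer hF hxy htV ti.1 (hRC hr) hxL
    have hne : x ≠ r • x := fun k => hrV (hRfix r hr x hxL k.symm)
    obtain ⟨J, hJ, -, -⟩ := hD x (r • x) hne
    have hJR := hswap x hxL _ hr' hne J hJ.1
    have hv : J⁻¹ * r ∈ h.four hxy := hRfix _ (mul_mem (inv_mem hJR) hr) x hxL (by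
      rw [mul_smul, hJ.1.1.inv_eq, swaps_back hJ.1])
    refine ⟨hr', hne, (h.swaps_of_mid hne hJ).2 ⟨J⁻¹ * r, ?_, hv.2, by group⟩⟩
    rw [← h.four_eq hxy hne hxL hr'] at hv
    exact hv.1
  have hexp : ∀ r ∈ R, r * r = 1 := fun r hr =>
    if k : r ∈ h.four hxy then k.2 else (hmove r hr k).2.2.1.2
  have hcomm : ∀ a ∈ R, ∀ b ∈ R, a * b = b * a := fun a ha b hb => by
    have h1 := hexp _ (mul_mem ha hb)
    rw [← inv_eq_of_mul_eq_one_right h1, mul_inv_rev, inv_eq_of_mul_eq_one_right (hexp a ha),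
      inv_eq_of_mul_eq_one_right (hexp b hb)]
  have hRp : IsPGroup 2 R := fun r => ⟨1, Subtype.ext (by rw [pow_one, pow_two]; exact hexp r r.2)⟩
  obtain ⟨i, hi⟩ := hRp.exists_card_eq
  obtain ⟨j, hj⟩ : ∃ j, f = 2 ^ j := by
    have : f ∣ 2 ^ i := ⟨4, by rw [← hi, hRc]; ring⟩
    obtain ⟨j, -, hj⟩ := (Nat.dvd_prime_pow Nat.prime_two).1 this
    exact ⟨j, hj⟩
  have hCc : ∀ {a b : Ω} (hab : a ≠ b) {s : G}, s ∈ h.four hab → s ≠ 1 →
      Nat.card (Subgroup.centralizer ({s} : Set G)) = 4 * (f * (f - 1)) := by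
    intro a b hab s hs s1
    rw [h.card_centralizer_flat hF hab hs s1, h.line_card_eq hab hxy, hLf]
  -- two-subgroups of such centralisers have order at most `4 f`
  have htwo : ∀ {a b : Ω} (hab : a ≠ b) {s : G}, s ∈ h.four hab → s ≠ 1 → ∀ P : Subgroup G,
      IsPGroup 2 P → P ≤ Subgroup.centralizer ({s} : Set G) → Nat.card P ≤ 4 * f := by
    intro a b hab s hs s1 P hP hPC
    obtain ⟨k, hk⟩ := hP.exists_card_eq
    have hd := Subgroup.card_dvd_of_le hPC
    rw [hCc hab hs s1, hk, ← mul_assoc] at hd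
    have hco : Nat.Coprime (2 ^ k) (f - 1) := by
      refine Nat.Coprime.pow_left _ (Nat.coprime_two_left.2 ?_)
      rw [Nat.even_iff] at hfev
      exact Nat.odd_iff.2 (by omega)
    have := Nat.le_of_dvd (by omega) (hco.dvd_of_dvd_mul_right hd)
    omega
  have hRmax : ∀ P : Subgroup G, IsPGroup 2 P → P ≤ C → R ≤ P → P = R := fun P hP hPC hle =>
    (Subgroup.eq_of_le_of_card_ge hle (by rw [hRc]; exact htwo hxy htV ti.1 P hP hPC)).symm
  -- normal two-subgroups
  have habsorb : ∀ g ∈ C, ∀ k : ℕ, g ^ 2 ^ k = 1 → g ∈ R := by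
    intro g hg k hgk
    have hZ : IsPGroup 2 (Subgroup.zpowers g) := by
      obtain ⟨m, -, hm⟩ := (Nat.dvd_prime_pow Nat.prime_two).1 (orderOf_dvd_of_pow_eq_one hgk)
      exact IsPGroup.of_card (n := m) (by rw [Nat.card_zpowers, hm])
    have hP := hZ.to_sup_of_normal_right' hRp ((Subgroup.zpowers_le.2 hg).trans hCR)
    rw [← hRmax _ hP (sup_le (Subgroup.zpowers_le.2 hg) hRC) le_sup_right]
    exact le_sup_left (a := Subgroup.zpowers g) (Subgroup.mem_zpowers g)
  -- the involutions of `R` with two fixed points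
  have hblock : ∀ J ∈ R, IsT Ω J → ∃ (a b : Ω) (hab : a ≠ b), J ∈ h.four hab ∧ h.four hab ≤ R := by
    intro J hJR hJT
    obtain ⟨Ji, a, b, hab, Ja, Jb⟩ := hJT
    have hJV : J ∈ h.four hab := ⟨mem_tw.2 ⟨Ja, Jb⟩, Ji.2⟩
    refine ⟨a, b, hab, hJV, ?_⟩
    have hRJ : R ≤ Subgroup.centralizer ({J} : Set G) := fun r hr =>
      Subgroup.mem_centralizer_singleton_iff.2 (hcomm r hr J hJR)
    have hN := hRJ.trans (h.centralizer_le_normalizer hF hab hJV Ji.1)
    have hWp : IsPGroup 2 (h.four hab) := IsPGroup.of_card (n := 2) (h.card_four' hab)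
    have hP := hRp.to_sup_of_normal_right' hWp hN
    have hWC : h.four hab ≤ Subgroup.centralizer ({J} : Set G) := fun w hw =>
      Subgroup.mem_centralizer_singleton_iff.2 (h.four_comm hab hw hJV)
    have := htwo hab hJV Ji.1 _ hP (sup_le hRJ hWC)
    rw [← hRc] at this
    exact le_sup_right.trans (Subgroup.eq_of_le_of_card_ge le_sup_left this).ge
  let B : Set (Subgroup G) := {W | W ≤ R ∧ ∃ (a b : Ω) (hab : a ≠ b), W = h.four hab}
  have hBfin : Fintype B := Fintype.ofFinite B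
  let PT : Set G := {g | g ∈ R ∧ IsT Ω g}
  have hcB : Nat.card PT = Nat.card B * 3 := by
    have e : (Σ W : B, {g : G // g ∈ W.1 ∧ g ≠ 1}) ≃ PT := Equiv.ofBijective
      (fun p => ⟨p.2.1, p.1.2.1 p.2.2.1, by
        obtain ⟨a, b, hab, hW⟩ := p.1.2.2
        have hg : p.2.1 ∈ h.four hab := hW ▸ p.2.2.1
        exact h.isT_of_mem hab hg.1 ⟨p.2.2.2, hg.2⟩⟩) ⟨fun p q e => by
          obtain ⟨⟨W, hW, a, b, hab, rfl⟩, g, hg, g1⟩ := p
          obtain ⟨⟨W', hW', a', b', hab', rfl⟩, g', hg', g1'⟩ := q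
          obtain rfl : g = g' := congrArg Subtype.val e
          have := h.four_of_flat hF hab hab' hg hg' g1
          exact Sigma.subtype_ext (Subtype.ext this) rfl,
        fun g => by
          obtain ⟨a, b, hab, hgV, hle⟩ := hblock g.1 g.2.1 g.2.2
          exact ⟨⟨⟨_, hle, a, b, hab, rfl⟩, g.1, hgV, g.2.2.1.1⟩, rfl⟩⟩
    rw [← Nat.card_congr e, Nat.card_sigma, Finset.sum_congr rfl fun W _ => ?_, Finset.sum_const,
      Finset.card_univ, smul_eq_mul, ← Nat.card_eq_fintype_card]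
    obtain ⟨a, b, hab, hW⟩ := W.2.2
    have e2 : {g : G // g ∈ W.1 ∧ g ≠ 1} ≃ ↥((W.1 : Set G) \ {1}) := Equiv.subtypeEquivRight fun g => Iff.rfl
    rw [Nat.card_congr e2, Nat.card_coe_set_eq, Set.ncard_sdiff_singleton_of_mem (one_mem W.1),
      ← Nat.card_coe_set_eq, show Nat.card ↥(W.1 : Set G) = 4 by rw [hW]; exact h.card_four' hab]
  have hmid : ∀ g ∈ R, IsT Ω g → g ∉ h.four hxy → IsMid x (g • x) g := by
    intro g hg hgT hgV
    obtain ⟨-, hne, hsw⟩ := hmove g hg hgV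
    obtain ⟨J, hJ, -, hoth⟩ := hD x (g • x) hne
    have : g = J := by_contra fun k => hoth g hsw k hgT
    rw [this] at hsw ⊢
    exact ⟨hsw, fun d hd => by
      have hJ2 := hJ.2
      rw [← this] at hd
      exact hJ2 d hd⟩
  have hcPT : Nat.card PT = f + 2 := by
    have e : PT = ((h.four hxy : Set G) \ {1}) ∪ {g | g ∈ R ∧ IsT Ω g ∧ g ∉ h.four hxy} := by
      ext g
      refine ⟨fun hg => ?_, ?_⟩
      · by_cases k : g ∈ h.four hxy
        · exact Or.inl ⟨k, hg.2.1.1⟩
        · exact Or.inr ⟨hg.1, hg.2, k⟩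
      · rintro (⟨hg, g1⟩ | ⟨hg, hgT, -⟩)
        · exact ⟨hVR hg, h.isT_of_mem hxy hg.1 ⟨g1, hg.2⟩⟩
        · exact ⟨hg, hgT⟩
    have hdis : Disjoint ((h.four hxy : Set G) \ {1}) {g | g ∈ R ∧ IsT Ω g ∧ g ∉ h.four hxy} :=
      Set.disjoint_left.2 fun g hg hg' => hg'.2.2 hg.1
    have e3 : ((h.four hxy : Set G) \ {1}).ncard = 3 := by
      rw [Set.ncard_sdiff_singleton_of_mem (one_mem (h.four hxy)), ← Nat.card_coe_set_eq]
      exact congrArg (· - 1) (h.card_four' hxy)
    have e4 : {g | g ∈ R ∧ IsT Ω g ∧ g ∉ h.four hxy}.ncard = f - 1 := by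
      rw [← hLf, ← Set.ncard_sdiff_singleton_of_mem (left_mem_line x y)]
      refine Set.ncard_congr (fun g _ => g • x) (fun g hg => ?_) (fun g g' hg hg' he => ?_) fun z hz => ?_
      · exact ⟨(hmove g hg.1 hg.2.2).1, fun k => (hmove g hg.1 hg.2.2).2.1 (Set.mem_singleton_iff.1 k).symm⟩
      · refine h.mid_unique (hmove g hg.1 hg.2.2).2.1 (hmid g hg.1 hg.2.1 hg.2.2) ?_
        rw [show g • x = g' • x from he]
        exact hmid g' hg'.1 hg'.2.1 hg'.2.2
      · have hne : x ≠ z := Ne.symm hz.2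
        obtain ⟨J, hJ, hJT, -⟩ := hD x z hne
        exact ⟨J, ⟨hswap x (left_mem_line x y) z hz.1 hne J hJ.1, hJT,
          fun k => hne ((left_mem_line x y J k.1 k.2).symm.trans hJ.1.2)⟩, hJ.1.2⟩
    rw [Nat.card_coe_set_eq, e, Set.ncard_union_eq hdis (Set.toFinite _) (Set.toFinite _), e3, e4]
    omega
  set m := Nat.card B
  -- the normaliser of the four group normalises `R`
  set NV := Subgroup.normalizer (h.four hxy : Set G)
  set NR := Subgroup.normalizer (R : Set G)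
  have hVNR : NV ≤ NR := by
    intro n hn
    refine Subgroup.mem_normalizer_iff.2 ?_
    have key : ∀ k ∈ NV, ∀ r ∈ R, k * r * k⁻¹ ∈ R := by
      intro k hk r hr
      refine habsorb _ ?_ 1 ?_
      · refine Subgroup.mem_centralizer_singleton_iff.2 ?_
        have h1 := hcomm r hr _ (hVR ((Subgroup.mem_normalizer_iff''.1 hk t).1 htV))
        calc k * r * k⁻¹ * t = k * (r * (k⁻¹ * t * k)) * k⁻¹ := by group
          _ = t * (k * r * k⁻¹) := by rw [h1]; group
      · rw [pow_one, pow_two, show k * r * k⁻¹ * (k * r * k⁻¹) = k * (r * r) * k⁻¹ by group, hexp r hr,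
          mul_one, mul_inv_cancel]
    intro r
    refine ⟨key n hn r, fun k => ?_⟩
    have := key n⁻¹ (inv_mem hn) _ k
    rwa [show n⁻¹ * (n * r * n⁻¹) * n⁻¹⁻¹ = r by group] at this
  have hNVc : Nat.card NV = 12 * (f * (f - 1)) := by rw [h.card_normalizer_four hxy, hLf]
  -- orbit of the four group
  have hmf : m * 3 = f + 2 := by rw [← hcB, hcPT]
  have hm2 : 2 ≤ m := by omega
  have hnat : Nat.card Ω * 3 = f * (f + 2) := by
    obtain ⟨k, hk⟩ := Nat.exists_eq_add_of_le hf2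
    have e : f * (f + 2) = f * (f - 1) + 3 * f := by
      rw [hk, show 2 + k - 1 = 1 + k by omega]; ring
    omega
  letI act : MulAction NR B :=
    { smul := fun n W => ⟨W.1.map (MulAut.conj (n : G)).toMonoidHom, by
        constructor
        · rintro _ ⟨w, hw, rfl⟩
          exact (Subgroup.mem_normalizer_iff.1 n.2 w).1 (W.2.1 hw)
        · obtain ⟨a, b, hab, hW⟩ := W.2.2
          have hab' : (n : G) • a ≠ (n : G) • b := fun k => hab (MulAction.injective (n : G) k)
          refine ⟨(n : G) • a, (n : G) • b, hab', ?_⟩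
          ext w
          rw [hW]
          constructor
          · rintro ⟨v, hv, rfl⟩
            exact (h.four_conj hab hab').2 hv
          · intro hw
            refine ⟨(n : G)⁻¹ * w * n, (h.four_conj hab hab').1 ?_, ?_⟩
            · rwa [show (n : G) * ((n : G)⁻¹ * w * n) * (n : G)⁻¹ = w by group]
            · show (n : G) * ((n : G)⁻¹ * w * n) * (n : G)⁻¹ = w
              group⟩
      one_smul := fun W => Subtype.ext (by
        show W.1.map (MulAut.conj ((1 : NR) : G)).toMonoidHom = W.1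
        ext w; simp)
      mul_smul := fun a b W => Subtype.ext (by
        show W.1.map (MulAut.conj ((a * b : NR) : G)).toMonoidHom =
          (W.1.map (MulAut.conj (b : G)).toMonoidHom).map (MulAut.conj (a : G)).toMonoidHom
        rw [Subgroup.map_map]
        congr 1
        ext w; simp [mul_assoc]) }
  have hB0 : (h.four hxy) ∈ B := ⟨hVR, x, y, hxy, rfl⟩
  set W₀ : B := ⟨h.four hxy, hB0⟩
  have hsmul : ∀ (n : NR) (W : B) (w : G), w ∈ (n • W).1 ↔ (n : G)⁻¹ * w * n ∈ W.1 := by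
    intro n W w
    constructor
    · rintro ⟨v, hv, rfl⟩
      show (n : G)⁻¹ * ((n : G) * v * (n : G)⁻¹) * n ∈ W.1
      rwa [show (n : G)⁻¹ * ((n : G) * v * (n : G)⁻¹) * n = v by group]
    · intro k
      exact ⟨_, k, show (n : G) * ((n : G)⁻¹ * w * n) * (n : G)⁻¹ = w by group⟩
  have hstab : Nat.card (stabilizer NR W₀) = Nat.card NV := by
    refine Nat.card_congr
      { toFun := fun n => ⟨n.1.1, ?_⟩
        invFun := fun n => ⟨⟨n.1, hVNR n.2⟩, ?_⟩
        left_inv := fun _ => rfl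
        right_inv := fun _ => rfl }
    · refine Subgroup.mem_normalizer_iff.2 fun w => ?_
      have e := hsmul n.1 W₀ ((n.1 : G) * w * (n.1 : G)⁻¹)
      rw [show (n.1 : G)⁻¹ * ((n.1 : G) * w * (n.1 : G)⁻¹) * n.1 = w by group,
        show n.1 • W₀ = W₀ from n.2] at e
      exact e.symm
    · refine Subtype.ext (Subgroup.ext fun w => ?_)
      rw [hsmul]
      exact (Subgroup.mem_normalizer_iff''.1 n.2 w).symm
  -- `R` is not a Sylow subgroup
  have hnotSyl : ∃ n : NR, n • W₀ ≠ W₀ := by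
    by_contra hall
    push Not at hall
    have hNR : NR = NV := by
      refine le_antisymm (fun n hn => ?_) hVNR
      refine Subgroup.mem_normalizer_iff.2 fun w => ?_
      have e := hsmul ⟨n, hn⟩ W₀ (n * w * n⁻¹)
      rw [hall ⟨n, hn⟩, show n⁻¹ * (n * w * n⁻¹) * n = w by group] at e
      exact e.symm
    obtain ⟨S, hS⟩ := hRp.exists_le_sylow
    have hj2 : 2 ≤ j := by
      by_contra k
      push Not at k
      interval_cases j <;> simp at hj <;> omega
    have hS8 : 8 * f ∣ Nat.card (S : Subgroup G) := by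
      rw [Sylow.card_eq_multiplicity, hj,
        show 8 * 2 ^ j = 2 ^ (j + 3) by rw [pow_add]; ring]
      refine pow_dvd_pow 2 ((Nat.prime_two.pow_dvd_iff_le_factorization (Nat.card_pos.ne')).1 ?_)
      rw [h.card_group]
      -- the degree is divisible by `2 f`
      have h2f : 2 ^ (j + 1) ∣ Nat.card Ω := by
        refine (Nat.Coprime.pow_left _ (show Nat.Coprime 2 3 by norm_num)).dvd_of_dvd_mul_right ?_
        rw [hnat, hj, pow_succ]
        refine Nat.mul_dvd_mul_left _ ?_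
        obtain ⟨c, hc⟩ := pow_dvd_pow 2 hj2
        omega
      obtain ⟨c, hc⟩ := h2f
      exact ⟨3 * c * (Nat.card Ω - 1), by
        conv_lhs => rw [hc]
        rw [pow_add, pow_succ, hc]; ring⟩
    have hlt : R < (S : Subgroup G) := by
      refine lt_of_le_of_ne hS fun k => ?_
      rw [← k, hRc] at hS8
      have := Nat.le_of_dvd (by omega) hS8
      omega
    have hsub : R.subgroupOf (S : Subgroup G) ≠ ⊤ := fun k => hlt.not_ge (Subgroup.subgroupOf_eq_top.1 k)
    obtain ⟨s, hs, hs'⟩ := SetLike.exists_of_lt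
      (PGroups.lt_normalizer S.2 hsub)
    have hsNR : (s : G) ∈ NR := by
      refine Subgroup.mem_normalizer_iff.2 fun r => ⟨fun hr => ?_, fun hr => ?_⟩
      · exact (Subgroup.mem_normalizer_iff.1 hs ⟨r, hS hr⟩).1 hr
      · have hrS : r ∈ (S : Subgroup G) := by
          have := mul_mem (mul_mem (inv_mem s.2) (hS hr)) s.2
          rwa [show (s : G)⁻¹ * ((s : G) * r * (s : G)⁻¹) * s = r by group] at this
        exact (Subgroup.mem_normalizer_iff.1 hs ⟨r, hrS⟩).2 hr
    rw [hNR] at hsNR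
    -- `R` is maximal among two-subgroups of the normaliser of the four group
    have hZ : IsPGroup 2 (Subgroup.zpowers (s : G)) := S.2.to_le (Subgroup.zpowers_le.2 s.2)
    have hP := hZ.to_sup_of_normal_right' hRp ((Subgroup.zpowers_le.2 hsNR).trans hVNR)
    obtain ⟨k, hk⟩ := hP.exists_card_eq
    have hd := Subgroup.card_dvd_of_le (sup_le (Subgroup.zpowers_le.2 hsNR)
      (hRC.trans (h.centralizer_le_normalizer hF hxy htV ti.1)))
    rw [hk, hNVc, show 12 * (f * (f - 1)) = 4 * f * (3 * (f - 1)) by ring] at hd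
    have hco : Nat.Coprime (2 ^ k) (3 * (f - 1)) := by
      refine Nat.Coprime.pow_left _ (Nat.coprime_two_left.2 ?_)
      rw [Nat.even_iff] at hfev
      exact Nat.odd_iff.2 (by omega)
    have hle := Nat.le_of_dvd (by omega) (hco.dvd_of_dvd_mul_right hd)
    have heq : R = Subgroup.zpowers (s : G) ⊔ R := Subgroup.eq_of_le_of_card_ge le_sup_right (by
      rw [hk, hRc]; exact hle)
    refine hs' (show (s : G) ∈ R from ?_)
    rw [heq]
    exact le_sup_left (a := Subgroup.zpowers (s : G)) (Subgroup.mem_zpowers _)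
  -- transitivity on the blocks other than the four group
  have hmove2 : ∀ W : B, W ≠ W₀ → ∃ J ∈ W.1, J ∈ R ∧ IsT Ω J ∧ J ∉ h.four hxy := by
    intro W hW
    obtain ⟨a, b, hab, hWe⟩ := W.2.2
    obtain ⟨J, hJ, Ji⟩ := h.exists_inv_two hab
    have hJW : J ∈ h.four hab := ⟨hJ, Ji.2⟩
    refine ⟨J, hWe ▸ hJW, W.2.1 (hWe ▸ hJW), h.isT_of_mem hab hJ Ji, fun k => hW (Subtype.ext ?_)⟩
    rw [hWe]
    exact h.four_of_flat hF hab hxy hJW k Ji.1
  have horb : orbit NR W₀ = Set.univ := by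
    obtain ⟨n, hn⟩ := hnotSyl
    refine Set.eq_univ_of_forall fun W => ?_
    by_cases hW : W = W₀
    · rw [hW]; exact mem_orbit_self _
    obtain ⟨J, hJW, hJR, hJT, hJV⟩ := hmove2 W hW
    obtain ⟨K, hKW, hKR, hKT, hKV⟩ := hmove2 (n • W₀) hn
    obtain ⟨hKL, hKne, -⟩ := hmove K hKR hKV
    obtain ⟨hJL, hJne, -⟩ := hmove J hJR hJV
    obtain ⟨g, hg, gx, gK⟩ := h.witt ti hKne hJne (mem_tw.1 ht).1 (hKL t ht ti.2) (mem_tw.1 ht).1
      (hJL t ht ti.2)
    have hgJ : g * K * g⁻¹ = J := by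
      have := (hmid K hKR hKT hKV).conj (c := g)
      rw [gx, gK] at this
      exact h.mid_unique hJne this (hmid J hJR hJT hJV)
    set g' : NR := ⟨g, hCR hg⟩
    refine ⟨g' * n, ?_⟩
    show (g' * n) • W₀ = W
    rw [mul_smul]
    refine Subtype.ext ?_
    obtain ⟨a, b, hab, hWe⟩ := W.2.2
    obtain ⟨a', b', hab', hWe'⟩ := (g' • n • W₀).2.2
    have hJ' : J ∈ (g' • n • W₀).1 := (hsmul g' _ J).2 (by
      rw [← hgJ]
      show g⁻¹ * (g * K * g⁻¹) * g ∈ (n • W₀).1
      rwa [show g⁻¹ * (g * K * g⁻¹) * g = K by group])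
    rw [hWe, hWe']
    exact h.four_of_flat hF hab' hab (hWe' ▸ hJ') (hWe ▸ hJW) hJT.1.1
  have h1 := (stabilizer NR W₀).card_mul_index
  rw [index_stabilizer, horb, Set.ncard_univ, hstab, hNVc] at h1
  obtain ⟨k, hk⟩ : Nat.card NR ∣ Nat.card G := Subgroup.card_subgroup_dvd_card NR
  rw [← h1, h.card_group, show Nat.card B = m from rfl] at hk
  have hn1 : (Nat.card Ω - 1) * 3 = (f - 1) * (f + 3) := by
    obtain ⟨u, hu⟩ := Nat.exists_eq_add_of_le hf2
    rw [hu, show 2 + u - 1 = 1 + u by omega]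
    rw [hu] at hnat
    have e : (2 + u) * (2 + u + 2) = (1 + u) * (2 + u + 3) + 3 := by ring
    omega
  have hkey : (f + 2) * (f + 3) * (f * (f - 1)) = (f + 2) * (3 * k) * (f * (f - 1)) := by
    calc (f + 2) * (f + 3) * (f * (f - 1)) = f * (f + 2) * ((f - 1) * (f + 3)) := by ring
      _ = 9 * (Nat.card Ω * (Nat.card Ω - 1)) := by rw [← hnat, ← hn1]; ring
      _ = 9 * (m * (f * (f - 1)) * k) := by
        refine congrArg _ (Nat.eq_of_mul_eq_mul_left (show 0 < 12 by norm_num) ?_)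
        rw [hk]; ring
      _ = m * 3 * (3 * k) * (f * (f - 1)) := by ring
      _ = (f + 2) * (3 * k) * (f * (f - 1)) := by rw [hmf]
  have hpos : 0 < f * (f - 1) := Nat.mul_pos (by omega) (by omega)
  have h3 : f + 3 = 3 * k :=
    Nat.eq_of_mul_eq_mul_left (show 0 < f + 2 by omega) (Nat.eq_of_mul_eq_mul_right hpos hkey)
  have h3f : 3 ∣ 2 ^ j := by rw [← hj]; omega
  exact absurd (Nat.prime_three.dvd_of_dvd_pow h3f) (by norm_num)

end Hyp

end Cfsg.Agent.H6.AFour
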