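import Cfsg.Agent.H6.AFour.CaseBFlat
import Cfsg.Agent.H6.AFour.CaseBThin
import Cfsg.Agent.H6.AFour.CaseAFlat
import Cfsg.Agent.H6.AFour.CaseD
import Cfsg.Agent.H6.AFour.Single

/-!
# Two-point stabiliser `A₄`: the case division
-/

set_option autoImplicit false
set_option linter.unusedSectionVars false

namespace Cfsg.Agent.H6.AFour

open MulAction

universe u v

variable {G : Type u} {Ω : Type v} [Group G] [MulAction G Ω]

/-- One two-point stabiliser isomorphic to `A₄` gives all. -/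
theorem hyp_of_one [FaithfulSMul G Ω] (h2 : IsMultiplyPretransitive G Ω 2) {a b : Ω} (hab : a ≠ b)
    (e : ↥(stabilizer G a ⊓ stabilizer G b) ≃* ↥(alternatingGroup (Fin 4))) : Hyp G Ω := by
  refine ⟨inferInstance, h2, ⟨a, b, hab⟩, fun x y hxy => ?_⟩
  obtain ⟨g, rfl, rfl⟩ := H36.CyZ.exists_map_pair h2 hab hxy
  have hle : ∀ d : G, d ∈ stabilizer G a ⊓ stabilizer G b ↔ g * d * g⁻¹ ∈ tw G (g • a) (g • b) := by
    intro d
    refine ⟨fun k => conj_mem_tw (show d ∈ tw G a b from k), fun k => ?_⟩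
    have := conj_mem_tw (c := g⁻¹) k
    rwa [inv_smul_smul, inv_smul_smul, inv_inv, show g⁻¹ * (g * d * g⁻¹) * g = d by group] at this
  let ψ : ↥(stabilizer G (g • a) ⊓ stabilizer G (g • b)) ≃* ↥(stabilizer G a ⊓ stabilizer G b) :=
    { toFun := fun d => ⟨g⁻¹ * (d : G) * g, (hle _).2 (by
        rw [show g * (g⁻¹ * (d : G) * g) * g⁻¹ = d by group]; exact d.2)⟩
      invFun := fun d => ⟨g * (d : G) * g⁻¹, (hle (d : G)).1 d.2⟩
      left_inv := fun d => Subtype.ext (show g * (g⁻¹ * (d : G) * g) * g⁻¹ = d by group)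
      right_inv := fun d => Subtype.ext (show g⁻¹ * (g * (d : G) * g⁻¹) * g = d by group)
      map_mul' := fun d d' => Subtype.ext
        (show g⁻¹ * ((d : G) * d') * g = g⁻¹ * d * g * (g⁻¹ * d' * g) by group) }
  exact ⟨ψ.trans e⟩

variable (h : Hyp G Ω) [Finite G] [Finite Ω]
include h

/-- Everything except the central case of square even degree. -/
theorem Hyp.case_division :
    ((Nat.card Ω = 6 ∧ Nonempty (G ≃* ↥(alternatingGroup (Fin 6)))) ∨
      (Nat.card Ω = 15 ∧ Nonempty (G ≃* ↥(alternatingGroup (Fin 7))))) ∨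
    (CaseC G Ω ∧ Even (Nat.card Ω)) ∨
    (∃ J : G, orderOf J = 2 ∧ Subgroup.centralizer ({J} : Set G) ⊔ Cfsg.oddCore G = ⊤) := by
  by_cases hn : NoMid G Ω
  · exact Or.inl (h.conclusion_noMid hn)
  rcases h.trichotomy hn with hA | hC | hD
  · by_cases hF : Flat G Ω
    · exact (h.caseB_flat_false hA hn hF).elim
    · exact (h.caseB_thin_false hA hn hF).elim
  · rcases Nat.even_or_odd (Nat.card Ω) with hev | hodd
    · exact Or.inr (Or.inl ⟨hC, hev⟩)
    · exact Or.inr (Or.inr (h.conclusion_C_odd hC hodd))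
  · exact (h.caseD_false hD).elim

end Cfsg.Agent.H6.AFour
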