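import Cfsg.Agent.H6.AFour.Alt4
import Cfsg.Agent.H36.CyZ.Basic

/-!
# Doubly transitive groups whose two-point stabilisers are alternating of degree four
-/

set_option autoImplicit false

namespace Cfsg.Agent.H6.AFour

open MulAction

/-- A faithful doubly transitive action with two-point stabilisers alternating of degree four. -/
structure Hyp (G Ω : Type*) [Group G] [MulAction G Ω] : Prop where
  faithful : FaithfulSMul G Ω
  two : IsMultiplyPretransitive G Ω 2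
  nontriv : ∃ x y : Ω, x ≠ y
  stab : ∀ x y : Ω, x ≠ y → Nonempty (↥(stabilizer G x ⊓ stabilizer G y) ≃* A4)

variable {G Ω : Type*} [Group G] [MulAction G Ω]

variable (G) in
/-- The two-point stabiliser. -/
abbrev tw (x y : Ω) : Subgroup G := stabilizer G x ⊓ stabilizer G y

/-- An involution. -/
def Inv (g : G) : Prop := g ≠ 1 ∧ g * g = 1

theorem Inv.conj {g : G} (h : Inv g) (c : G) : Inv (c * g * c⁻¹) := by
  refine ⟨fun e => h.1 ?_, ?_⟩
  · have : c⁻¹ * (c * g * c⁻¹) * c = c⁻¹ * 1 * c := by rw [e]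
    simpa [mul_assoc] using this
  · rw [show c * g * c⁻¹ * (c * g * c⁻¹) = c * (g * g) * c⁻¹ by group, h.2, mul_one, mul_inv_cancel]

theorem Inv.inv_eq {g : G} (h : Inv g) : g⁻¹ = g := inv_eq_of_mul_eq_one_right h.2

theorem Inv.orderOf {g : G} (h : Inv g) : orderOf g = 2 :=
  orderOf_eq_prime (by rw [pow_two]; exact h.2) h.1

theorem inv_of_orderOf {g : G} (h : _root_.orderOf g = 2) : Inv g :=
  ⟨fun e => by rw [e, orderOf_one] at h; omega, by rw [← pow_two, ← h]; exact pow_orderOf_eq_one g⟩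

variable (Ω) in
/-- An involution fixing at least two points. -/
def IsT (g : G) : Prop := Inv g ∧ ∃ x y : Ω, x ≠ y ∧ g • x = x ∧ g • y = y

theorem IsT.conj {g : G} (h : IsT Ω g) (c : G) : IsT Ω (c * g * c⁻¹) := by
  obtain ⟨hi, x, y, hxy, hx, hy⟩ := h
  refine ⟨hi.conj c, c • x, c • y, fun e => hxy (MulAction.injective c e), ?_, ?_⟩
  · rw [mul_smul, mul_smul, inv_smul_smul, hx]
  · rw [mul_smul, mul_smul, inv_smul_smul, hy]

variable (Ω) in
/-- The number of fixed points of an element. -/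
noncomputable def fixCard (g : G) : ℕ := Nat.card (fixedBy Ω g)

variable (G) in
/-- The points fixed by the four group of a two-point stabiliser. -/
def line (x y : Ω) : Set Ω :=
  {z | ∀ v ∈ tw G x y, v * v = 1 → v • z = z}

theorem mem_tw {g : G} {x y : Ω} : g ∈ tw G x y ↔ g • x = x ∧ g • y = y := by
  simp [tw, Subgroup.mem_inf, mem_stabilizer_iff]

theorem conj_mem_tw {g c : G} {x y : Ω} (h : g ∈ tw G x y) :
    c * g * c⁻¹ ∈ tw G (c • x) (c • y) := by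
  rw [mem_tw] at h ⊢
  constructor <;> rw [mul_smul, mul_smul, inv_smul_smul]
  · rw [h.1]
  · rw [h.2]

namespace Hyp

variable (h : Hyp G Ω)
include h

theorem facts {x y : Ω} (hxy : x ≠ y) :
    (∀ a ∈ tw G x y, ∀ b ∈ tw G x y, a * a = 1 → b * b = 1 → a * b = b * a ∧ (a * b) * (a * b) = 1) ∧
    Nat.card {a : G // a ∈ tw G x y ∧ a * a = 1} = 4 ∧
    (∀ a ∈ tw G x y, ∀ b ∈ tw G x y, Inv a → Inv b → ∃ c ∈ tw G x y, c * a * c⁻¹ = b) ∧
    (∀ a ∈ tw G x y, ∀ b ∈ tw G x y, Inv a → a * b = b * a → b * b = 1) ∧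
    (∀ r ∈ tw G x y, ∀ a ∈ tw G x y, r * r ≠ 1 → a * a = 1 → r * a = a * r → a = 1) ∧
    (∀ r ∈ tw G x y, r * r ≠ 1 → r * r * r = 1) ∧
    (∃ r ∈ tw G x y, r * r ≠ 1) ∧
    (∀ z ∈ tw G x y, (∀ b ∈ tw G x y, z * b = b * z) → z = 1) ∧
    (∀ r ∈ tw G x y, ∀ b ∈ tw G x y, r * r ≠ 1 →
      ∃ v ∈ tw G x y, v * v = 1 ∧ (b = v ∨ b = v * r ∨ b = v * (r * r))) ∧
    (∀ r ∈ tw G x y, ∀ s ∈ tw G x y, r * r ≠ 1 → s * s ≠ 1 →
      ∃ c ∈ tw G x y, c * r * c⁻¹ = s ∨ c * (r * r) * c⁻¹ = s) ∧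
    Nat.card (tw G x y) = 12 := by
  classical
  obtain ⟨e⟩ := h.stab x y hxy
  obtain ⟨f1, f2, f3, f4, f5, f6, f7, f8, f10, f9⟩ := alt_facts
  have sq : ∀ (a : G) (ha : a ∈ tw G x y), e ⟨a, ha⟩ * e ⟨a, ha⟩ = 1 ↔ a * a = 1 := by
    intro a ha
    rw [← map_mul, map_eq_one_iff _ e.injective, ← Subtype.val_inj]
    rfl
  have one : ∀ (a : G) (ha : a ∈ tw G x y), e ⟨a, ha⟩ = 1 ↔ a = 1 := by
    intro a ha
    rw [map_eq_one_iff _ e.injective, ← Subtype.val_inj]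
    rfl
  have cm : ∀ (a b : G) (ha : a ∈ tw G x y) (hb : b ∈ tw G x y),
      e ⟨a, ha⟩ * e ⟨b, hb⟩ = e ⟨b, hb⟩ * e ⟨a, ha⟩ ↔ a * b = b * a := by
    intro a b ha hb
    rw [← map_mul, ← map_mul, e.injective.eq_iff, ← Subtype.val_inj]
    rfl
  have eval : ∀ c : A4, (e ⟨e.symm c, (e.symm c).2⟩ : A4) = c := fun c => e.apply_symm_apply c
  refine ⟨?_, ?_, ?_, ?_, ?_, ?_, ?_, ?_, ?_, ?_, ?_⟩
  · intro a ha b hb a2 b2
    obtain ⟨c1, c2⟩ := f1 _ _ ((sq a ha).2 a2) ((sq b hb).2 b2)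
    refine ⟨(cm a b ha hb).1 c1, (sq _ (mul_mem ha hb)).1 ?_⟩
    rwa [show (⟨a * b, mul_mem ha hb⟩ : tw G x y) = ⟨a, ha⟩ * ⟨b, hb⟩ from rfl, map_mul]
  · rw [← f2, ← Nat.card_eq_finsetCard]
    refine Nat.card_congr
      { toFun := fun a => ⟨e ⟨a.1, a.2.1⟩, Finset.mem_filter.2 ⟨Finset.mem_univ _, (sq _ a.2.1).2 a.2.2⟩⟩
        invFun := fun c => ⟨e.symm c.1, (e.symm c.1).2, by
          have := (sq _ (e.symm c.1).2).1 (by rw [eval]; exact (Finset.mem_filter.1 c.2).2)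
          exact this⟩
        left_inv := fun a => Subtype.ext (by simp)
        right_inv := fun c => Subtype.ext (by simp) }
  · intro a ha b hb ai bi
    obtain ⟨c, hc⟩ := f3 _ _ ((sq a ha).2 ai.2) ((sq b hb).2 bi.2)
      (fun k => ai.1 ((one a ha).1 k)) (fun k => bi.1 ((one b hb).1 k))
    refine ⟨e.symm c, (e.symm c).2, ?_⟩
    have := congrArg e.symm hc
    simp only [map_mul, map_inv, MulEquiv.symm_apply_apply] at this
    exact congrArg Subtype.val this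
  · intro a ha b hb ai hab
    exact (sq b hb).1 (f4 _ _ ((sq a ha).2 ai.2) (fun k => ai.1 ((one a ha).1 k)) ((cm a b ha hb).2 hab))
  · intro r hr a ha r2 a2 hra
    exact (one a ha).1 (f5 _ _ (fun k => r2 ((sq r hr).1 k)) ((sq a ha).2 a2) ((cm r a hr ha).2 hra))
  · intro r hr r2
    have := f6 _ (fun k => r2 ((sq r hr).1 k))
    rw [← map_mul, ← map_mul, map_eq_one_iff _ e.injective, ← Subtype.val_inj] at this
    exact this
  · obtain ⟨r, hr⟩ := f7
    exact ⟨e.symm r, (e.symm r).2, fun k => hr (by rw [← eval r]; exact (sq _ (e.symm r).2).2 k)⟩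
  · intro z hz hc
    refine (one z hz).1 (f8 _ fun b => ?_)
    rw [← eval b]
    exact (cm z _ hz _).2 (hc _ (e.symm b).2)
  · intro r hr b hb r2
    obtain ⟨v, v2, hv⟩ := f9 (e ⟨r, hr⟩) (e ⟨b, hb⟩) (fun k => r2 ((sq r hr).1 k))
    refine ⟨e.symm v, (e.symm v).2, (sq _ (e.symm v).2).1 (by rw [eval]; exact v2), ?_⟩
    rcases hv with k | k | k
    · left
      have := congrArg e.symm k
      rw [MulEquiv.symm_apply_apply] at this
      exact congrArg Subtype.val this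
    · right; left
      have := congrArg e.symm k
      simp only [map_mul, MulEquiv.symm_apply_apply] at this
      exact congrArg Subtype.val this
    · right; right
      have := congrArg e.symm k
      simp only [map_mul, MulEquiv.symm_apply_apply] at this
      exact congrArg Subtype.val this
  · intro r hr w hw r2 w2
    obtain ⟨c, hc⟩ := f10 _ _ (fun k => r2 ((sq r hr).1 k)) (fun k => w2 ((sq w hw).1 k))
    refine ⟨e.symm c, (e.symm c).2, hc.imp (fun k => ?_) (fun k => ?_)⟩ <;>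
    · have := congrArg e.symm k
      simp only [map_mul, map_inv, MulEquiv.symm_apply_apply] at this
      exact congrArg Subtype.val this
  · rw [Nat.card_congr e.toEquiv, nat_card_alternatingGroup, Nat.card_fin]
    rfl

theorem two_comm {x y : Ω} (hxy : x ≠ y) {a b : G} (ha : a ∈ tw G x y) (hb : b ∈ tw G x y)
    (a2 : a * a = 1) (b2 : b * b = 1) : a * b = b * a ∧ (a * b) * (a * b) = 1 :=
  (h.facts hxy).1 a ha b hb a2 b2

theorem card_four {x y : Ω} (hxy : x ≠ y) : Nat.card {a : G // a ∈ tw G x y ∧ a * a = 1} = 4 :=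
  (h.facts hxy).2.1

theorem two_conj {x y : Ω} (hxy : x ≠ y) {a b : G} (ha : a ∈ tw G x y) (hb : b ∈ tw G x y)
    (ai : Inv a) (bi : Inv b) : ∃ c ∈ tw G x y, c * a * c⁻¹ = b :=
  (h.facts hxy).2.2.1 a ha b hb ai bi

theorem two_cent {x y : Ω} (hxy : x ≠ y) {a b : G} (ha : a ∈ tw G x y) (hb : b ∈ tw G x y)
    (ai : Inv a) (hab : a * b = b * a) : b * b = 1 :=
  (h.facts hxy).2.2.2.1 a ha b hb ai hab

theorem two_fpf {x y : Ω} (hxy : x ≠ y) {r a : G} (hr : r ∈ tw G x y) (ha : a ∈ tw G x y)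
    (r2 : r * r ≠ 1) (a2 : a * a = 1) (hra : r * a = a * r) : a = 1 :=
  (h.facts hxy).2.2.2.2.1 r hr a ha r2 a2 hra

theorem two_cube {x y : Ω} (hxy : x ≠ y) {r : G} (hr : r ∈ tw G x y) (r2 : r * r ≠ 1) :
    r * r * r = 1 :=
  (h.facts hxy).2.2.2.2.2.1 r hr r2

theorem exists_three {x y : Ω} (hxy : x ≠ y) : ∃ r ∈ tw G x y, r * r ≠ 1 :=
  (h.facts hxy).2.2.2.2.2.2.1

theorem two_center {x y : Ω} (hxy : x ≠ y) {z : G} (hz : z ∈ tw G x y)
    (hc : ∀ b ∈ tw G x y, z * b = b * z) : z = 1 :=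
  (h.facts hxy).2.2.2.2.2.2.2.1 z hz hc

theorem two_decomp {x y : Ω} (hxy : x ≠ y) {r b : G} (hr : r ∈ tw G x y) (hb : b ∈ tw G x y)
    (r2 : r * r ≠ 1) : ∃ v ∈ tw G x y, v * v = 1 ∧ (b = v ∨ b = v * r ∨ b = v * (r * r)) :=
  (h.facts hxy).2.2.2.2.2.2.2.2.1 r hr b hb r2

theorem three_conj {x y : Ω} (hxy : x ≠ y) {r s : G} (hr : r ∈ tw G x y) (hs : s ∈ tw G x y)
    (r2 : r * r ≠ 1) (s2 : s * s ≠ 1) :
    ∃ c ∈ tw G x y, c * r * c⁻¹ = s ∨ c * (r * r) * c⁻¹ = s :=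
  (h.facts hxy).2.2.2.2.2.2.2.2.2.1 r hr s hs r2 s2

theorem card_two {x y : Ω} (hxy : x ≠ y) : Nat.card (tw G x y) = 12 :=
  (h.facts hxy).2.2.2.2.2.2.2.2.2.2

theorem exists_map {a b c d : Ω} (hab : a ≠ b) (hcd : c ≠ d) : ∃ g : G, g • a = c ∧ g • b = d :=
  H36.CyZ.exists_map_pair h.two hab hcd

theorem eq_one_of_fix {g : G} (hg : ∀ z : Ω, g • z = z) : g = 1 :=
  have := h.faithful
  FaithfulSMul.eq_of_smul_eq_smul (α := Ω) fun z => by rw [one_smul, hg]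

theorem exists_moved {g : G} (hg : g ≠ 1) : ∃ z : Ω, g • z ≠ z := by
  by_contra k
  push Not at k
  exact hg (h.eq_one_of_fix k)

theorem exists_inv_two {x y : Ω} (hxy : x ≠ y) : ∃ t ∈ tw G x y, Inv t := by
  obtain ⟨r, hr, r2⟩ := h.exists_three hxy
  by_contra k
  push Not at k
  have h4 := h.card_four hxy
  have : Subsingleton {a : G // a ∈ tw G x y ∧ a * a = 1} := by
    refine ⟨fun a b => Subtype.ext ?_⟩
    have key : ∀ c : {a : G // a ∈ tw G x y ∧ a * a = 1}, (c : G) = 1 :=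
      fun c => by_contra fun hc => k c c.2.1 ⟨hc, c.2.2⟩
    rw [key a, key b]
  rw [Nat.card_of_subsingleton (⟨1, one_mem _, one_mul 1⟩ : {a : G // a ∈ tw G x y ∧ a * a = 1})] at h4
  omega

theorem isT_of_mem {x y : Ω} (hxy : x ≠ y) {t : G} (ht : t ∈ tw G x y) (ti : Inv t) : IsT Ω t :=
  ⟨ti, x, y, hxy, (mem_tw.1 ht).1, (mem_tw.1 ht).2⟩

theorem isT_conj {t t' : G} (ht : IsT Ω t) (ht' : IsT Ω t') : ∃ g : G, g * t * g⁻¹ = t' := by
  obtain ⟨ti, x, y, hxy, hx, hy⟩ := ht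
  obtain ⟨ti', x', y', hxy', hx', hy'⟩ := ht'
  obtain ⟨g, rfl, rfl⟩ := h.exists_map hxy hxy'
  obtain ⟨c, -, hc⟩ := h.two_conj hxy' (conj_mem_tw (mem_tw.2 ⟨hx, hy⟩)) (mem_tw.2 ⟨hx', hy'⟩)
    (ti.conj g) ti'
  exact ⟨c * g, by rw [← hc]; group⟩

theorem fixCard_eq {t t' : G} (ht : IsT Ω t) (ht' : IsT Ω t') : fixCard Ω t = fixCard Ω t' := by
  obtain ⟨g, rfl⟩ := h.isT_conj ht ht'
  refine Nat.card_congr ((MulAction.toPerm g).subtypeEquiv fun z => ?_)
  simp only [mem_fixedBy, MulAction.toPerm_apply, mul_smul, inv_smul_smul]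
  exact ⟨fun k => by rw [k], fun k => MulAction.injective g k⟩

/-- Witt's lemma. -/
theorem witt {t : G} (ti : Inv t) {x y x' y' : Ω} (hxy : x ≠ y) (hxy' : x' ≠ y') (hx : t • x = x)
    (hy : t • y = y) (hx' : t • x' = x') (hy' : t • y' = y') :
    ∃ g ∈ Subgroup.centralizer ({t} : Set G), g • x = x' ∧ g • y = y' := by
  obtain ⟨g, rfl, rfl⟩ := h.exists_map hxy hxy'
  obtain ⟨c, hc, hct⟩ := h.two_conj hxy' (conj_mem_tw (mem_tw.2 ⟨hx, hy⟩)) (mem_tw.2 ⟨hx', hy'⟩)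
    (ti.conj g) ti
  refine ⟨c * g, ?_, ?_, ?_⟩
  · rw [Subgroup.mem_centralizer_singleton_iff]
    calc c * g * t = c * (g * t * g⁻¹) * c⁻¹ * (c * g) := by group
      _ = t * (c * g) := by rw [hct]
  · rw [mul_smul, (mem_tw.1 hc).1]
  · rw [mul_smul, (mem_tw.1 hc).2]

theorem sq_of_cent {t : G} (ti : Inv t) {x y : Ω} (hxy : x ≠ y) (hx : t • x = x) (hy : t • y = y)
    {g : G} (hg : g ∈ Subgroup.centralizer ({t} : Set G)) (gx : g • x = x) (gy : g • y = y) :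
    g * g = 1 :=
  h.two_cent hxy (mem_tw.2 ⟨hx, hy⟩) (mem_tw.2 ⟨gx, gy⟩) ti
    (Subgroup.mem_centralizer_singleton_iff.1 hg).symm

theorem two_le_fixCard [Finite Ω] {t : G} (ht : IsT Ω t) : 2 ≤ fixCard Ω t := by
  obtain ⟨-, x, y, hxy, hx, hy⟩ := ht
  rw [fixCard, Nat.card_coe_set_eq]
  have : ({x, y} : Set Ω) ⊆ fixedBy Ω t := by
    rintro z (rfl | rfl) <;> assumption
  have := Set.ncard_le_ncard this (Set.toFinite _)
  rwa [Set.ncard_pair hxy] at this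

end Hyp

/-- Orbit-stabiliser for a subgroup. -/
theorem card_eq_orbit_mul [Finite G] (K : Subgroup G) (x : Ω) (S : Set Ω)
    (hS : ∀ z, z ∈ S ↔ ∃ g ∈ K, g • x = z) :
    Nat.card K = S.ncard * Nat.card ↥(K ⊓ stabilizer G x) := by
  classical
  have hor : orbit K x = S := by
    ext z
    rw [hS]
    exact ⟨fun ⟨g, hg⟩ => ⟨g.1, g.2, hg⟩, fun ⟨g, hg, hgz⟩ => ⟨⟨g, hg⟩, hgz⟩⟩
  have h1 := (stabilizer K x).card_mul_index
  rw [index_stabilizer, hor] at h1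
  rw [← h1, mul_comm]
  congr 1
  refine Nat.card_congr
    { toFun := fun g => ⟨g.1.1, g.1.2, g.2⟩
      invFun := fun g => ⟨⟨g.1, g.2.1⟩, g.2.2⟩
      left_inv := fun _ => rfl
      right_inv := fun _ => rfl }

namespace Hyp

variable (h : Hyp G Ω) [Finite G] [Finite Ω]
include h

theorem exists_ne_fixed {t : G} (ht : IsT Ω t) (x : Ω) : ∃ y, y ≠ x ∧ t • y = y := by
  obtain ⟨-, a, b, hab, ha, hb⟩ := ht
  by_cases k : a = x
  · exact ⟨b, fun e => hab (k.trans e.symm), hb⟩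
  · exact ⟨a, k, ha⟩

theorem exists_ne (x : Ω) : ∃ y, y ≠ x := by
  obtain ⟨a, b, hab⟩ := h.nontriv
  by_cases k : a = x
  · exact ⟨b, fun e => hab (k.trans e.symm)⟩
  · exact ⟨a, k⟩

theorem two_le_card : 2 ≤ Nat.card Ω := by
  obtain ⟨a, b, hab⟩ := h.nontriv
  have := Set.ncard_le_ncard (Set.subset_univ ({a, b} : Set Ω)) (Set.toFinite _)
  rwa [Set.ncard_pair hab, Set.ncard_univ] at this

theorem card_stabilizer (x : Ω) : Nat.card (stabilizer G x) = 12 * (Nat.card Ω - 1) := by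
  obtain ⟨y, hy⟩ := h.exists_ne x
  have := card_eq_orbit_mul (stabilizer G x) y {z | z ≠ x} fun z => ⟨fun hz => ?_, ?_⟩
  · rw [this, h.card_two hy.symm, show {z | z ≠ x} = ({x} : Set Ω)ᶜ from rfl, Set.ncard_compl,
      Set.ncard_singleton, mul_comm]
  · obtain ⟨g, gx, gy⟩ := h.exists_map hy.symm (Ne.symm hz)
    exact ⟨g, gx, gy⟩
  · rintro ⟨g, gx, rfl⟩ e
    exact hy (MulAction.injective g (e.trans (mem_stabilizer_iff.1 gx).symm))

theorem card_group : Nat.card G = 12 * (Nat.card Ω * (Nat.card Ω - 1)) := by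
  obtain ⟨x, -⟩ := h.nontriv
  have := card_eq_orbit_mul (⊤ : Subgroup G) x Set.univ fun z => ⟨fun _ => ?_, fun _ => trivial⟩
  · rw [Subgroup.card_top, Set.ncard_univ, top_inf_eq, h.card_stabilizer x] at this
    rw [this]
    ring
  · have := H36.CyZ.isTrans h.two
    obtain ⟨g, hg⟩ := MulAction.exists_smul_eq G x z
    exact ⟨g, trivial, hg⟩

theorem card_centralizer_stab {t : G} (ht : IsT Ω t) {x : Ω} (hx : t • x = x) :
    Nat.card ↥(Subgroup.centralizer ({t} : Set G) ⊓ stabilizer G x) = 4 * (fixCard Ω t - 1) := by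
  obtain ⟨y, hyx, hy⟩ := exists_ne_fixed h ht x
  have := card_eq_orbit_mul (Subgroup.centralizer ({t} : Set G) ⊓ stabilizer G x) y
    (fixedBy Ω t \ {x}) fun z => ⟨fun hz => ?_, ?_⟩
  · rw [this, Set.ncard_sdiff_singleton_of_mem (show x ∈ fixedBy Ω t from hx), ← Nat.card_coe_set_eq, ← fixCard,
      show Nat.card ↥(Subgroup.centralizer ({t} : Set G) ⊓ stabilizer G x ⊓ stabilizer G y) = 4 from ?_,
      mul_comm]
    rw [← h.card_four hyx.symm]
    refine Nat.card_congr (Equiv.subtypeEquivRight fun g => ⟨fun hg => ?_, fun hg => ?_⟩)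
    · exact ⟨⟨hg.1.2, hg.2⟩, h.sq_of_cent ht.1 hyx.symm hx hy hg.1.1 hg.1.2 hg.2⟩
    · exact ⟨⟨Subgroup.mem_centralizer_singleton_iff.2
        (h.two_comm hyx.symm hg.1 (mem_tw.2 ⟨hx, hy⟩) hg.2 ht.1.2).1, hg.1.1⟩, hg.1.2⟩
  · obtain ⟨g, hg, gx, gy⟩ := h.witt ht.1 hyx.symm (Ne.symm hz.2) hx hy hx hz.1
    exact ⟨g, ⟨hg, gx⟩, gy⟩
  · rintro ⟨g, ⟨hg, gx⟩, rfl⟩
    refine ⟨?_, fun e => hyx ?_⟩
    · show t • g • y = g • y
      rw [← mul_smul, ← Subgroup.mem_centralizer_singleton_iff.1 hg, mul_smul, hy]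
    · exact MulAction.injective g ((Set.mem_singleton_iff.1 e).trans (mem_stabilizer_iff.1 gx).symm)

theorem card_centralizer {t : G} (ht : IsT Ω t) :
    Nat.card (Subgroup.centralizer ({t} : Set G)) = 4 * (fixCard Ω t * (fixCard Ω t - 1)) := by
  obtain ⟨x, y, hxy, hx, hy⟩ := ht.2
  have := card_eq_orbit_mul (Subgroup.centralizer ({t} : Set G)) x (fixedBy Ω t)
    fun z => ⟨fun hz => ?_, ?_⟩
  · rw [this, h.card_centralizer_stab ht hx, ← Nat.card_coe_set_eq, ← fixCard]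
    ring
  · obtain ⟨w, hw, hw'⟩ := exists_ne_fixed h ht z
    obtain ⟨g, hg, gx, -⟩ := h.witt ht.1 hxy hw.symm hx hy hz hw'
    exact ⟨g, hg, gx⟩
  · rintro ⟨g, hg, rfl⟩
    show t • g • x = g • x
    rw [← mul_smul, ← Subgroup.mem_centralizer_singleton_iff.1 hg, mul_smul, hx]

/-- The class of a `t`-involution. -/
theorem card_isT {t : G} (ht : IsT Ω t) :
    Nat.card {s : G // IsT Ω s} * (4 * (fixCard Ω t * (fixCard Ω t - 1))) =
      12 * (Nat.card Ω * (Nat.card Ω - 1)) := by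
  rw [← h.card_centralizer ht, ← h.card_group]
  have hor : ∀ s : G, s ∈ orbit (ConjAct G) t ↔ IsT Ω s := by
    intro s
    constructor
    · rintro ⟨c, rfl⟩
      exact ht.conj (ConjAct.ofConjAct c)
    · intro hs
      obtain ⟨g, rfl⟩ := h.isT_conj ht hs
      exact ⟨ConjAct.toConjAct g, rfl⟩
  have h1 := (stabilizer (ConjAct G) t).card_mul_index
  rw [index_stabilizer, ← Nat.card_coe_set_eq, Nat.card_congr (Equiv.subtypeEquivRight hor)] at h1
  rw [← h1.trans (Nat.card_congr ConjAct.ofConjAct.toEquiv), mul_comm]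
  congr 1
  refine Nat.card_congr
    { toFun := fun g => ⟨ConjAct.toConjAct g.1, ?_⟩
      invFun := fun g => ⟨ConjAct.ofConjAct g.1, ?_⟩
      left_inv := fun _ => rfl
      right_inv := fun _ => rfl }
  · rw [mem_stabilizer_iff, ConjAct.smul_def, ConjAct.ofConjAct_toConjAct, mul_inv_eq_iff_eq_mul]
    exact Subgroup.mem_centralizer_singleton_iff.1 g.2
  · have := g.2
    rw [mem_stabilizer_iff, ConjAct.smul_def, mul_inv_eq_iff_eq_mul] at this
    exact Subgroup.mem_centralizer_singleton_iff.2 this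

/-- The four group of a two-point stabiliser is the intersection with the centraliser. -/
theorem mem_line_iff {x y : Ω} (hxy : x ≠ y) {z : Ω} :
    z ∈ line G x y ↔ ∀ v ∈ tw G x y, Inv v → v • z = z := by
  refine ⟨fun k v hv vi => k v hv vi.2, fun k v hv v2 => ?_⟩
  by_cases v1 : v = 1
  · rw [v1, one_smul]
  · exact k v hv ⟨v1, v2⟩

end Hyp

end Cfsg.Agent.H6.AFour
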