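import Cfsg.Agent.H6.AFour.Thin

/-!
# The translation group of the centraliser of an involution, odd fixed point number
-/

set_option autoImplicit false
set_option linter.unusedSectionVars false
set_option linter.style.haveILetI false

namespace Cfsg.Agent.H6.AFour

open MulAction

variable {G Ω : Type*} [Group G] [MulAction G Ω]

/-- The data of a translation group. -/
structure PBlock (Ω : Type*) [MulAction G Ω] (t : G) (p : ℕ) (P : Subgroup G) : Prop where
  prime : p.Prime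
  odd : Odd p
  pgroup : IsPGroup p P
  le : P ≤ Subgroup.centralizer ({t} : Set G)
  norm : Subgroup.centralizer ({t} : Set G) ≤ Subgroup.normalizer (P : Set G)
  card : Nat.card P = fixCard Ω t
  trans : ∀ a ∈ fixedBy Ω t, ∀ b ∈ fixedBy Ω t, ∃ g ∈ P, g • a = b

namespace Hyp

variable (h : Hyp G Ω) [Finite G] [Finite Ω]
include h

theorem exists_pblock (hth : ¬ Flat G Ω) {t : G} (ht : IsT Ω t) (hodd : Odd (fixCard Ω t))
    (hex : ∃ q, Two.IsSwap (Δ := ↥(fixedBy Ω t)) (q : ↥(centImage Ω t))) :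
    ∃ (p : ℕ) (P : Subgroup G), PBlock Ω t p P := by
  classical
  obtain ⟨p, N, hp, hNn, hNp, -, hNc, hNtr⟩ := (h.two_hyp hth ht).exists_regular hex
  have : Fact p.Prime := ⟨hp⟩
  set C := Subgroup.centralizer ({t} : Set G)
  set π := toImage Ω t
  have hπ : Function.Surjective π := (centPerm (Ω := Ω) t).rangeRestrict_surjective
  set E : Subgroup C := N.comap π
  have hf2 : 2 ≤ fixCard Ω t := two_le_fixCard h ht
  obtain ⟨k, hk⟩ := hNp.exists_card_eq
  have hfk : fixCard Ω t = p ^ k := hNc.symm.trans hk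
  have hk0 : k ≠ 0 := fun e => by rw [hfk, e, pow_zero] at hf2; omega
  have hpodd : Odd p := (Nat.odd_pow_iff hk0).1 (hfk ▸ hodd)
  have hker : Nat.card π.ker = 2 := by
    have htC : t ∈ C := Subgroup.mem_centralizer_singleton_iff.2 rfl
    rw [Nat.card_eq_two_iff' (1 : π.ker)]
    refine ⟨⟨⟨t, htC⟩, (h.toImage_eq_one hth ht _).2 (Or.inr rfl)⟩,
      fun e => ht.1.1 (congrArg (fun z : π.ker => ((z : C) : G)) e), fun z hz => ?_⟩
    rcases (h.toImage_eq_one hth ht _).1 z.2 with e | e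
    · exact absurd (Subtype.ext (Subtype.ext e)) hz
    · exact Subtype.ext (Subtype.ext e)
  have hEc : Nat.card E = 2 * p ^ k := by
    have e1 := (π.comp E.subtype).ker.card_mul_index
    rw [Subgroup.index_ker] at e1
    rw [← e1, ← hk, ← hker]
    congr 1
    · exact Nat.card_congr
        { toFun := fun g => ⟨g.1.1, g.2⟩
          invFun := fun g => ⟨⟨g.1, Subgroup.mem_comap.2 (by rw [show π g.1 = 1 from g.2]; exact one_mem N)⟩, g.2⟩
          left_inv := fun _ => rfl
          right_inv := fun _ => rfl }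
    · refine Nat.card_congr (Equiv.subtypeEquivRight fun q => ⟨?_, fun hq => ?_⟩)
      · rintro ⟨g, rfl⟩
        exact g.2
      · obtain ⟨g, rfl⟩ := hπ q
        exact ⟨⟨g, hq⟩, rfl⟩
  obtain ⟨S⟩ : Nonempty (Sylow p E) := inferInstance
  have hSc : Nat.card (S : Subgroup E) = p ^ k := by
    obtain ⟨j, hj⟩ := S.2.exists_card_eq
    have hcop : Nat.Coprime (p ^ j) 2 := Nat.Coprime.pow_left _ (Nat.coprime_two_right.2 hpodd)
    have h1 : p ^ j ∣ p ^ k := hcop.dvd_of_dvd_mul_left (by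
      rw [← hj, ← hEc]; exact Subgroup.card_subgroup_dvd_card _)
    have h2 : p ^ k ∣ p ^ j := by
      rw [← hj]
      exact S.pow_dvd_card_of_pow_dvd_card (by rw [hEc]; exact dvd_mul_left _ _)
    rw [hj]
    exact Nat.dvd_antisymm h1 h2
  have hidx : (S : Subgroup E).index = 2 := by
    have := (S : Subgroup E).card_mul_index
    rw [hSc, hEc, mul_comm 2] at this
    exact Nat.eq_of_mul_eq_mul_left (Nat.pow_pos hp.pos) this
  have hSn : (S : Subgroup E).Normal := Subgroup.normal_of_index_eq_two hidx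
  have hSch : (S : Subgroup E).Characteristic := S.characteristic_of_normal hSn
  have hEn : E.Normal := hNn.comap _
  set P₀ : Subgroup C := (S : Subgroup E).map E.subtype
  have hP₀n : P₀.Normal := ConjAct.normal_of_characteristic_of_normal
  refine ⟨p, P₀.map C.subtype, hp, hpodd, (S.2.map _).map _, Subgroup.map_subtype_le _, ?_, ?_, ?_⟩
  · intro g hg
    refine Subgroup.mem_normalizer_iff.2 fun a => ⟨?_, fun k => ?_⟩
    · rintro ⟨a, ha, rfl⟩
      exact ⟨⟨g, hg⟩ * a * ⟨g, hg⟩⁻¹, hP₀n.conj_mem a ha _, rfl⟩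
    · obtain ⟨b, hb, e⟩ := k
      refine ⟨⟨g, hg⟩⁻¹ * b * ⟨g, hg⟩, ?_, ?_⟩
      · have := hP₀n.conj_mem b hb (⟨g, hg⟩⁻¹ : C)
        rwa [inv_inv] at this
      · show g⁻¹ * (b : G) * g = a
        rw [show (b : G) = g * a * g⁻¹ from e]
        group
  · rw [Subgroup.card_map_of_injective C.subtype_injective, Subgroup.card_map_of_injective E.subtype_injective,
      hSc, hfk]
  · intro a ha b hb
    obtain ⟨q, hq, e⟩ := hNtr ⟨a, ha⟩ ⟨b, hb⟩
    obtain ⟨g, rfl⟩ := hπ q
    have hgE : g ∈ E := hq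
    have e' : (g : G) • a = b := congrArg Subtype.val e
    -- split off the part in the kernel
    have htC : t ∈ C := Subgroup.mem_centralizer_singleton_iff.2 rfl
    have htE : (⟨t, htC⟩ : C) ∈ E := Subgroup.mem_comap.2 (by
      rw [(h.toImage_eq_one hth ht ⟨t, htC⟩).2 (Or.inr rfl)]; exact one_mem N)
    have hor : (⟨g, hgE⟩ : E) ∈ (S : Subgroup E) ∨ (⟨g, hgE⟩ * ⟨_, htE⟩ : E) ∈ (S : Subgroup E) := by
      by_cases k : (⟨g, hgE⟩ : E) ∈ (S : Subgroup E)
      · exact Or.inl k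
      right
      refine (Subgroup.mul_mem_iff_of_index_two hidx).2 ⟨fun hh => absurd hh k, fun hh => ?_⟩
      exfalso
      obtain ⟨j, hj⟩ := S.2 ⟨_, hh⟩
      have h1 : t ^ p ^ j = 1 := by
        simpa using congrArg (fun z : (S : Subgroup E) => ((((z : E) : C)) : G)) hj
      have h2 := orderOf_dvd_of_pow_eq_one h1
      rw [ht.1.orderOf, ← even_iff_two_dvd] at h2
      exact absurd hpodd.pow (Nat.not_odd_iff_even.2 h2)
    rcases hor with k | k
    · exact ⟨g, ⟨g, ⟨_, k, rfl⟩, rfl⟩, e'⟩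
    · refine ⟨(g : G) * t, ⟨_, ⟨_, k, rfl⟩, rfl⟩, ?_⟩
      rw [mul_smul, show t • a = a from ha, e']

/-- The orbit of the fixed point set under the normaliser of the translations. -/
theorem block_orbit (hth : ¬ Flat G Ω) {t : G} (ht : IsT Ω t) {p : ℕ} {P : Subgroup G}
    (hP : PBlock Ω t p P) :
    ∃ U : Set Ω, fixedBy Ω t ⊆ U ∧
      (∀ g ∈ Subgroup.centralizer ({t} : Set G), ∀ z ∈ U, g • z ∈ U) ∧
      Nat.card (Subgroup.normalizer (P : Set G)) * fixCard Ω t =
        U.ncard * Nat.card (Subgroup.centralizer ({t} : Set G)) := by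
  classical
  set N := Subgroup.normalizer (P : Set G) with hN
  obtain ⟨x, y, hxy, hx, hy⟩ := ht.2
  refine ⟨{z | ∃ g ∈ N, g • x = z}, fun z hz => ?_, fun g hg z hz => ?_, ?_⟩
  · obtain ⟨g, hg, e⟩ := hP.trans x hx z hz
    exact ⟨g, Subgroup.le_normalizer hg, e⟩
  · obtain ⟨k, hk, rfl⟩ := hz
    exact ⟨g * k, mul_mem (hP.norm hg) hk, mul_smul g k x⟩
  have h1 := card_eq_orbit_mul N x {z | ∃ g ∈ N, g • x = z} fun z => Iff.rfl
  have heq : N ⊓ stabilizer G x = Subgroup.centralizer ({t} : Set G) ⊓ stabilizer G x := by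
    refine le_antisymm (fun g hg => ⟨?_, hg.2⟩) (inf_le_inf_right _ hP.norm)
    have gx : g • x = x := hg.2
    have hmap : ∀ z : Ω, t • z = z → t • g⁻¹ • z = g⁻¹ • z := by
      intro z hz
      obtain ⟨k, hk, rfl⟩ := hP.trans x hx z hz
      have hk' : g⁻¹ * k * g ∈ P := (Subgroup.mem_normalizer_iff''.1 hg.1 k).1 hk
      rw [show g⁻¹ • k • x = (g⁻¹ * k * g) • x by rw [mul_smul, mul_smul, gx]]
      exact cent_fixed (hP.le hk') hx
    have hu : ∀ z : Ω, t • z = z → (g * t * g⁻¹) • z = z := fun z hz => by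
      rw [mul_smul, mul_smul, hmap z hz, smul_inv_smul]
    have hui := ht.1.conj g
    have hfix : fixedBy Ω t = fixedBy Ω (g * t * g⁻¹) := by
      refine Set.eq_of_subset_of_ncard_le hu ?_ (Set.toFinite _)
      rw [← Nat.card_coe_set_eq, ← Nat.card_coe_set_eq]
      exact (h.fixCard_eq (ht.conj g) ht).le
    have htV : t ∈ h.four hxy := ⟨mem_tw.2 ⟨hx, hy⟩, ht.1.2⟩
    rcases h.fix_inj hth hxy htV ht.1.1 ⟨mem_tw.2 ⟨hu x hx, hu y hy⟩, hui.2⟩ hfix.le with e | e
    · exact absurd e hui.1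
    · exact Subgroup.mem_centralizer_singleton_iff.2 (mul_inv_eq_iff_eq_mul.1 e)
  have h2 := card_eq_orbit_mul (Subgroup.centralizer ({t} : Set G)) x (fixedBy Ω t) fun z => ⟨fun hz => by
    obtain ⟨k, hk, e⟩ := hP.trans x hx z hz
    exact ⟨k, hP.le hk, e⟩, fun ⟨k, hk, e⟩ => e ▸ cent_fixed hk hx⟩
  rw [h1, heq, h2, fixCard, Nat.card_coe_set_eq]
  ring

/-- The centraliser of `t` permutes the pairs it exchanges of one given kind transitively. -/
theorem exists_cent_map {t : G} {x x' : Ω} (hx : t • x ≠ x) (hx' : t • x' ≠ x')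
    (hconj : ∀ g : G, g • x = x' → g • t • x = t • x' →
      ∃ c ∈ tw G x' (t • x'), c * (g * t * g⁻¹) * c⁻¹ = t) :
    ∃ g ∈ Subgroup.centralizer ({t} : Set G), g • x = x' := by
  obtain ⟨g, gx, gy⟩ := h.exists_map (Ne.symm hx) (Ne.symm hx')
  obtain ⟨c, hc, e⟩ := hconj g gx gy
  refine ⟨c * g, Subgroup.mem_centralizer_singleton_iff.2 ?_, ?_⟩
  · calc c * g * t = c * (g * t * g⁻¹) * c⁻¹ * (c * g) := by group
      _ = t * (c * g) := by rw [e]
  · rw [mul_smul, gx, (mem_tw.1 hc).1]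

end Hyp

end Cfsg.Agent.H6.AFour
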