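import Cfsg.Agent.H6.AFour.ThinA
import Cfsg.Agent.H6.AFour.PBlock

/-!
# No central exchanging involution, thin case: impossible
-/

set_option autoImplicit false
set_option linter.unusedSectionVars false

namespace Cfsg.Agent.H6.AFour

open MulAction

variable {G Ω : Type*} [Group G] [MulAction G Ω]

namespace Hyp

variable (h : Hyp G Ω) [Finite G] [Finite Ω]
include h

/-- No such group of degree twenty eight. -/
theorem not_deg_twenty_eight (hn : NoMid G Ω) {t : G} (ht : IsT Ω t) (hf : fixCard Ω t = 4)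
    (hd : Nat.card Ω = 28) : False := by
  classical
  have : Fact (Nat.Prime 7) := ⟨by norm_num⟩
  have hG : Nat.card G = 9072 := by rw [h.card_group, hd]
  have hC : ∀ i : G, Inv i → Nat.card (Subgroup.centralizer ({i} : Set G)) = 48 := by
    intro i hi
    have hiT := h.allT_of_noMid hn i hi
    rw [h.card_centralizer hiT, h.fixCard_eq hiT ht, hf]
  obtain ⟨P⟩ : Nonempty (Sylow 7 G) := inferInstance
  have hPc : Nat.card (P : Subgroup G) = 7 := by
    rw [Sylow.card_eq_multiplicity, hG, Nat.factorization_def _ (by norm_num : Nat.Prime 7)]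
    have : padicValNat 7 9072 = 1 := by
      rw [show 9072 = 7 ^ 1 * 1296 by norm_num, padicValNat.mul (by norm_num) (by norm_num),
        padicValNat.prime_pow, padicValNat.eq_zero_of_not_dvd (by norm_num)]
    rw [this, pow_one]
  -- the centraliser of a Sylow subgroup has odd order
  set C := Subgroup.centralizer ((P : Subgroup G) : Set G)
  have hCodd : Odd (Nat.card C) := by
    rw [← Nat.not_even_iff_odd, even_iff_two_dvd]
    intro hd2
    have : Fact (Nat.Prime 2) := ⟨Nat.prime_two⟩
    obtain ⟨i, hi⟩ := exists_prime_orderOf_dvd_card' (G := C) 2 hd2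
    rw [← Subgroup.orderOf_coe] at hi
    have hle : (P : Subgroup G) ≤ Subgroup.centralizer ({(i : G)} : Set G) := fun u hu =>
      Subgroup.mem_centralizer_singleton_iff.2 (Subgroup.mem_centralizer_iff.1 i.2 u hu)
    have := Subgroup.card_dvd_of_le hle
    rw [hPc, hC _ (inv_of_orderOf hi)] at this
    norm_num at this
  set N := Subgroup.normalizer ((P : Subgroup G) : Set G) with hN
  -- the two-part of the normaliser is at most two
  have hN4 : ¬ 4 ∣ Nat.card N := by
    intro h4
    let φ : N →* MulAut (P : Subgroup G) := (P : Subgroup G).normalizerMonoidHom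
    have hk : Nat.card φ.ker ∣ Nat.card C := by
      have : φ.ker.map N.subtype ≤ C := by
        rintro _ ⟨g, hg, rfl⟩
        refine Subgroup.mem_centralizer_iff.2 fun u hu => ?_
        have := congrArg (fun (ψ : MulAut (P : Subgroup G)) => ((ψ ⟨u, hu⟩ : (P : Subgroup G)) : G))
          (hg : φ g = 1)
        change (g : G) * u * (g : G)⁻¹ = u at this
        exact (mul_inv_eq_iff_eq_mul.1 this).symm
      rw [← Subgroup.card_map_of_injective N.subtype_injective]
      exact Subgroup.card_dvd_of_le this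
    have hr : Nat.card φ.range ∣ 6 := by
      have : IsCyclic (P : Subgroup G) := isCyclic_of_prime_card hPc
      refine (Subgroup.card_subgroup_dvd_card _).trans ?_
      rw [IsCyclic.card_mulAut, hPc, Nat.totient_prime (by norm_num)]
    have e := φ.ker.card_mul_index
    rw [Subgroup.index_ker] at e
    obtain ⟨a, ha⟩ := hk
    have hkodd : Odd (Nat.card φ.ker) := (Nat.odd_mul.1 (ha ▸ hCodd)).1
    rw [← e] at h4
    have h6 : 4 ∣ Nat.card φ.range :=
      ((Nat.coprime_two_left.2 hkodd).pow_left 2).dvd_of_dvd_mul_left h4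
    have := h6.trans hr
    norm_num at this
  have hidx := (P : Subgroup G).card_mul_index
  have hns : Nat.card (Sylow 7 G) = N.index := P.card_eq_index_normalizer
  have hmod := card_sylow_modEq_one 7 G
  have hNG := N.card_mul_index
  rw [hG] at hNG
  rw [hns, Nat.ModEq] at hmod
  have hdvd : N.index ∣ 1296 := by
    have h7 : Nat.Coprime N.index 7 := by
      refine ((Nat.Prime.coprime_iff_not_dvd (by norm_num)).2 fun k => ?_).symm
      omega
    exact h7.dvd_of_dvd_mul_right (show N.index ∣ 1296 * 7 from ⟨Nat.card N, by rw [mul_comm N.index]; omega⟩)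
  have hcases : N.index = 8 ∨ N.index = 1296 := by
    have h1296 : N.index ∈ Nat.divisors 1296 := Nat.mem_divisors.2 ⟨hdvd, by norm_num⟩
    generalize N.index = m at hNG hmod h1296
    generalize Nat.card N = c at hNG hN4
    have key : ∀ m ∈ Nat.divisors 1296, m % 7 = 1 → ¬ 4 ∣ 9072 / m → m = 8 ∨ m = 1296 := by decide +kernel
    refine key m h1296 (by rw [hmod]) ?_
    rwa [← hNG, Nat.mul_div_cancel _ (Nat.pos_of_mem_divisors h1296)]
  rcases hcases with h8 | h1296
  · -- faithful on eight points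
    set K := N.normalCore
    have hK : K = ⊥ := by
      by_contra hK
      obtain ⟨x, -⟩ := h.nontriv
      haveI := h.faithful
      have h28 := H36.CyZ.card_dvd_of_trans K x (H36.CyZ.normal_trans h.two K hK x)
      have hKN := Subgroup.card_dvd_of_le N.normalCore_le
      rw [hd] at h28
      rw [h8] at hNG
      have := h28.trans hKN
      rw [show Nat.card N = 1134 by omega] at this
      norm_num at this
    have hinj : Function.Injective (MulAction.toPermHom G (G ⧸ N)) := by
      rw [← MonoidHom.ker_eq_bot_iff, ← N.normalCore_eq_ker]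
      exact hK
    have hdd := Subgroup.card_dvd_of_injective _ hinj
    rw [hG, Nat.card_perm, ← Subgroup.index_eq_card, h8] at hdd
    norm_num [Nat.factorial] at hdd
  · -- a normal complement
    have hNP : N = (P : Subgroup G) := by
      refine (Subgroup.eq_of_le_of_card_ge Subgroup.le_normalizer ?_).symm
      rw [h1296] at hNG
      change Nat.card N ≤ _
      rw [hPc]
      omega
    have hab : IsMulCommutative (P : Subgroup G) := by
      have : IsCyclic (P : Subgroup G) := isCyclic_of_prime_card hPc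
      exact IsCyclic.isMulCommutative
    have hnc : N ≤ C := by
      rw [hNP]
      exact Subgroup.le_centralizer _
    set f := MonoidHom.transferSylow P hnc
    have hc := MonoidHom.ker_transferSylow_isComplement' P hnc
    have hk : Nat.card f.ker = 1296 := by
      have := hc.card_mul_card
      rw [hPc, hG] at this
      exact Nat.eq_of_mul_eq_mul_right (show 0 < 7 by norm_num) this
    have hne : f.ker ≠ ⊥ := fun e => by rw [e, Subgroup.card_bot] at hk; omega
    obtain ⟨x, -⟩ := h.nontriv
    haveI := h.faithful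
    have h28 := H36.CyZ.card_dvd_of_trans f.ker x (H36.CyZ.normal_trans h.two f.ker hne x)
    rw [hd, hk] at h28
    norm_num at h28

theorem caseA_flat_of_noMid (hn : NoMid G Ω) : Flat G Ω := by
  classical
  by_contra hth
  obtain ⟨x, y, hxy⟩ := h.nontriv
  obtain ⟨t, ht, ti⟩ := h.exists_inv_two hxy
  have htV : t ∈ h.four hxy := ⟨ht, ti.2⟩
  have hT : IsT Ω t := h.isT_of_mem hxy ht ti
  obtain ⟨hfe, hex⟩ := h.thinA_facts hn hth hxy htV ti.1
  have heqn := h.eq_A hn hT
  have hfn : fixCard Ω t ≤ Nat.card Ω := Finite.card_subtype_le _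
  have hf2 : 2 ≤ fixCard Ω t := two_le_fixCard h hT
  rcases Nat.even_or_odd (line G x y).ncard with hev | hodd
  · have he := h.thinA_even hn hxy hev
    rw [he] at hfe
    norm_num at hfe
    exact h.not_deg_twenty_eight hn hT hfe (by rw [hfe] at heqn hfn; omega)
  have hfodd : Odd (fixCard Ω t) := hfe ▸ hodd.pow
  obtain ⟨p, P, hP⟩ := h.exists_pblock hth hT hfodd hex
  obtain ⟨U, hU, hUC, hUc⟩ := h.block_orbit hth hT hP
  set f := fixCard Ω t with hf
  set C := Subgroup.centralizer ({t} : Set G)
  have hCc : Nat.card C = 4 * (f * (f - 1)) := h.card_centralizer hT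
  set N := Subgroup.normalizer (P : Set G)
  obtain ⟨u, hu⟩ := Nat.exists_eq_add_of_le hf2
  have hnat : Nat.card Ω = f * (2 * f - 1) := by
    rw [hu] at heqn hfn ⊢
    rw [show 2 + u - 1 = 1 + u by omega] at heqn
    rw [show 2 * (2 + u) - 1 = 3 + 2 * u by omega]
    have e : (2 + u) * (3 + 2 * u) = 2 * ((2 + u) * (1 + u)) + (2 + u) := by ring
    omega
  -- `C` is transitive on the moved points
  have hUtwo : U.ncard = f ∨ U.ncard = Nat.card Ω := by
    by_cases k : U ⊆ fixedBy Ω t
    · left
      rw [Set.Subset.antisymm k hU, ← Nat.card_coe_set_eq]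
      rfl
    right
    rw [← Set.ncard_univ]
    congr 1
    refine Set.eq_univ_of_forall fun z => ?_
    by_cases hz : t • z = z
    · exact hU hz
    obtain ⟨z₀, hz₀, hz₀t⟩ := Set.not_subset.1 k
    obtain ⟨g, hg, e⟩ := h.exists_cent_map (show t • z₀ ≠ z₀ from hz₀t) hz fun g gx gy => by
      refine (h.swaps_nomid (Ne.symm hz) (hn _ _ (Ne.symm hz))).2 _ ⟨ti.conj g, ?_⟩ t ⟨ti, rfl⟩
      rw [← gx, mul_smul, mul_smul, inv_smul_smul, gy, gx]
    exact e ▸ hUC g hg z₀ hz₀
  have hG : Nat.card G = Nat.card C * (3 * ((2 * f - 1) * (2 * f + 1))) := by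
    rw [h.card_group, hCc, hnat]
    have e : f * (2 * f - 1) - 1 = (2 * f + 1) * (f - 1) := by
      rw [hu, show 2 * (2 + u) - 1 = 3 + 2 * u by omega, show 2 + u - 1 = 1 + u by omega]
      have : (2 + u) * (3 + 2 * u) = (2 * (2 + u) + 1) * (1 + u) + 1 := by ring
      omega
    rw [e]
    ring
  have hm : ∃ m, (m = 1 ∨ m = 2 * f - 1) ∧ Nat.card N = m * Nat.card C := by
    rcases hUtwo with k | k <;> rw [k] at hUc
    · exact ⟨1, Or.inl rfl, by
        rw [one_mul]; exact Nat.eq_of_mul_eq_mul_right (show 0 < f by omega) (by rw [hUc, mul_comm])⟩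
    · refine ⟨2 * f - 1, Or.inr rfl, Nat.eq_of_mul_eq_mul_right (show 0 < f by omega) ?_⟩
      rw [hUc, hnat]; ring
  obtain ⟨m, hm, hNc⟩ := hm
  have : Fact p.Prime := ⟨hP.prime⟩
  obtain ⟨k, hk⟩ := hP.pgroup.exists_card_eq
  have hpf : f = p ^ k := hP.card.symm.trans hk
  have hk0 : k ≠ 0 := fun e => by rw [hpf, e, pow_zero] at hf2; omega
  have hpdvd : p ∣ f := hpf ▸ dvd_pow_self p hk0
  have hp2 : p ≠ 2 := fun e => by
    have := hP.odd
    rw [e] at this
    exact absurd this (by decide)
  have hp4 : ¬ p ∣ 4 := fun k => hp2 ((Nat.prime_dvd_prime_iff_eq hP.prime Nat.prime_two).1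
    (hP.prime.dvd_of_dvd_pow (show p ∣ 2 ^ 2 from k)))
  have hp1 : ¬ p ∣ f - 1 := fun k => hP.prime.one_lt.ne' (Nat.dvd_one.1 (by
    have := Nat.dvd_sub hpdvd k
    rwa [show f - (f - 1) = 1 by omega] at this))
  have hpa : ¬ p ∣ 2 * f - 1 := fun k => hP.prime.one_lt.ne' (Nat.dvd_one.1 (by
    have := Nat.dvd_sub (dvd_mul_of_dvd_right hpdvd 2) k
    rwa [show 2 * f - (2 * f - 1) = 1 by omega] at this))
  have hpb : ¬ p ∣ 2 * f + 1 := fun k => hP.prime.one_lt.ne' (Nat.dvd_one.1 (by
    have := Nat.dvd_sub k (dvd_mul_of_dvd_right hpdvd 2)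
    rwa [show 2 * f + 1 - 2 * f = 1 by omega] at this))
  obtain ⟨T, hT'⟩ := hP.pgroup.exists_le_sylow
  obtain ⟨j, hj⟩ := T.2.exists_card_eq
  have hkj : k ≤ j := (Nat.pow_le_pow_iff_right hP.prime.one_lt).1 (hk ▸ hj ▸ Subgroup.card_le_of_le hT')
  have hTd : p ^ j ∣ p ^ k * 3 := by
    have hd := Subgroup.card_subgroup_dvd_card (T : Subgroup G)
    rw [hj, hG, hCc, show 4 * (f * (f - 1)) * (3 * ((2 * f - 1) * (2 * f + 1))) =
      f * 3 * (4 * (f - 1) * ((2 * f - 1) * (2 * f + 1))) by ring] at hd
    have hco : Nat.Coprime (p ^ j) (4 * (f - 1) * ((2 * f - 1) * (2 * f + 1))) := by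
      refine Nat.Coprime.pow_left _ (hP.prime.coprime_iff_not_dvd.2 fun k => ?_)
      rcases hP.prime.dvd_mul.1 k with k | k
      · exact (hP.prime.dvd_mul.1 k).elim hp4 hp1
      · exact (hP.prime.dvd_mul.1 k).elim hpa hpb
    rw [← hpf]
    exact hco.dvd_of_dvd_mul_right hd
  by_cases hp3 : p = 3
  · -- the normaliser contains a larger three-subgroup
    subst hp3
    have hj1 : j ≤ k + 1 := (Nat.pow_dvd_pow_iff_le_right (show 1 < 3 by norm_num)).1 (by rw [pow_succ]; exact hTd)
    have h3G : 3 ^ (k + 1) ∣ Nat.card G := by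
      rw [hG, hCc, pow_succ, ← hpf]
      exact ⟨4 * (f - 1) * ((2 * f - 1) * (2 * f + 1)), by ring⟩
    have hjk : j = k + 1 := by
      refine le_antisymm hj1 ((Nat.pow_dvd_pow_iff_le_right (show 1 < 3 by norm_num)).1 ?_)
      rw [← hj]
      exact T.pow_dvd_card_of_pow_dvd_card h3G
    have hTN : (T : Subgroup G) ≤ N := by
      have hidx : (P.subgroupOf (T : Subgroup G)).index = 3 := by
        have e := (P.subgroupOf (T : Subgroup G)).card_mul_index
        rw [Nat.card_congr (Subgroup.subgroupOfEquivOfLe hT').toEquiv, hk, hj, hjk, pow_succ] at e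
        exact Nat.eq_of_mul_eq_mul_left (by positivity) e
      have : (P.subgroupOf (T : Subgroup G)).Normal := by
        refine Subgroup.normal_of_index_eq_minFac_card ?_
        rw [hidx, hj, Nat.pow_minFac (by omega), Nat.Prime.minFac_eq Nat.prime_three]
      exact (Subgroup.normal_subgroupOf_iff_le_normalizer hT').1 this
    have hdd := Subgroup.card_dvd_of_le hTN
    rw [hj, hjk, hNc, hCc, hpf, pow_succ,
      show m * (4 * (3 ^ k * (3 ^ k - 1))) = 3 ^ k * (m * (4 * (3 ^ k - 1))) by ring] at hdd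
    have h3 : 3 ∣ m * (4 * (3 ^ k - 1)) := (Nat.mul_dvd_mul_iff_left (by positivity)).1 hdd
    rcases Nat.prime_three.dvd_mul.1 h3 with k3 | k3
    · rcases hm with rfl | rfl
      · norm_num at k3
      · exact hpa k3
    · rw [← hpf] at k3
      exact (Nat.prime_three.dvd_mul.1 k3).elim hp4 hp1
  · -- Sylow's congruence
    have hjk : j = k := by
      refine le_antisymm ((Nat.pow_dvd_pow_iff_le_right hP.prime.one_lt).1 ?_) hkj
      exact (Nat.Coprime.pow_left _ ((Nat.coprime_primes hP.prime Nat.prime_three).2 hp3)).dvd_of_dvd_mul_right hTd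
    have hPT : P = (T : Subgroup G) := Subgroup.eq_of_le_of_card_ge hT' (by rw [hk, hj, hjk])
    have hidx : Nat.card (Sylow p G) = N.index := by rw [T.card_eq_index_normalizer]; simp only [N, hPT]; rfl
    have hI : m * N.index = 3 * ((2 * f - 1) * (2 * f + 1)) := by
      refine Nat.eq_of_mul_eq_mul_left (show 0 < Nat.card C from Nat.card_pos) ?_
      rw [← hG, ← N.card_mul_index, hNc]
      ring
    have hmod : N.index ≡ 1 [MOD p] := hidx ▸ card_sylow_modEq_one p G
    rcases hm with rfl | rfl
    · rw [one_mul] at hI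
      -- `-3 ≡ 1`
      refine hp4 ?_
      have e : N.index + 3 = 4 * f * (3 * f) := by
        rw [hI, hu, show 2 * (2 + u) - 1 = 3 + 2 * u by omega]; ring
      have h1 : (N.index + 3) ≡ 1 + 3 [MOD p] := hmod.add_right 3
      have h2 : N.index + 3 ≡ 0 [MOD p] :=
        Nat.modEq_zero_iff_dvd.2 (e ▸ dvd_mul_of_dvd_right (dvd_mul_of_dvd_right hpdvd 3) _)
      exact Nat.modEq_zero_iff_dvd.1 (h1.symm.trans h2)
    · have e : N.index = 3 + 6 * f := by
        refine Nat.eq_of_mul_eq_mul_left (show 0 < 2 * f - 1 by omega) (hI.trans ?_)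
        ring
      have h2 : N.index ≡ 3 [MOD p] := by
        rw [e]
        have : 6 * f ≡ 0 [MOD p] := Nat.modEq_zero_iff_dvd.2 (dvd_mul_of_dvd_right hpdvd 6)
        simpa using this.add_left 3
      have h3 : (1 : ℕ) ≡ 3 [MOD p] := hmod.symm.trans h2
      exact hp2 ((Nat.prime_dvd_prime_iff_eq hP.prime Nat.prime_two).1
        ((Nat.modEq_iff_dvd' (by norm_num)).1 h3))

end Hyp

end Cfsg.Agent.H6.AFour
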