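import Cfsg.Agent.H6.AFour.FlatAction

/-!
# Case B is impossible when the lines are the fixed point sets
-/

set_option autoImplicit false
set_option linter.unusedSectionVars false
set_option linter.style.haveILetI false

namespace Cfsg.Agent.H6.AFour

open MulAction

variable {G Ω : Type*} [Group G] [MulAction G Ω]

namespace Hyp

variable (h : Hyp G Ω) [Finite G] [Finite Ω]
include h

/-- Translations of an even line in the central case form an elementary abelian group. -/
theorem even_translations (hF : Flat G Ω) (hn : ¬ NoMid G Ω) {x y : Ω} (hxy : x ≠ y) {t : G}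
    (ht : t ∈ h.four hxy) (t1 : t ≠ 1) (hev : Even (line G x y).ncard) :
    ∃ R : Subgroup G, R ≤ Subgroup.centralizer ({t} : Set G) ∧
      Subgroup.centralizer ({t} : Set G) ≤ Subgroup.normalizer (R : Set G) ∧ h.four hxy ≤ R ∧
      Nat.card R = 4 * (line G x y).ncard ∧ (∀ r ∈ R, r * r = 1) ∧
      (∀ a ∈ R, ∀ b ∈ R, a * b = b * a) ∧ IsPGroup 2 R ∧ ∃ j, (line G x y).ncard = 2 ^ j := by
  obtain ⟨R, hRC, hCR, hVR, hRc, hRtr, hRfix, hRfpf⟩ := h.exists_translations hF hxy ht t1
  have hexp : ∀ r ∈ R, r * r = 1 := by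
    intro r hr
    by_cases k : r ∈ h.four hxy
    · exact k.2
    have hxL := left_mem_line (G := G) x y
    have hr' : r • x ∈ line G x y := h.line_of_centralizer hF hxy ht t1 (hRC hr) hxL
    have hne : x ≠ r • x := fun e => k (hRfix r hr x hxL e.symm)
    obtain ⟨J, hJ⟩ := h.exists_mid hn hne
    have hJC : J ∈ Subgroup.centralizer ({t} : Set G) := Subgroup.mem_centralizer_singleton_iff.2
      (h.mid_mem_centralizer hxy hne hxL hr' hJ hJ.1 ht)
    have hJR : J ∈ R := hRfpf J hJC (h.swap_fpf hxy hF hev ht t1 hJC hJ.1.1 fun e => hne (by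
      rw [← hJ.1.2]; exact (hxL J e.1 e.2).symm))
    have hv : J⁻¹ * r ∈ h.four hxy := hRfix _ (mul_mem (inv_mem hJR) hr) x hxL (by
      rw [mul_smul, hJ.1.1.inv_eq, swaps_back hJ.1])
    have hc : J * (J⁻¹ * r) = J⁻¹ * r * J := by
      rw [← h.four_eq hxy hne hxL hr'] at hv
      exact hJ.2 _ hv.1
    calc r * r = J * (J⁻¹ * r) * (J * (J⁻¹ * r)) := by group
      _ = J * ((J⁻¹ * r) * J) * (J⁻¹ * r) := by group
      _ = J * J * ((J⁻¹ * r) * (J⁻¹ * r)) := by rw [← hc]; group
      _ = 1 := by rw [hJ.1.1.2, hv.2, one_mul]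
  have hRp : IsPGroup 2 R := fun r => ⟨1, Subtype.ext (by rw [pow_one, pow_two]; exact hexp r r.2)⟩
  refine ⟨R, hRC, hCR, hVR, hRc, hexp, fun a ha b hb => ?_, hRp, ?_⟩
  · have h1 := hexp _ (mul_mem ha hb)
    rw [← inv_eq_of_mul_eq_one_right h1, mul_inv_rev, inv_eq_of_mul_eq_one_right (hexp a ha),
      inv_eq_of_mul_eq_one_right (hexp b hb)]
  · have : Fact (Nat.Prime 2) := ⟨Nat.prime_two⟩
    obtain ⟨i, hi⟩ := hRp.exists_card_eq
    obtain ⟨j, -, hj⟩ := (Nat.dvd_prime_pow Nat.prime_two).1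
      (show (line G x y).ncard ∣ 2 ^ i from ⟨4, by rw [← hi, hRc]; ring⟩)
    exact ⟨j, hj⟩

theorem caseB_flat_false (hA : AllT G Ω) (hn : ¬ NoMid G Ω) (hF : Flat G Ω) : False := by
  classical
  have : Fact (Nat.Prime 2) := ⟨Nat.prime_two⟩
  obtain ⟨x, y, hxy⟩ := h.nontriv
  obtain ⟨t, ht, ti⟩ := h.exists_inv_two hxy
  have htV : t ∈ h.four hxy := ⟨ht, ti.2⟩
  have hT : IsT Ω t := h.isT_of_mem hxy ht ti
  have heqn := h.eq_B hA hn hT
  have hLf := h.line_card_of_flat hF hxy hT
  have hf2 : 2 ≤ fixCard Ω t := two_le_fixCard h hT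
  have hfn : fixCard Ω t ≤ Nat.card Ω := Finite.card_subtype_le _
  set C := Subgroup.centralizer ({t} : Set G) with hC
  set L := line G x y
  rcases Nat.even_or_odd (fixCard Ω t) with hev | hodd
  · obtain ⟨R, hRC, hCR, hVR, hRc, hexp, hcomm, hRp, j, hj⟩ :=
      h.even_translations hF hn hxy htV ti.1 (show Even L.ncard by rwa [hLf])
    rw [hLf] at hRc hj
    set f := fixCard Ω t
    obtain ⟨u, hu⟩ := Nat.exists_eq_add_of_le hf2
    have hnat : Nat.card Ω * 3 = f * (4 * f - 1) := by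
      rw [hu] at heqn hfn ⊢
      rw [show 2 + u - 1 = 1 + u by omega] at heqn
      rw [show 4 * (2 + u) - 1 = 7 + 4 * u by omega]
      have e : (2 + u) * (7 + 4 * u) = 4 * ((2 + u) * (1 + u)) + 3 * (2 + u) := by ring
      omega
    have hn1 : (Nat.card Ω - 1) * 3 = (4 * f + 3) * (f - 1) := by
      rw [hu] at hnat ⊢
      rw [show 4 * (2 + u) - 1 = 7 + 4 * u by omega] at hnat
      rw [show 2 + u - 1 = 1 + u by omega]
      have e : (2 + u) * (7 + 4 * u) = (4 * (2 + u) + 3) * (1 + u) + 3 := by ring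
      omega
    have hn2 : Nat.card Ω * (Nat.card Ω - 1) * 9 = f * (f - 1) * ((4 * f - 1) * (4 * f + 3)) := by
      calc Nat.card Ω * (Nat.card Ω - 1) * 9 = Nat.card Ω * 3 * ((Nat.card Ω - 1) * 3) := by ring
        _ = _ := by rw [hnat, hn1]; ring
    -- `R` is a Sylow subgroup
    obtain ⟨S, hS⟩ := hRp.exists_le_sylow
    have hSR : (S : Subgroup G) = R := by
      refine (Subgroup.eq_of_le_of_card_ge hS ?_).symm
      obtain ⟨k, hk⟩ := S.2.exists_card_eq
      have hd := Subgroup.card_subgroup_dvd_card (S : Subgroup G)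
      rw [h.card_group, hk] at hd
      obtain ⟨a, ha⟩ := hd
      have e : 4 * f * ((f - 1) * ((4 * f - 1) * (4 * f + 3))) = 2 ^ k * (a * 3) := by
        calc 4 * f * ((f - 1) * ((4 * f - 1) * (4 * f + 3)))
            = 4 * (f * (f - 1) * ((4 * f - 1) * (4 * f + 3))) := by ring
          _ = 4 * (Nat.card Ω * (Nat.card Ω - 1) * 9) := by rw [hn2]
          _ = 12 * (Nat.card Ω * (Nat.card Ω - 1)) * 3 := by ring
          _ = _ := by rw [ha]; ring
      have hco : Nat.Coprime (2 ^ k) ((f - 1) * ((4 * f - 1) * (4 * f + 3))) := by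
        refine Nat.Coprime.pow_left _ (Nat.coprime_two_left.2 ?_)
        rw [Nat.even_iff] at hev
        exact (Nat.odd_iff.2 (by omega)).mul ((Nat.odd_iff.2 (by omega)).mul (Nat.odd_iff.2 (by omega)))
      have := Nat.le_of_dvd (by omega) (hco.dvd_of_dvd_mul_right ⟨a * 3, e⟩)
      rw [hk, hRc]
      exact this
    -- all involutions of `R` are conjugate in its normaliser
    set N := Subgroup.normalizer (R : Set G)
    have hab : IsMulCommutative (S : Subgroup G) :=
      ⟨⟨fun a b => Subtype.ext (hcomm a (hSR ▸ a.2) b (hSR ▸ b.2))⟩⟩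
    let act : MulAction N G := MulAction.compHom G ((ConjAct.toConjAct (G := G)).toMonoidHom.comp N.subtype)
    have hsm : ∀ (c : N) (w : G), c • w = (c : G) * w * (c : G)⁻¹ := fun c w => rfl
    have hor : orbit N t = (R : Set G) \ {1} := by
      ext w
      constructor
      · rintro ⟨c, rfl⟩
        show c • t ∈ _
        rw [hsm]
        exact ⟨(Subgroup.mem_normalizer_iff.1 c.2 t).1 (hVR htV), (ti.conj _).1⟩
      · rintro ⟨hw, hw1⟩
        have hwT : IsT Ω w := hA w ⟨hw1, hexp w hw⟩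
        obtain ⟨g, hg⟩ := h.isT_conj hT hwT
        obtain ⟨n, hn', e⟩ := S.conj_eq_normalizer_conj_of_mem t g⁻¹ (show t ∈ (S : Subgroup G) by rw [hSR]; exact hVR htV)
          (show g⁻¹⁻¹ * t * g⁻¹ ∈ (S : Subgroup G) by rw [hSR, inv_inv, hg]; exact hw)
        rw [inv_inv, hg] at e
        have hn'' : n ∈ N := by
          show n ∈ Subgroup.normalizer (R : Set G)
          rw [← hSR]; exact hn'
        exact ⟨⟨n⁻¹, inv_mem hn''⟩, by
          show n⁻¹ * t * n⁻¹⁻¹ = w
          rw [inv_inv, ← e]⟩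
    have hstab : Nat.card (stabilizer N t) = Nat.card C := by
      refine Nat.card_congr
        { toFun := fun n => ⟨n.1.1, ?_⟩
          invFun := fun c => ⟨⟨c.1, hCR c.2⟩, ?_⟩
          left_inv := fun _ => rfl
          right_inv := fun _ => rfl }
      · have := n.2
        rw [mem_stabilizer_iff, hsm, mul_inv_eq_iff_eq_mul] at this
        exact Subgroup.mem_centralizer_singleton_iff.2 this
      · rw [mem_stabilizer_iff, hsm, mul_inv_eq_iff_eq_mul]
        exact Subgroup.mem_centralizer_singleton_iff.1 c.2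
    have h1 := (stabilizer N t).card_mul_index
    rw [index_stabilizer, hor, hstab, h.card_centralizer hT, Set.ncard_sdiff_singleton_of_mem (one_mem R),
      ← Nat.card_coe_set_eq, show Nat.card ↥(R : Set G) = 4 * f from hRc] at h1
    obtain ⟨a, ha⟩ := Subgroup.card_subgroup_dvd_card N
    rw [← h1, h.card_group] at ha
    have hkey : (4 * f + 3) * (4 * (f * (f - 1)) * (4 * f - 1)) = a * 3 * (4 * (f * (f - 1)) * (4 * f - 1)) := by
      calc (4 * f + 3) * (4 * (f * (f - 1)) * (4 * f - 1))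
          = 4 * (f * (f - 1) * ((4 * f - 1) * (4 * f + 3))) := by ring
        _ = 12 * (Nat.card Ω * (Nat.card Ω - 1)) * 3 := by rw [← hn2]; ring
        _ = _ := by rw [ha]; ring
    have h3 := Nat.eq_of_mul_eq_mul_right
      (Nat.mul_pos (Nat.mul_pos (by norm_num) (Nat.mul_pos (by omega) (by omega))) (by omega)) hkey
    have h3f : 3 ∣ 2 ^ j := by rw [← hj]; omega
    exact absurd (Nat.prime_three.dvd_of_dvd_pow h3f) (by norm_num)
  · -- odd lines
    obtain ⟨R, hRC, hCR, -, -, hRtr, hRfix, -⟩ := h.exists_translations hF hxy htV ti.1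
    obtain ⟨J, hJ⟩ := h.exists_mid hn hxy
    obtain ⟨hJi, a, b, hab, Ja, Jb⟩ := hA J hJ.1.1
    have hJW : J ∈ h.four hab := ⟨mem_tw.2 ⟨Ja, Jb⟩, hJi.2⟩
    have hdis : ∀ v ∈ h.four hxy, v ∈ h.four hab → v = 1 := by
      intro v hv hv'
      by_contra v1
      have e := h.four_of_flat hF hxy hab hv hv' v1
      have := e ▸ hJW
      exact hxy ((mem_tw.1 this.1).1.symm.trans hJ.1.2)
    have hVN : ∀ v ∈ h.four hxy, v ∈ Subgroup.normalizer (h.four hab : Set G) := fun v hv =>
      h.centralizer_le_normalizer hF hab hJW hJi.1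
        (Subgroup.mem_centralizer_singleton_iff.2 (hJ.2 v hv.1).symm)
    obtain ⟨w₀, hw₀, w1, wJ⟩ : ∃ w ∈ h.four hab, w ≠ 1 ∧ w ≠ J := by
      by_contra k
      push Not at k
      have hle : (h.four hab : Set G) ⊆ {1, J} := fun w hw => by
        by_cases w1 : w = 1
        · exact Or.inl w1
        · exact Or.inr (k w hw w1)
      have := Set.ncard_le_ncard hle (Set.toFinite _)
      rw [← Nat.card_coe_set_eq, show Nat.card ↥(h.four hab : Set G) = 4 from h.card_four' hab,
        Set.ncard_pair hJi.1.symm] at this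
      omega
    have hW : ∀ w ∈ h.four hab, w = 1 ∨ w = J ∨ w = w₀ ∨ w = J * w₀ := by
      intro w hw
      have hsub : ({1, J, w₀, J * w₀} : Set G) ⊆ (h.four hab : Set G) := by
        rintro g (rfl | rfl | rfl | rfl)
        · exact one_mem _
        · exact hJW
        · exact hw₀
        · exact mul_mem hJW hw₀
      have e1 : J * w₀ ≠ 1 := fun e => wJ (by rw [← inv_eq_of_mul_eq_one_right e, hJi.inv_eq])
      have e2 : J * w₀ ≠ J := fun e => w1 (mul_eq_left.1 e)
      have e3 : J * w₀ ≠ w₀ := fun e => hJi.1 (mul_eq_right.1 e)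
      have h4 : ({1, J, w₀, J * w₀} : Set G).ncard = 4 := by
        rw [Set.ncard_insert_of_notMem, Set.ncard_insert_of_notMem, Set.ncard_pair e3.symm]
        · simp [Ne.symm wJ, e2.symm]
        · simp [hJi.1.symm, w1.symm, e1.symm]
      have := Set.eq_of_subset_of_ncard_le hsub (by
        rw [h4, ← Nat.card_coe_set_eq]
        exact (h.card_four' hab).le) (Set.toFinite _)
      exact (this ▸ hw : w ∈ ({1, J, w₀, J * w₀} : Set G))
    -- some involution of the four group centralises the other four group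
    obtain ⟨v₀, hv₀, v01, hv₀w⟩ : ∃ v ∈ h.four hxy, v ≠ 1 ∧ v * w₀ = w₀ * v := by
      have key : ∀ v ∈ h.four hxy, v * w₀ * v⁻¹ = w₀ ∨ v * w₀ * v⁻¹ = J * w₀ := by
        intro v hv
        rcases hW _ ((Subgroup.mem_normalizer_iff.1 (hVN v hv) w₀).1 hw₀) with e | e | e | e
        · exact absurd (show w₀ = 1 by
            rw [show w₀ = v⁻¹ * (v * w₀ * v⁻¹) * v by group, e]; group) w1
        · exact absurd (show w₀ = J by
            rw [show w₀ = v⁻¹ * (v * w₀ * v⁻¹) * v by group, e, mul_assoc, hJ.2 v hv.1]; group) wJ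
        · exact Or.inl e
        · exact Or.inr e
      obtain ⟨v, hv, v1, vt⟩ : ∃ v ∈ h.four hxy, v ≠ 1 ∧ v ≠ t := by
        by_contra k
        push Not at k
        have hle : (h.four hxy : Set G) ⊆ {1, t} := fun w hw => by
          by_cases w1 : w = 1
          · exact Or.inl w1
          · exact Or.inr (k w hw w1)
        have := Set.ncard_le_ncard hle (Set.toFinite _)
        rw [← Nat.card_coe_set_eq, show Nat.card ↥(h.four hxy : Set G) = 4 from h.card_four' hxy,
          Set.ncard_pair ti.1.symm] at this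
        omega
      rcases key t htV with e | e
      · exact ⟨t, htV, ti.1, mul_inv_eq_iff_eq_mul.1 e⟩
      rcases key v hv with e' | e'
      · exact ⟨v, hv, v1, mul_inv_eq_iff_eq_mul.1 e'⟩
      refine ⟨t * v, mul_mem htV hv, fun k => vt ?_, mul_inv_eq_iff_eq_mul.1 ?_⟩
      · rw [← inv_eq_of_mul_eq_one_right k, ti.inv_eq]
      · rw [show t * v * w₀ * (t * v)⁻¹ = t * (v * w₀ * v⁻¹) * t⁻¹ by group, e', ← mul_assoc,
          ← hJ.2 t ht, mul_assoc J, mul_assoc J, e, ← mul_assoc, hJi.2, one_mul]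
    have hWn : w₀ ∈ Subgroup.normalizer (h.four hxy : Set G) :=
      h.centralizer_le_normalizer hF hxy hv₀ v01 (Subgroup.mem_centralizer_singleton_iff.2 hv₀w.symm)
    -- the two four groups commute
    have hcw : ∀ v ∈ h.four hxy, v * w₀ = w₀ * v := by
      intro v hv
      have h1 : v * w₀ * v⁻¹ * w₀⁻¹ ∈ h.four hab :=
        mul_mem ((Subgroup.mem_normalizer_iff.1 (hVN v hv) w₀).1 hw₀) (inv_mem hw₀)
      have h2 : v * w₀ * v⁻¹ * w₀⁻¹ ∈ h.four hxy := by
        rw [show v * w₀ * v⁻¹ * w₀⁻¹ = v * (w₀ * v⁻¹ * w₀⁻¹) by group]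
        exact mul_mem hv ((Subgroup.mem_normalizer_iff.1 hWn v⁻¹).1 (inv_mem hv))
      exact mul_inv_eq_iff_eq_mul.1 (mul_inv_eq_one.1 (hdis _ h2 h1))
    have hwC : ∀ w ∈ h.four hab, w ∈ C := by
      intro w hw
      refine Subgroup.mem_centralizer_singleton_iff.2 ?_
      rcases hW w hw with rfl | rfl | rfl | rfl
      · rw [one_mul, mul_one]
      · exact hJ.2 t ht
      · exact (hcw t htV).symm
      · exact ((show Commute J t from hJ.2 t ht).mul_left (hcw t htV).symm).eq
    -- a non-trivial element fixes exactly one point of the line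
    have hstabL : ∀ g ∈ C, ∀ z ∈ L, g • z ∈ L := fun g hg z hz =>
      h.line_of_centralizer hF hxy htV ti.1 hg hz
    have hat : ∀ g ∈ h.four hab, g ≠ 1 → ∀ z ∈ L, ∀ z' ∈ L, g • z = z → g • z' = z' → z = z' := by
      intro g hg g1 z hz z' hz' gz gz'
      by_contra hne
      have hgV : g ∈ h.four hxy := by
        rw [← h.four_eq hxy hne hz hz']
        exact ⟨mem_tw.2 ⟨gz, gz'⟩, hg.2⟩
      exact g1 (hdis g hgV hg)
    have hex : ∀ g ∈ h.four hab, g ≠ 1 → ∃ z ∈ L, g • z = z := by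
      intro g hg g1
      set Z := Subgroup.zpowers g
      letI act : MulAction Z L :=
        { smul := fun k u => ⟨(k : G) • (u : Ω), hstabL k ((Subgroup.zpowers_le.2 (hwC g hg)) k.2) u u.2⟩
          one_smul := fun u => Subtype.ext (one_smul G (u : Ω))
          mul_smul := fun a b u => Subtype.ext (mul_smul (a : G) (b : G) (u : Ω)) }
      have hp : IsPGroup 2 Z := IsPGroup.of_card (n := 1)
        (by rw [Nat.card_zpowers, (Inv.orderOf ⟨g1, hg.2⟩), pow_one])
      obtain ⟨z, hz⟩ := hp.nonempty_fixed_point_of_prime_not_dvd_card L (by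
        rw [Nat.card_coe_set_eq, hLf, ← even_iff_two_dvd]
        exact Nat.not_even_iff_odd.2 hodd)
      exact ⟨z, z.2, congrArg Subtype.val (hz ⟨g, Subgroup.mem_zpowers g⟩)⟩
    have hCR' : ∀ g ∈ h.four hab, g ∈ Subgroup.normalizer (R : Set G) := fun g hg => hCR (hwC g hg)
    obtain ⟨p, hp, Jp⟩ := hex J hJW hJi.1
    have hWp : ∀ g ∈ h.four hab, g • p = p := by
      intro g hg
      refine hat J hJW hJi.1 _ (hstabL g (hwC g hg) p hp) p hp ?_ Jp
      rw [← mul_smul, h.four_comm hab hJW hg, mul_smul, Jp]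
    have hVz : ∀ v ∈ h.four hxy, ∀ z ∈ L, v • z = z := fun v hv z hz => hz v hv.1 hv.2
    -- an element fixing only `p` inverts the translations
    have hinvert : ∀ g ∈ h.four hab, g ≠ 1 → ∀ m ∈ R, g • m • p = m⁻¹ • p := by
      intro g hg g1
      have hgg : g * g = 1 := hg.2
      have hm : ∀ z : L, ∃ r ∈ R, r • p = z.1 := fun z => hRtr p hp z.1 z.2
      choose ρ hρR hρ using hm
      let ψ : L → L := fun z => ⟨(ρ z)⁻¹ • g • z.1,
        hstabL _ (inv_mem (hRC (hρR z))) _ (hstabL g (hwC g hg) z.1 z.2)⟩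
      have hinj : Function.Injective ψ := by
        intro z z' e
        have e' : (ρ z)⁻¹ • g • z.1 = (ρ z')⁻¹ • g • z'.1 := congrArg Subtype.val e
        set s := ρ z' * (ρ z)⁻¹
        have hs : s ∈ R := mul_mem (hρR z') (inv_mem (hρR z))
        have hsz : s • z.1 = z'.1 := by rw [mul_smul, ← hρ z, inv_smul_smul, hρ z']
        have hgs : s • g • z.1 = g • z'.1 := by
          rw [mul_smul, e', smul_inv_smul]
        -- the commutator fixes the line pointwise
        have hgp : g • s • p = s • p := by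
          have hk : s⁻¹ * (g * s * g⁻¹) ∈ Subgroup.centralizer ({t} : Set G) :=
            mul_mem (inv_mem (hRC hs)) (mul_mem (mul_mem (hwC g hg) (hRC hs)) (inv_mem (hwC g hg)))
          have hk' : g * s * g⁻¹ ∈ R := (Subgroup.mem_normalizer_iff.1 (hCR' g hg) s).1 hs
          have hfix : (s⁻¹ * (g * s * g⁻¹)) • (g • z.1) = g • z.1 := by
            rw [mul_smul, mul_smul, mul_smul, inv_smul_smul, hsz, ← hgs, inv_smul_smul]
          have := hVz _ (hRfix _ (mul_mem (inv_mem hs) hk') _ (hstabL g (hwC g hg) z.1 z.2) hfix) p hp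
          rw [mul_smul, mul_smul, mul_smul, inv_smul_eq_iff, inv_smul_eq_iff.2 (hWp g hg).symm] at this
          exact this
        have hsp : s • p = p := hat g hg g1 _ (hstabL s (hRC hs) p hp) p hp hgp (hWp g hg)
        refine Subtype.ext ?_
        rw [← hsz]
        exact (hVz _ (hRfix s hs p hp hsp) z.1 z.2).symm
      intro m hm
      obtain ⟨z, hz⟩ := (Finite.injective_iff_surjective.1 hinj) ⟨m • p, hstabL m (hRC hm) p hp⟩
      have hz' : (ρ z)⁻¹ • g • ρ z • p = m • p := by rw [hρ z]; exact congrArg Subtype.val hz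
      set r := ρ z
      have hr := hρR z
      have hgr : g * r * g⁻¹ ∈ R := (Subgroup.mem_normalizer_iff.1 (hCR' g hg) r).1 hr
      have e0 : (r⁻¹ * (g * r * g⁻¹)) • p = m • p := by
        rw [mul_smul, mul_smul, mul_smul, inv_smul_eq_iff.2 (hWp g hg).symm, hz']
      set m' := r⁻¹ * (g * r * g⁻¹)
      have hv : m⁻¹ * m' ∈ h.four hxy := hRfix _ (mul_mem (inv_mem hm) (mul_mem (inv_mem hr) hgr)) p hp
        (by rw [mul_smul, e0, inv_smul_smul])
      have e1 : m⁻¹ = m⁻¹ * m' * m'⁻¹ := by group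
      have e2 : m'⁻¹ • p = g • m • p := by
        have hginv : g⁻¹ = g := inv_eq_of_mul_eq_one_right hgg
        have e3 : m'⁻¹ * g = g * m' := by
          simp only [m', mul_inv_rev, inv_inv, hginv, mul_assoc]
        rw [← e0, ← mul_smul, ← e3, mul_smul, hWp g hg]
      conv_rhs => rw [e1, mul_smul]
      rw [hVz _ hv _ (hstabL _ (inv_mem (mul_mem (inv_mem (hRC hr)) (hRC hgr))) p hp), e2]
    obtain ⟨q, hq, hqp⟩ : ∃ q ∈ L, q ≠ p := by
      by_cases k : x = p
      · exact ⟨y, right_mem_line x y, fun e => hxy (k.trans e.symm)⟩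
      · exact ⟨x, left_mem_line x y, k⟩
    obtain ⟨m, hm, rfl⟩ := hRtr p hp q hq
    have e1 := hinvert J hJW hJi.1 m hm
    have e2 := hinvert w₀ hw₀ w1 m hm
    have hfix : (J * w₀) • m • p = m • p := by
      rw [mul_smul, e2, ← e1, ← mul_smul, hJi.2, one_smul]
    exact hqp (hat _ (mul_mem hJW hw₀) (fun e => wJ (by rw [← inv_eq_of_mul_eq_one_right e, hJi.inv_eq]))
      _ hq p hp hfix (hWp _ (mul_mem hJW hw₀)))

end Hyp

end Cfsg.Agent.H6.AFour
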