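import Cfsg.Agent.H6.AFour.Lines
import Cfsg.Agent.H6.AFour.Two.OneClass

/-!
# The centraliser of an involution on its fixed points, thin case
-/

set_option autoImplicit false
set_option linter.unusedSectionVars false
set_option linter.style.haveILetI false

namespace Cfsg.Agent.H6.AFour

open MulAction

universe u v

variable {G : Type u} {Ω : Type v} [Group G] [MulAction G Ω]

theorem cent_fixed {t g : G} (hg : g ∈ Subgroup.centralizer ({t} : Set G)) {z : Ω} (hz : t • z = z) :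
    t • g • z = g • z := by
  rw [← mul_smul, ← Subgroup.mem_centralizer_singleton_iff.1 hg, mul_smul, hz]

/-- The centraliser acting on the fixed points. -/
@[reducible]
def centAction (t : G) : MulAction ↥(Subgroup.centralizer ({t} : Set G)) ↥(fixedBy Ω t) where
  smul g z := ⟨(g : G) • (z : Ω), cent_fixed g.2 z.2⟩
  one_smul z := Subtype.ext (one_smul G (z : Ω))
  mul_smul a b z := Subtype.ext (mul_smul (a : G) (b : G) (z : Ω))

/-- The centraliser as permutations of the fixed points. -/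
def centPerm (t : G) : ↥(Subgroup.centralizer ({t} : Set G)) →* Equiv.Perm ↥(fixedBy Ω t) :=
  letI := centAction (Ω := Ω) t
  toPermHom _ _

variable (Ω) in
/-- The group induced by a centraliser on the fixed points. -/
abbrev centImage (t : G) : Subgroup (Equiv.Perm ↥(fixedBy Ω t)) := (centPerm (Ω := Ω) t).range

variable (Ω) in
/-- The map onto the induced group. -/
abbrev toImage (t : G) : ↥(Subgroup.centralizer ({t} : Set G)) →* ↥(centImage Ω t) :=
  (centPerm (Ω := Ω) t).rangeRestrict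

theorem toImage_smul (t : G) (g : ↥(Subgroup.centralizer ({t} : Set G))) (z : ↥(fixedBy Ω t)) :
    ((toImage Ω t g • z : ↥(fixedBy Ω t)) : Ω) = (g : G) • (z : Ω) := rfl

theorem fixCard_toImage (t : G) (g : ↥(Subgroup.centralizer ({t} : Set G))) :
    Two.fixCard ↥(fixedBy Ω t) (toImage Ω t g) = (fixedBy Ω t ∩ fixedBy Ω (g : G)).ncard := by
  rw [Two.fixCard, ← Nat.card_coe_set_eq (fixedBy Ω t ∩ fixedBy Ω (g : G))]
  exact Nat.card_congr
    { toFun := fun z => ⟨z.1.1, z.1.2, congrArg Subtype.val z.2⟩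
      invFun := fun z => ⟨⟨z.1, z.2.1⟩, Subtype.ext z.2.2⟩
      left_inv := fun _ => rfl
      right_inv := fun _ => rfl }

namespace Hyp

variable (h : Hyp G Ω) [Finite G] [Finite Ω]
include h

theorem fix_eq_of_sup {x y : Ω} (hxy : x ≠ y) {t w : G} (ht : t ∈ h.four hxy) (t1 : t ≠ 1)
    (hw : w ∈ h.four hxy) (w1 : w ≠ 1) (wt : w ≠ t) :
    line G x y = fixedBy Ω t ∩ fixedBy Ω w := by
  refine Set.Subset.antisymm (Set.subset_inter (h.line_le_fix hxy ht) (h.line_le_fix hxy hw)) ?_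
  rintro z ⟨tz, wz⟩
  rw [h.mem_line hxy]
  intro v hv
  classical
  have hsub : ({1, t, w, t * w} : Set G) ⊆ (h.four hxy : Set G) := by
    rintro g (rfl | rfl | rfl | rfl)
    · exact one_mem _
    · exact ht
    · exact hw
    · exact mul_mem ht hw
  have ti : Inv t := ⟨t1, ht.2⟩
  have e1 : t * w ≠ 1 := fun e => wt (by rw [← inv_eq_of_mul_eq_one_right e, ti.inv_eq])
  have e2 : t * w ≠ t := fun e => w1 (mul_eq_left.1 e)
  have e3 : t * w ≠ w := fun e => t1 (mul_eq_right.1 e)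
  have h4 : ({1, t, w, t * w} : Set G).ncard = 4 := by
    rw [Set.ncard_insert_of_notMem, Set.ncard_insert_of_notMem, Set.ncard_pair e3.symm]
    · simp [Ne.symm wt, e2.symm]
    · simp [t1.symm, w1.symm, e1.symm]
  have := Set.eq_of_subset_of_ncard_le hsub (by
    rw [h4, ← Nat.card_coe_set_eq]
    exact (h.card_four' hxy).le) (Set.toFinite _)
  have hv' : v ∈ ({1, t, w, t * w} : Set G) := this ▸ hv
  rcases hv' with rfl | rfl | rfl | rfl
  · exact one_smul _ _
  · exact tz
  · exact wz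
  · rw [mul_smul, show w • z = z from wz]; exact tz

theorem exists_third {x y : Ω} (hxy : x ≠ y) (t : G) :
    ∃ w ∈ h.four hxy, w ≠ 1 ∧ w ≠ t := by
  by_contra k
  push Not at k
  have hle : (h.four hxy : Set G) ⊆ {1, t} := fun w hw => by
    by_cases w1 : w = 1
    · exact Or.inl w1
    · exact Or.inr (k w hw w1)
  have := (Set.ncard_le_ncard hle (Set.toFinite _)).trans (Set.ncard_insert_le _ _)
  rw [← Nat.card_coe_set_eq, show Nat.card ↥(h.four hxy : Set G) = 4 from h.card_four' hxy,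
    Set.ncard_singleton] at this
  omega

theorem fix_inj (hth : ¬ Flat G Ω) {x y : Ω} (hxy : x ≠ y) {t w : G} (ht : t ∈ h.four hxy) (t1 : t ≠ 1)
    (hw : w ∈ h.four hxy) (hsub : fixedBy Ω t ⊆ fixedBy Ω w) : w = 1 ∨ w = t := by
  by_contra k
  rw [not_or] at k
  refine hth (h.flat_of_card hxy (h.isT_of_mem hxy ht.1 ⟨t1, ht.2⟩) ?_)
  rw [h.fix_eq_of_sup hxy ht t1 hw k.1 k.2, Set.inter_eq_left.2 hsub, fixCard, Nat.card_coe_set_eq]

theorem toImage_eq_one (hth : ¬ Flat G Ω) {t : G} (ht : IsT Ω t)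
    (g : ↥(Subgroup.centralizer ({t} : Set G))) :
    toImage Ω t g = 1 ↔ (g : G) = 1 ∨ (g : G) = t := by
  obtain ⟨x, y, hxy, hx, hy⟩ := ht.2
  constructor
  · intro k
    have e : ∀ z, t • z = z → (g : G) • z = z := fun z hz => by
      have := toImage_smul t g (⟨z, hz⟩ : fixedBy Ω t)
      rw [k, one_smul] at this
      exact this.symm
    have hV : (g : G) ∈ h.four hxy := ⟨mem_tw.2 ⟨e x hx, e y hy⟩,
      h.sq_of_cent ht.1 hxy hx hy g.2 (e x hx) (e y hy)⟩
    exact h.fix_inj hth hxy ⟨mem_tw.2 ⟨hx, hy⟩, ht.1.2⟩ ht.1.1 hV fun z hz => e z hz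
  · intro k
    refine Subtype.ext (Equiv.ext fun z => Subtype.ext ?_)
    show (g : G) • (z : Ω) = z
    rcases k with k | k <;> rw [k]
    · exact one_smul _ _
    · exact z.2

theorem toImage_eq_iff (hth : ¬ Flat G Ω) {t : G} (ht : IsT Ω t)
    (a b : ↥(Subgroup.centralizer ({t} : Set G))) :
    toImage Ω t a = toImage Ω t b ↔ (b : G) = a ∨ (b : G) = a * t := by
  rw [← inv_mul_eq_one, ← map_inv, ← map_mul, h.toImage_eq_one hth ht]
  show (a : G)⁻¹ * b = 1 ∨ (a : G)⁻¹ * b = t ↔ _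
  rw [inv_mul_eq_one, inv_mul_eq_iff_eq_mul, eq_comm]

/-- The induced group has two-point stabilisers of order two. -/
theorem two_hyp (hth : ¬ Flat G Ω) {t : G} (ht : IsT Ω t) :
    Two.Hyp ↥(centImage Ω t) ↥(fixedBy Ω t) := by
  refine ⟨inferInstance, is_two_pretransitive_iff.2 fun {a b c d} hab hcd => ?_, ?_, ?_⟩
  · obtain ⟨g, hg, ga, gb⟩ := h.witt ht.1 (fun k => hab (Subtype.ext k)) (fun k => hcd (Subtype.ext k))
      a.2 b.2 c.2 d.2
    exact ⟨toImage Ω t ⟨g, hg⟩, Subtype.ext ga, Subtype.ext gb⟩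
  · obtain ⟨x, y, hxy, hx, hy⟩ := ht.2
    exact ⟨⟨x, hx⟩, ⟨y, hy⟩, fun k => hxy (congrArg Subtype.val k)⟩
  · intro a b hab
    have hxy : (a : Ω) ≠ b := fun k => hab (Subtype.ext k)
    have htV : t ∈ h.four hxy := ⟨mem_tw.2 ⟨a.2, b.2⟩, ht.1.2⟩
    obtain ⟨w, hw, w1, wt⟩ := h.exists_third hxy t
    have hwC : w ∈ Subgroup.centralizer ({t} : Set G) :=
      Subgroup.mem_centralizer_singleton_iff.2 (h.four_comm hxy hw htV)
    have hwm : toImage Ω t ⟨w, hwC⟩ ∈ stabilizer ↥(centImage Ω t) a ⊓ stabilizer ↥(centImage Ω t) b :=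
      ⟨Subtype.ext (mem_tw.1 hw.1).1, Subtype.ext (mem_tw.1 hw.1).2⟩
    rw [Nat.card_eq_two_iff' (1 : ↥(stabilizer ↥(centImage Ω t) a ⊓ stabilizer ↥(centImage Ω t) b))]
    refine ⟨⟨_, hwm⟩, fun k => ?_, fun q hq => ?_⟩
    · have k' : toImage Ω t ⟨w, hwC⟩ = 1 := congrArg Subtype.val k
      rcases (h.toImage_eq_one hth ht _).1 k' with e | e
      · exact w1 e
      · exact wt e
    · obtain ⟨q, qa, qb⟩ := q
      obtain ⟨g, rfl⟩ := (centPerm (Ω := Ω) t).rangeRestrict_surjective q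
      have ga : (g : G) • (a : Ω) = a := congrArg Subtype.val qa
      have gb : (g : G) • (b : Ω) = b := congrArg Subtype.val qb
      have hgV : (g : G) ∈ h.four hxy := ⟨mem_tw.2 ⟨ga, gb⟩, h.sq_of_cent ht.1 hxy a.2 b.2 g.2 ga gb⟩
      refine Subtype.ext ?_
      show toImage Ω t g = toImage Ω t ⟨w, hwC⟩
      rw [h.toImage_eq_iff hth ht]
      classical
      by_contra k
      rw [not_or] at k
      have hne : (g : G) ≠ 1 ∧ (g : G) ≠ t := by
        refine ⟨fun e => hq ?_, fun e => hq ?_⟩ <;>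
          refine Subtype.ext ((h.toImage_eq_one hth ht g).2 ?_)
        · exact Or.inl e
        · exact Or.inr e
      have hsub : ({1, t, (g : G), (g : G) * t, w} : Set G) ⊆ (h.four hxy : Set G) := by
        rintro u (rfl | rfl | rfl | rfl | rfl)
        · exact one_mem _
        · exact htV
        · exact hgV
        · exact mul_mem hgV htV
        · exact hw
      have e1 : (g : G) * t ≠ 1 := fun e => hne.2 (by
        rw [eq_inv_of_mul_eq_one_left e, ht.1.inv_eq])
      have e2 : (g : G) * t ≠ t := fun e => hne.1 (mul_eq_right.1 e)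
      have e3 : (g : G) * t ≠ g := fun e => ht.1.1 (mul_eq_left.1 e)
      have h5 : ({1, t, (g : G), (g : G) * t, w} : Set G).ncard = 5 := by
        rw [Set.ncard_insert_of_notMem, Set.ncard_insert_of_notMem, Set.ncard_insert_of_notMem,
          Set.ncard_pair]
        · exact fun e => k.2 e.symm
        · simp [e3.symm, Ne.symm k.1]
        · simp [Ne.symm hne.2, e2.symm, Ne.symm wt]
        · simp [ht.1.1.symm, Ne.symm hne.1, e1.symm, Ne.symm w1]
      have := Set.ncard_le_ncard hsub (Set.toFinite _)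
      rw [h5, ← Nat.card_coe_set_eq, show Nat.card ↥(h.four hxy : Set G) = 4 from h.card_four' hxy] at this
      omega

/-- An element of a four group gives a tau of the induced group. -/
theorem isTau_of_four (hth : ¬ Flat G Ω) {x y : Ω} (hxy : x ≠ y) {t w : G} (ht : t ∈ h.four hxy)
    (t1 : t ≠ 1) (hw : w ∈ h.four hxy) (w1 : w ≠ 1) (wt : w ≠ t)
    (hwC : w ∈ Subgroup.centralizer ({t} : Set G)) :
    Two.IsTau ↥(fixedBy Ω t) (toImage Ω t ⟨w, hwC⟩) ∧
      Two.fixCard ↥(fixedBy Ω t) (toImage Ω t ⟨w, hwC⟩) = (line G x y).ncard := by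
  have hT : IsT Ω t := h.isT_of_mem hxy ht.1 ⟨t1, ht.2⟩
  have hf : Two.fixCard ↥(fixedBy Ω t) (toImage Ω t ⟨w, hwC⟩) = (line G x y).ncard := by
    rw [fixCard_toImage, h.fix_eq_of_sup hxy ht t1 hw w1 wt]
  refine ⟨⟨orderOf_eq_prime ?_ fun k => ?_, by rw [hf]; exact h.two_le_line hxy⟩, hf⟩
  · rw [← map_pow]
    refine (h.toImage_eq_one hth hT _).2 (Or.inl ?_)
    rw [pow_two]
    exact hw.2
  · exact ((h.toImage_eq_one hth hT _).1 k).elim w1 wt

/-- The preimages of a tau square to one. -/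
theorem sq_of_isTau (hth : ¬ Flat G Ω) {t : G} (ht : IsT Ω t)
    {g : ↥(Subgroup.centralizer ({t} : Set G))}
    (hg : Two.IsTau ↥(fixedBy Ω t) (toImage Ω t g)) : (g : G) * g = 1 := by
  obtain ⟨a, b, hab, ga, gb⟩ := Two.exists_two_fix hg.2
  exact h.sq_of_cent ht.1 (fun k => hab (Subtype.ext k)) a.2 b.2 g.2 (congrArg Subtype.val ga)
    (congrArg Subtype.val gb)

end Hyp

end Cfsg.Agent.H6.AFour
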