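import Cfsg.Agent.H6.AFour.Swap

/-!
# The four cases of the fusion of involutions
-/

set_option autoImplicit false
set_option linter.unusedSectionVars false

namespace Cfsg.Agent.H6.AFour

open MulAction

variable {G Ω : Type*} [Group G] [MulAction G Ω]

/-- Double counting of moved points against ordered pairs. -/
theorem double_count [Finite G] [Finite Ω] (S : Set G) (k g₀ : ℕ) (hS : ∀ s ∈ S, Inv s)
    (hfix : ∀ s ∈ S, fixCard Ω s = g₀)
    (hk : ∀ x y : Ω, x ≠ y → Nat.card ↥(S ∩ swaps G x y) = k) :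
    Nat.card S * (Nat.card Ω - g₀) = k * (Nat.card Ω * (Nat.card Ω - 1)) := by
  classical
  have := Fintype.ofFinite S
  have := Fintype.ofFinite Ω
  let e : (Σ s : S, {x : Ω // (s : G) • x ≠ x}) ≃
      Σ p : {p : Ω × Ω // p.1 ≠ p.2}, ↥(S ∩ swaps G p.1.1 p.1.2) :=
    { toFun := fun z => ⟨⟨(z.2.1, (z.1 : G) • z.2.1), fun k => z.2.2 k.symm⟩,
        ⟨z.1.1, z.1.2, hS _ z.1.2, rfl⟩⟩
      invFun := fun z => ⟨⟨z.2.1, z.2.2.1⟩, ⟨z.1.1.1, fun k => z.1.2 (k.symm.trans z.2.2.2.2)⟩⟩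
      left_inv := fun z => rfl
      right_inv := fun ⟨⟨⟨x, y⟩, hxy⟩, ⟨g, hgS, hg⟩⟩ => by
        obtain ⟨gi, (gx : g • x = y)⟩ := hg
        subst gx
        rfl }
  have h := Nat.card_congr e
  rw [Nat.card_sigma, Nat.card_sigma] at h
  rw [Finset.sum_congr rfl (g := fun _ => Nat.card Ω - g₀) fun s _ => ?_,
    Finset.sum_congr rfl (g := fun _ => k) fun p _ => hk _ _ p.2] at h
  · rw [Finset.sum_const, Finset.sum_const, Finset.card_univ, Finset.card_univ,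
      smul_eq_mul, smul_eq_mul, ← Nat.card_eq_fintype_card, ← Nat.card_eq_fintype_card] at h
    rw [h, mul_comm _ k]
    congr 1
    rw [Nat.card_eq_fintype_card]
    have : Fintype.card {p : Ω × Ω // p.1 ≠ p.2} = Fintype.card (Ω × Ω) - Fintype.card Ω := by
      rw [Fintype.card_subtype_compl]
      congr 1
      exact Fintype.card_congr
        { toFun := fun p => p.1.1, invFun := fun x => ⟨(x, x), rfl⟩
          left_inv := fun ⟨⟨a, b⟩, (k : a = b)⟩ => by subst k; rfl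
          right_inv := fun _ => rfl }
    rw [this, Fintype.card_prod, Nat.card_eq_fintype_card, Nat.mul_sub, mul_one]
  · have := hfix s.1 s.2
    rw [fixCard, Nat.card_coe_set_eq] at this
    rw [← this, ← Set.ncard_compl, ← Nat.card_coe_set_eq]
    exact Nat.card_congr (Equiv.subtypeEquivRight fun x => Iff.rfl)

variable (G Ω) in
/-- All involutions fix at least two points. -/
def AllT : Prop := ∀ g : G, Inv g → IsT Ω g

variable (G Ω) in
/-- No pair has a central exchanging involution. -/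
def NoMid : Prop := ∀ x y : Ω, x ≠ y → ¬ ∃ J : G, IsMid x y J

theorem fixCard_le_one [Finite Ω] {g : G} (gi : Inv g) (hg : ¬ IsT Ω g) : fixCard Ω g ≤ 1 := by
  rw [fixCard]
  refine Finite.card_le_one_iff_subsingleton.2 ⟨fun a b => Subtype.ext (by_contra fun k => ?_)⟩
  exact hg ⟨gi, a, b, k, a.2, b.2⟩

theorem fixCard_mod_two [Finite G] [Finite Ω] {g : G} (gi : Inv g) :
    fixCard Ω g % 2 = Nat.card Ω % 2 := by
  have : Fact (Nat.Prime 2) := ⟨Nat.prime_two⟩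
  have hp : IsPGroup 2 (Subgroup.zpowers g) :=
    IsPGroup.of_card (n := 1) (by rw [Nat.card_zpowers, gi.orderOf, pow_one])
  have h := hp.card_modEq_card_fixedPoints Ω
  rw [Nat.ModEq] at h
  rw [h]
  congr 1
  refine Nat.card_congr (Equiv.subtypeEquivRight fun x => ⟨fun k c => ?_, fun k => k ⟨g, Subgroup.mem_zpowers g⟩⟩)
  exact (Subgroup.zpowers_le.2 (show g ∈ stabilizer G x from k)) c.2

namespace Hyp

variable (h : Hyp G Ω) [Finite G] [Finite Ω]
include h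

theorem isT_iff_conj {t g : G} (ht : IsT Ω t) : IsT Ω g ↔ ∃ c : G, c * t * c⁻¹ = g :=
  ⟨fun hg => h.isT_conj ht hg, fun ⟨_, hc⟩ => hc ▸ ht.conj _⟩

/-- An involution exchanges some pair. -/
theorem exists_pair {g : G} (gi : Inv g) : ∃ x y : Ω, x ≠ y ∧ g ∈ swaps G x y := by
  obtain ⟨z, hz⟩ := h.exists_moved gi.1
  exact ⟨z, g • z, fun k => hz k.symm, gi, rfl⟩

theorem exists_isT : ∃ t : G, IsT Ω t := by
  obtain ⟨x, y, hxy⟩ := h.nontriv
  obtain ⟨t, ht, ti⟩ := h.exists_inv_two hxy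
  exact ⟨t, h.isT_of_mem hxy ht ti⟩

/-- Counting the involutions with two fixed points. -/
theorem count_T {t : G} (ht : IsT Ω t) (k : ℕ)
    (hk : ∀ x y : Ω, x ≠ y → Nat.card ↥({g | IsT Ω g} ∩ swaps G x y) = k) :
    3 * (Nat.card Ω - fixCard Ω t) = k * (fixCard Ω t * (fixCard Ω t - 1)) := by
  have h1 := double_count {g : G | IsT Ω g} k (fixCard Ω t) (fun s hs => hs.1)
    (fun s hs => h.fixCard_eq hs ht) hk
  have h2 := h.card_isT ht
  change Nat.card {s : G // IsT Ω s} * _ = _ at h1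
  set I := Nat.card {s : G // IsT Ω s}
  set m := Nat.card Ω * (Nat.card Ω - 1)
  set F := fixCard Ω t * (fixCard Ω t - 1)
  have hI : 0 < I := by
    have : Nonempty {s : G // IsT Ω s} := ⟨⟨t, ht⟩⟩
    exact Nat.card_pos
  refine Nat.eq_of_mul_eq_mul_left hI ?_
  calc I * (3 * (Nat.card Ω - fixCard Ω t)) = 3 * (I * (Nat.card Ω - fixCard Ω t)) := by ring
    _ = 3 * (k * m) := by rw [h1]
    _ = k * (3 * m) := by ring
    _ = k * (I * F) := by
      have : 4 * (I * F) = 4 * (3 * m) := by linarith [h2, mul_assoc I 4 F, mul_comm I 4]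
      rw [Nat.eq_of_mul_eq_mul_left (by norm_num) this]
    _ = I * (k * F) := by ring

theorem allT_of_noMid (hn : NoMid G Ω) : AllT G Ω := by
  intro g gi
  obtain ⟨x, y, hxy, hg⟩ := h.exists_pair gi
  obtain ⟨t, ht⟩ := h.exists_isT
  obtain ⟨x', y', hxy', ht'⟩ := h.exists_pair ht.1
  obtain ⟨c, rfl, rfl⟩ := h.exists_map hxy' hxy
  obtain ⟨d, -, hd⟩ := (h.swaps_nomid hxy (hn _ _ hxy)).2 _ (swaps_conj (c := c) ht') g hg
  rw [← hd]
  exact (ht.conj c).conj d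

theorem eq_A (hn : NoMid G Ω) {t : G} (ht : IsT Ω t) :
    Nat.card Ω - fixCard Ω t = 2 * (fixCard Ω t * (fixCard Ω t - 1)) := by
  have := h.count_T ht 6 fun x y hxy => by
    rw [show {g : G | IsT Ω g} ∩ swaps G x y = swaps G x y from
      Set.inter_eq_right.2 fun g hg => h.allT_of_noMid hn g hg.1]
    exact (h.swaps_nomid hxy (hn x y hxy)).1
  omega

theorem exists_mid (hn : ¬ NoMid G Ω) {x y : Ω} (hxy : x ≠ y) : ∃ J : G, IsMid x y J := by
  simp only [NoMid, not_forall, not_not] at hn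
  obtain ⟨a, b, hab, J, hJ⟩ := hn
  exact h.mid_or hab hxy hJ

theorem isT_mid_iff {x y x' y' : Ω} (hxy : x ≠ y) (hxy' : x' ≠ y') {J J' : G} (hJ : IsMid x y J)
    (hJ' : IsMid x' y' J') : IsT Ω J ↔ IsT Ω J' := by
  have key : ∀ {a b a' b' : Ω} {K K' : G}, a ≠ b → a' ≠ b' → IsMid a b K → IsMid a' b' K' →
      IsT Ω K → IsT Ω K' := by
    intro a b a' b' K K' hab hab' hK hK' hT
    obtain ⟨g, rfl, rfl⟩ := h.exists_map hab hab'
    rw [← h.mid_unique hab' (hK.conj (c := g)) hK']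
    exact hT.conj g
  exact ⟨key hxy hxy' hJ hJ', key hxy' hxy hJ' hJ⟩

theorem isT_other_iff {x y x' y' : Ω} (hxy : x ≠ y) (hxy' : x' ≠ y') {J J' g g' : G}
    (hJ : IsMid x y J) (hJ' : IsMid x' y' J') (hg : g ∈ swaps G x y) (hgJ : g ≠ J)
    (hg' : g' ∈ swaps G x' y') (hgJ' : g' ≠ J') : IsT Ω g ↔ IsT Ω g' := by
  have key : ∀ {a b a' b' : Ω} {K K' w w' : G}, a ≠ b → a' ≠ b' → IsMid a b K → IsMid a' b' K' →
      w ∈ swaps G a b → w ≠ K → w' ∈ swaps G a' b' → w' ≠ K' → IsT Ω w → IsT Ω w' := by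
    intro a b a' b' K K' w w' hab hab' hK hK' hw hwK hw' hwK' hT
    obtain ⟨c, rfl, rfl⟩ := h.exists_map hab hab'
    obtain ⟨d, -, hd⟩ := h.mid_others_conj hab' hK' (swaps_conj (c := c) hw) hw' (fun k => hwK (mul_left_cancel
      (mul_right_cancel (k.trans (h.mid_unique hab' (hK.conj (c := c)) hK').symm)))) hwK'
    rw [← hd]
    exact (hT.conj c).conj d
  exact ⟨key hxy hxy' hJ hJ' hg hgJ hg' hgJ', key hxy' hxy hJ' hJ hg' hgJ' hg hgJ⟩

theorem card_others {x y : Ω} (hxy : x ≠ y) {J : G} (hJ : IsMid x y J) :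
    Nat.card ↥(swaps G x y \ {J}) = 3 := by
  rw [Nat.card_coe_set_eq, Set.ncard_sdiff_singleton_of_mem hJ.1, ← Nat.card_coe_set_eq,
    h.card_swaps_mid hxy hJ]

omit [Finite G] [Finite Ω] in
theorem exists_other {x y : Ω} (hxy : x ≠ y) {J : G} (hJ : IsMid x y J) :
    ∃ g ∈ swaps G x y, g ≠ J := by
  obtain ⟨v, hv, vi⟩ := h.exists_inv_two hxy
  exact ⟨J * v, (h.swaps_of_mid hxy hJ).2 ⟨v, hv, vi.2, rfl⟩, fun k => vi.1 (mul_eq_left.1 k)⟩

variable (G Ω) in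
/-- Central exchanging involutions fix at most one point and the others at least two. -/
def _root_.Cfsg.Agent.H6.AFour.CaseC : Prop :=
  ∀ x y : Ω, x ≠ y → ∃ J : G, IsMid x y J ∧ ¬ IsT Ω J ∧ ∀ g ∈ swaps G x y, g ≠ J → IsT Ω g

variable (G Ω) in
/-- Central exchanging involutions fix at least two points and the others at most one. -/
def _root_.Cfsg.Agent.H6.AFour.CaseD : Prop :=
  ∀ x y : Ω, x ≠ y → ∃ J : G, IsMid x y J ∧ IsT Ω J ∧ ∀ g ∈ swaps G x y, g ≠ J → ¬ IsT Ω g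

theorem trichotomy (hn : ¬ NoMid G Ω) : AllT G Ω ∨ CaseC G Ω ∨ CaseD G Ω := by
  obtain ⟨a, b, hab⟩ := h.nontriv
  obtain ⟨J₀, hJ₀⟩ := h.exists_mid hn hab
  obtain ⟨g₀, hg₀, hgJ₀⟩ := h.exists_other hab hJ₀
  by_cases hJT : IsT Ω J₀ <;> by_cases hgT : IsT Ω g₀
  · left
    intro g gi
    obtain ⟨x, y, hxy, hg⟩ := h.exists_pair gi
    obtain ⟨J, hJ⟩ := h.exists_mid hn hxy
    by_cases k : g = J
    · rw [k]; exact (h.isT_mid_iff hab hxy hJ₀ hJ).1 hJT
    · exact (h.isT_other_iff hab hxy hJ₀ hJ hg₀ hgJ₀ hg k).1 hgT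
  · right; right
    intro x y hxy
    obtain ⟨J, hJ⟩ := h.exists_mid hn hxy
    exact ⟨J, hJ, (h.isT_mid_iff hab hxy hJ₀ hJ).1 hJT,
      fun g hg k hT => hgT ((h.isT_other_iff hab hxy hJ₀ hJ hg₀ hgJ₀ hg k).2 hT)⟩
  · right; left
    intro x y hxy
    obtain ⟨J, hJ⟩ := h.exists_mid hn hxy
    exact ⟨J, hJ, fun hT => hJT ((h.isT_mid_iff hab hxy hJ₀ hJ).2 hT),
      fun g hg k => (h.isT_other_iff hab hxy hJ₀ hJ hg₀ hgJ₀ hg k).1 hgT⟩
  · exfalso
    obtain ⟨t, ht⟩ := h.exists_isT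
    obtain ⟨x, y, hxy, hg⟩ := h.exists_pair ht.1
    obtain ⟨J, hJ⟩ := h.exists_mid hn hxy
    by_cases k : t = J
    · exact hJT ((h.isT_mid_iff hab hxy hJ₀ hJ).2 (k ▸ ht))
    · exact hgT ((h.isT_other_iff hab hxy hJ₀ hJ hg₀ hgJ₀ hg k).2 ht)

theorem eq_B (hA : AllT G Ω) (hn : ¬ NoMid G Ω) {t : G} (ht : IsT Ω t) :
    3 * (Nat.card Ω - fixCard Ω t) = 4 * (fixCard Ω t * (fixCard Ω t - 1)) := by
  refine h.count_T ht 4 fun x y hxy => ?_
  obtain ⟨J, hJ⟩ := h.exists_mid hn hxy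
  rw [show {g : G | IsT Ω g} ∩ swaps G x y = swaps G x y from
    Set.inter_eq_right.2 fun g hg => hA g hg.1]
  exact h.card_swaps_mid hxy hJ

theorem eq_C (hC : CaseC G Ω) {t : G} (ht : IsT Ω t) :
    Nat.card Ω = fixCard Ω t * fixCard Ω t := by
  have := h.count_T ht 3 fun x y hxy => by
    obtain ⟨J, hJ, hJT, hg⟩ := hC x y hxy
    rw [show {g : G | IsT Ω g} ∩ swaps G x y = swaps G x y \ {J} from Set.ext fun g =>
      ⟨fun k => ⟨k.2, fun e => hJT (Set.mem_singleton_iff.1 e ▸ k.1)⟩, fun k => ⟨hg g k.1 k.2, k.1⟩⟩]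
    exact h.card_others hxy hJ
  have h2 := two_le_fixCard h ht
  obtain ⟨i, hi⟩ := Nat.exists_eq_add_of_le h2
  rw [hi] at this ⊢
  rw [show 2 + i - 1 = 1 + i by omega] at this
  have e : (2 + i) * (2 + i) = (2 + i) * (1 + i) + (2 + i) := by ring
  have hle : fixCard Ω t ≤ Nat.card Ω := Finite.card_subtype_le _
  omega

theorem eq_D (hD : CaseD G Ω) {t : G} (ht : IsT Ω t) :
    3 * (Nat.card Ω - fixCard Ω t) = fixCard Ω t * (fixCard Ω t - 1) := by
  have := h.count_T ht 1 fun x y hxy => by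
    obtain ⟨J, hJ, hJT, hg⟩ := hD x y hxy
    rw [show {g : G | IsT Ω g} ∩ swaps G x y = {J} from Set.ext fun g =>
      ⟨fun k => by_contra fun e => hg g k.2 e k.1, fun k => by
        rw [Set.mem_singleton_iff.1 k]; exact ⟨hJT, hJ.1⟩⟩]
    rw [Nat.card_coe_set_eq, Set.ncard_singleton]
  omega

end Hyp

end Cfsg.Agent.H6.AFour
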