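import Cfsg.Agent.H6.AFour.Count

/-!
# Four groups and their fixed lines
-/

set_option autoImplicit false
set_option linter.unusedSectionVars false

namespace Cfsg.Agent.H6.AFour

open MulAction

variable {G Ω : Type*} [Group G] [MulAction G Ω]

namespace Hyp

variable (h : Hyp G Ω)
include h

/-- The four group of a two-point stabiliser. -/
def four {x y : Ω} (hxy : x ≠ y) : Subgroup G where
  carrier := {g | g ∈ tw G x y ∧ g * g = 1}
  one_mem' := ⟨one_mem _, one_mul 1⟩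
  mul_mem' := fun {a b} ha hb => ⟨mul_mem ha.1 hb.1, (h.two_comm hxy ha.1 hb.1 ha.2 hb.2).2⟩
  inv_mem' := fun {a} ha => ⟨inv_mem ha.1, by rw [← mul_inv_rev, ha.2, inv_one]⟩

theorem mem_four {x y : Ω} (hxy : x ≠ y) {g : G} :
    g ∈ h.four hxy ↔ g ∈ tw G x y ∧ g * g = 1 := Iff.rfl

theorem card_four' {x y : Ω} (hxy : x ≠ y) : Nat.card (h.four hxy) = 4 := h.card_four hxy

theorem four_le {x y : Ω} (hxy : x ≠ y) : h.four hxy ≤ tw G x y := fun _ hg => hg.1

theorem four_comm {x y : Ω} (hxy : x ≠ y) {a b : G} (ha : a ∈ h.four hxy) (hb : b ∈ h.four hxy) :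
    a * b = b * a :=
  (h.two_comm hxy ha.1 hb.1 ha.2 hb.2).1

theorem four_inv {x y : Ω} (hxy : x ≠ y) {a : G} (ha : a ∈ h.four hxy) (a1 : a ≠ 1) : Inv a :=
  ⟨a1, ha.2⟩

theorem four_conj {x y : Ω} (hxy : x ≠ y) {g : G} (hgxy : g • x ≠ g • y) {a : G} :
    g * a * g⁻¹ ∈ h.four hgxy ↔ a ∈ h.four hxy := by
  have key : ∀ (c : G) {x y : Ω} {a : G}, a ∈ tw G x y ∧ a * a = 1 →
      c * a * c⁻¹ ∈ tw G (c • x) (c • y) ∧ c * a * c⁻¹ * (c * a * c⁻¹) = 1 := fun c x y a ha =>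
    ⟨conj_mem_tw ha.1, by
      rw [show c * a * c⁻¹ * (c * a * c⁻¹) = c * (a * a) * c⁻¹ by group, ha.2, mul_one, mul_inv_cancel]⟩
  refine ⟨fun k => ?_, fun k => key g k⟩
  have := key g⁻¹ k
  rwa [inv_smul_smul, inv_smul_smul, show g⁻¹ * (g * a * g⁻¹) * g⁻¹⁻¹ = a by group] at this

theorem mem_line {x y : Ω} (hxy : x ≠ y) {z : Ω} :
    z ∈ line G x y ↔ ∀ v ∈ h.four hxy, v • z = z :=
  ⟨fun k v hv => k v hv.1 hv.2, fun k v hv v2 => k v ⟨hv, v2⟩⟩

omit h in
theorem left_mem_line (x y : Ω) : x ∈ line G x y := fun _ hv _ => (mem_tw.1 hv).1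

omit h in
theorem right_mem_line (x y : Ω) : y ∈ line G x y := fun _ hv _ => (mem_tw.1 hv).2

theorem four_eq [Finite G] {x y z w : Ω} (hxy : x ≠ y) (hzw : z ≠ w) (hz : z ∈ line G x y)
    (hw : w ∈ line G x y) : h.four hzw = h.four hxy := by
  refine (Subgroup.eq_of_le_of_card_ge (show h.four hxy ≤ h.four hzw from fun v hv => ⟨mem_tw.2 ⟨hz v hv.1 hv.2, hw v hv.1 hv.2⟩, hv.2⟩) ?_).symm
  rw [h.card_four' hzw, h.card_four' hxy]

theorem line_eq [Finite G] {x y z w : Ω} (hxy : x ≠ y) (hzw : z ≠ w) (hz : z ∈ line G x y)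
    (hw : w ∈ line G x y) : line G z w = line G x y := by
  ext u
  rw [h.mem_line hzw, h.mem_line hxy, h.four_eq hxy hzw hz hw]

theorem smul_line {x y : Ω} (hxy : x ≠ y) (g : G) {z : Ω} :
    g • z ∈ line G (g • x) (g • y) ↔ z ∈ line G x y := by
  have hgxy : g • x ≠ g • y := fun k => hxy (MulAction.injective g k)
  rw [h.mem_line hgxy, h.mem_line hxy]
  refine ⟨fun k v hv => ?_, fun k v hv => ?_⟩
  · have := k _ ((h.four_conj hxy hgxy).2 hv)
    rw [mul_smul, mul_smul, inv_smul_smul] at this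
    exact MulAction.injective g this
  · have hv' : g⁻¹ * v * g ∈ h.four hxy := by
      refine (h.four_conj hxy hgxy).1 ?_
      rwa [show g * (g⁻¹ * v * g) * g⁻¹ = v by group]
    have := k _ hv'
    rw [mul_smul, mul_smul, inv_smul_eq_iff] at this
    exact this

theorem line_card_eq {x y x' y' : Ω} (hxy : x ≠ y) (hxy' : x' ≠ y') :
    (line G x y).ncard = (line G x' y').ncard := by
  obtain ⟨g, rfl, rfl⟩ := h.exists_map hxy hxy'
  rw [← Set.ncard_image_of_injective _ (MulAction.injective g (β := Ω))]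
  congr 1
  ext z
  constructor
  · rintro ⟨w, hw, rfl⟩
    exact (h.smul_line hxy g).2 hw
  · intro hz
    refine ⟨g⁻¹ • z, ?_, smul_inv_smul g z⟩
    rw [← smul_inv_smul g z] at hz
    exact (h.smul_line hxy g).1 hz

theorem line_le_fix {x y : Ω} (hxy : x ≠ y) {v : G} (hv : v ∈ h.four hxy) :
    line G x y ⊆ fixedBy Ω v := fun _ hz => hz v hv.1 hv.2

variable [Finite G] [Finite Ω]

theorem two_le_line {x y : Ω} (hxy : x ≠ y) : 2 ≤ (line G x y).ncard := by
  rw [← Set.ncard_pair hxy]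
  refine Set.ncard_le_ncard ?_ (Set.toFinite _)
  rintro z (rfl | rfl)
  · exact left_mem_line _ _
  · exact right_mem_line _ _

theorem line_le_fixCard {x y : Ω} (hxy : x ≠ y) {t : G} (ht : IsT Ω t) :
    (line G x y).ncard ≤ fixCard Ω t := by
  obtain ⟨v, hv, vi⟩ := h.exists_inv_two hxy
  rw [h.fixCard_eq ht (h.isT_of_mem hxy hv vi), fixCard, Nat.card_coe_set_eq]
  exact Set.ncard_le_ncard (h.line_le_fix hxy ⟨hv, vi.2⟩) (Set.toFinite _)

variable (G Ω) in
/-- The four groups have the same fixed points as their involutions. -/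
def _root_.Cfsg.Agent.H6.AFour.Flat : Prop :=
  ∀ x y : Ω, x ≠ y → ∀ v ∈ tw G x y, Inv v → fixedBy Ω v = line G x y

theorem flat_of_card {x y : Ω} (hxy : x ≠ y) {t : G} (ht : IsT Ω t)
    (he : (line G x y).ncard = fixCard Ω t) : Flat G Ω := by
  intro a b hab v hv vi
  refine (Set.eq_of_subset_of_ncard_le (h.line_le_fix hab ⟨hv, vi.2⟩) ?_ (Set.toFinite _)).symm
  rw [← Nat.card_coe_set_eq, ← fixCard, h.fixCard_eq (h.isT_of_mem hab hv vi) ht, ← he,
    h.line_card_eq hab hxy]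

theorem line_card_of_flat (hF : Flat G Ω) {x y : Ω} (hxy : x ≠ y) {t : G} (ht : IsT Ω t) :
    (line G x y).ncard = fixCard Ω t := by
  obtain ⟨v, hv, vi⟩ := h.exists_inv_two hxy
  rw [h.fixCard_eq ht (h.isT_of_mem hxy hv vi), fixCard, Nat.card_coe_set_eq, hF x y hxy v hv vi]

/-- In the flat case an involution of a four group determines it. -/
theorem four_of_flat (hF : Flat G Ω) {x y z w : Ω} (hxy : x ≠ y) (hzw : z ≠ w) {v : G}
    (hv : v ∈ h.four hxy) (hv' : v ∈ h.four hzw) (v1 : v ≠ 1) : h.four hxy = h.four hzw := by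
  have e := (hF x y hxy v hv.1 ⟨v1, hv.2⟩).symm.trans (hF z w hzw v hv'.1 ⟨v1, hv'.2⟩)
  exact h.four_eq hzw hxy (e ▸ left_mem_line x y) (e ▸ right_mem_line x y)

theorem line_of_centralizer (hF : Flat G Ω) {x y : Ω} (hxy : x ≠ y) {t : G} (ht : t ∈ h.four hxy)
    (t1 : t ≠ 1) {g : G} (hg : g ∈ Subgroup.centralizer ({t} : Set G)) {z : Ω}
    (hz : z ∈ line G x y) : g • z ∈ line G x y := by
  rw [← hF x y hxy t ht.1 ⟨t1, ht.2⟩] at hz ⊢
  show t • g • z = g • z
  rw [← mul_smul, ← Subgroup.mem_centralizer_singleton_iff.1 hg, mul_smul, show t • z = z from hz]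

/-- The normaliser of a four group is the stabiliser of its line. -/
theorem mem_normalizer_four {x y : Ω} (hxy : x ≠ y) {g : G} :
    g ∈ Subgroup.normalizer (h.four hxy : Set G) ↔ g • x ∈ line G x y ∧ g • y ∈ line G x y := by
  have hgxy : g • x ≠ g • y := fun k => hxy (MulAction.injective g k)
  constructor
  · intro hg
    have key : ∀ z, z ∈ line G x y → g • z ∈ line G x y := by
      intro z hz
      rw [h.mem_line hxy] at hz ⊢
      intro v hv
      have := hz _ ((Subgroup.mem_normalizer_iff''.1 hg v).1 hv)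
      rw [mul_smul, mul_smul, inv_smul_eq_iff] at this
      exact this
    exact ⟨key x (left_mem_line x y), key y (right_mem_line x y)⟩
  · rintro ⟨hx, hy⟩
    refine Subgroup.mem_normalizer_iff.2 fun v => ?_
    rw [← h.four_conj hxy hgxy (a := v), h.four_eq hxy hgxy hx hy]

theorem centralizer_le_normalizer (hF : Flat G Ω) {x y : Ω} (hxy : x ≠ y) {t : G}
    (ht : t ∈ h.four hxy) (t1 : t ≠ 1) :
    Subgroup.centralizer ({t} : Set G) ≤ Subgroup.normalizer (h.four hxy : Set G) := fun g hg =>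
  (h.mem_normalizer_four hxy).2
    ⟨h.line_of_centralizer hF hxy ht t1 hg (left_mem_line x y),
      h.line_of_centralizer hF hxy ht t1 hg (right_mem_line x y)⟩

theorem card_line_stabilizer {x y : Ω} (hxy : x ≠ y) (K : Subgroup G)
    (hK : K ≤ Subgroup.normalizer (h.four hxy : Set G))
    (htr : ∀ z ∈ line G x y, ∀ w ∈ line G x y, z ≠ w → ∃ g ∈ K, g • x = z ∧ g • y = w) :
    Nat.card K = (line G x y).ncard * (((line G x y).ncard - 1) * Nat.card ↥(K ⊓ tw G x y)) := by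
  have hstab : ∀ g ∈ K, ∀ z ∈ line G x y, g • z ∈ line G x y := by
    intro g hg z hz
    obtain ⟨hx, hy⟩ := (h.mem_normalizer_four hxy).1 (hK hg)
    rw [← h.line_eq hxy (fun k => hxy (MulAction.injective g k)) hx hy]
    exact (h.smul_line hxy g).2 hz
  have h1 := card_eq_orbit_mul K x (line G x y) fun z => ⟨fun hz => ?_, ?_⟩
  · have h2 := card_eq_orbit_mul (K ⊓ stabilizer G x) y (line G x y \ {x}) fun z => ⟨fun hz => ?_, ?_⟩
    · rw [h1, h2, Set.ncard_sdiff_singleton_of_mem (left_mem_line x y), inf_assoc]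
    · obtain ⟨g, hg, gx, gy⟩ := htr x (left_mem_line x y) z hz.1 (Ne.symm hz.2)
      exact ⟨g, ⟨hg, gx⟩, gy⟩
    · rintro ⟨g, ⟨hg, gx⟩, rfl⟩
      exact ⟨hstab g hg y (right_mem_line x y),
        fun k => hxy (MulAction.injective g ((mem_stabilizer_iff.1 gx).trans k.symm))⟩
  · by_cases k : z = x
    · exact ⟨1, one_mem _, by rw [one_smul, k]⟩
    obtain ⟨g, hg, gx, -⟩ := htr z hz x (left_mem_line x y) k
    exact ⟨g, hg, gx⟩
  · rintro ⟨g, hg, rfl⟩
    exact hstab g hg x (left_mem_line x y)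

theorem card_normalizer_four {x y : Ω} (hxy : x ≠ y) :
    Nat.card (Subgroup.normalizer (h.four hxy : Set G)) =
      12 * ((line G x y).ncard * ((line G x y).ncard - 1)) := by
  rw [h.card_line_stabilizer hxy _ le_rfl fun z hz w hw hzw => ?_, inf_eq_right.2, h.card_two hxy]
  · ring
  · intro d hd
    obtain ⟨dx, dy⟩ := mem_tw.1 hd
    exact (h.mem_normalizer_four hxy).2 (by rw [dx, dy]; exact ⟨left_mem_line x y, right_mem_line x y⟩)
  · obtain ⟨g, rfl, rfl⟩ := h.exists_map hxy hzw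
    exact ⟨g, (h.mem_normalizer_four hxy).2 ⟨hz, hw⟩, rfl, rfl⟩

theorem card_cent_normalizer {x y : Ω} (hxy : x ≠ y) {t : G} (ht : t ∈ h.four hxy) (t1 : t ≠ 1) :
    Nat.card ↥(Subgroup.centralizer ({t} : Set G) ⊓ Subgroup.normalizer (h.four hxy : Set G)) =
      4 * ((line G x y).ncard * ((line G x y).ncard - 1)) := by
  have ti : Inv t := ⟨t1, ht.2⟩
  rw [h.card_line_stabilizer hxy _ inf_le_right fun z hz w hw hzw => ?_,
    show Subgroup.centralizer ({t} : Set G) ⊓ Subgroup.normalizer (h.four hxy : Set G) ⊓ tw G x y =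
      h.four hxy from ?_, h.card_four' hxy]
  · ring
  · ext d
    refine ⟨fun hd => ⟨hd.2, h.two_cent hxy ht.1 hd.2 ti
      (Subgroup.mem_centralizer_singleton_iff.1 hd.1.1).symm⟩, fun hd => ⟨⟨?_, ?_⟩, hd.1⟩⟩
    · exact Subgroup.mem_centralizer_singleton_iff.2 (h.four_comm hxy hd ht)
    · obtain ⟨dx, dy⟩ := mem_tw.1 hd.1
      exact (h.mem_normalizer_four hxy).2 (by rw [dx, dy]; exact ⟨left_mem_line x y, right_mem_line x y⟩)
  · obtain ⟨g, hg, gx, gy⟩ := h.witt ti hxy hzw (mem_tw.1 ht.1).1 (mem_tw.1 ht.1).2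
      (hz t ht.1 ht.2) (hw t ht.1 ht.2)
    exact ⟨g, ⟨hg, (h.mem_normalizer_four hxy).2 (by rw [gx, gy]; exact ⟨hz, hw⟩)⟩, gx, gy⟩

theorem card_centralizer_flat (hF : Flat G Ω) {x y : Ω} (hxy : x ≠ y) {t : G} (ht : t ∈ h.four hxy)
    (t1 : t ≠ 1) : Nat.card (Subgroup.centralizer ({t} : Set G)) =
      4 * ((line G x y).ncard * ((line G x y).ncard - 1)) := by
  rw [← h.card_cent_normalizer hxy ht t1,
    inf_eq_left.2 (h.centralizer_le_normalizer hF hxy ht t1)]

end Hyp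

end Cfsg.Agent.H6.AFour
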