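import Cfsg.Agent.H6.AFour.Basic

/-!
# The involutions exchanging two points
-/

set_option autoImplicit false

namespace Cfsg.Agent.H6.AFour

open MulAction

variable {G Ω : Type*} [Group G] [MulAction G Ω]

variable (G) in
/-- The involutions exchanging two points. -/
def swaps (x y : Ω) : Set G := {g | Inv g ∧ g • x = y}

/-- An involution exchanging two points and centralising their stabiliser. -/
def IsMid (x y : Ω) (g : G) : Prop :=
  g ∈ swaps G x y ∧ ∀ d ∈ tw G x y, g * d = d * g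

theorem swaps_back {g : G} {x y : Ω} (hg : g ∈ swaps G x y) : g • y = x := by
  rw [← hg.2, ← mul_smul, hg.1.2, one_smul]

theorem swap_conj_mem {J d : G} {x y : Ω} (Jx : J • x = y) (Jy : J • y = x) (hd : d ∈ tw G x y) :
    J * d * J⁻¹ ∈ tw G x y := by
  have := conj_mem_tw (c := J) hd
  rw [Jx, Jy] at this
  rw [mem_tw] at this ⊢
  exact ⟨this.2, this.1⟩

theorem swaps_conj {g c : G} {x y : Ω} (hg : g ∈ swaps G x y) :
    c * g * c⁻¹ ∈ swaps G (c • x) (c • y) :=
  ⟨hg.1.conj c, by rw [mul_smul, mul_smul, inv_smul_smul, hg.2]⟩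

theorem IsMid.conj {g c : G} {x y : Ω} (hg : IsMid x y g) : IsMid (c • x) (c • y) (c * g * c⁻¹) := by
  refine ⟨swaps_conj hg.1, fun d hd => ?_⟩
  have hd' : c⁻¹ * d * c ∈ tw G x y := by
    have := conj_mem_tw (c := c⁻¹) hd
    rwa [inv_inv, inv_smul_smul, inv_smul_smul] at this
  have := hg.2 _ hd'
  calc c * g * c⁻¹ * d = c * (g * (c⁻¹ * d * c)) * c⁻¹ := by group
    _ = d * (c * g * c⁻¹) := by rw [this]; group

namespace Hyp

variable (h : Hyp G Ω)
include h

/-- An involution centralising one element of order three of a two-point stabiliser and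
normalising the stabiliser centralises it. -/
theorem mid_of_three {x y : Ω} (hxy : x ≠ y) {J : G} (hJ : J ∈ swaps G x y) {r : G}
    (hr : r ∈ tw G x y) (r2 : r * r ≠ 1) (hJr : J * r = r * J) : IsMid x y J := by
  have Jy := swaps_back hJ
  have cJ : ∀ d : G, J * d * J⁻¹ = d → J * d = d * J := fun d k => mul_inv_eq_iff_eq_mul.1 k
  have hinv : ∀ d, J * (J * d * J⁻¹) * J⁻¹ = d := fun d => by
    rw [hJ.1.inv_eq]
    calc J * (J * d * J) * J = J * J * d * (J * J) := by group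
      _ = d := by rw [hJ.1.2, one_mul, mul_one]
  -- a fixed involution
  obtain ⟨v, hv, vi, hJv⟩ : ∃ v ∈ tw G x y, Inv v ∧ J * v = v * J := by
    obtain ⟨v, hv, vi⟩ := h.exists_inv_two hxy
    by_cases k : J * v * J⁻¹ = v
    · exact ⟨v, hv, vi, cJ v k⟩
    have hu := swap_conj_mem hJ.2 Jy hv
    obtain ⟨hc, hsq⟩ := h.two_comm hxy hv hu vi.2 (vi.conj J).2
    refine ⟨v * (J * v * J⁻¹), mul_mem hv hu, ⟨fun e => k ?_, hsq⟩, cJ _ ?_⟩
    · rw [← inv_eq_of_mul_eq_one_right e, vi.inv_eq]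
    · calc J * (v * (J * v * J⁻¹)) * J⁻¹ = J * v * J⁻¹ * (J * (J * v * J⁻¹) * J⁻¹) := by group
        _ = v * (J * v * J⁻¹) := by rw [hinv, hc]
  have hrr : J * (r * r) = r * r * J := by rw [← mul_assoc, hJr, mul_assoc, hJr, mul_assoc]
  have hall : ∀ w ∈ tw G x y, w * w = 1 → J * w = w * J := by
    intro w hw w2
    by_cases w1 : w = 1
    · rw [w1, mul_one, one_mul]
    obtain ⟨c, hc, rfl⟩ := h.two_conj hxy hv hw vi ⟨w1, w2⟩
    obtain ⟨u, hu, u2, hcu⟩ := h.two_decomp hxy hr hc r2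
    have key : ∀ s : G, J * s = s * J → s ∈ tw G x y →
        J * (u * s * v * (u * s)⁻¹) = u * s * v * (u * s)⁻¹ * J := by
      intro s hs hsm
      have e : u * s * v * (u * s)⁻¹ = s * v * s⁻¹ := by
        rw [mul_inv_rev, show u * s * v * (s⁻¹ * u⁻¹) = u * (s * v * s⁻¹) * u⁻¹ by group,
          (h.two_comm hxy hu (mul_mem (mul_mem hsm hv) (inv_mem hsm)) u2 (vi.conj s).2).1,
          mul_inv_cancel_right]
      rw [e]
      exact (((show Commute J s from hs).mul_right hJv).mul_right (show Commute J s from hs).inv_right).eq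
    rcases hcu with rfl | rfl | rfl
    · simpa using key 1 (by rw [mul_one, one_mul]) (one_mem _)
    · exact key r hJr hr
    · exact key (r * r) hrr (mul_mem hr hr)
  refine ⟨hJ, fun d hd => ?_⟩
  obtain ⟨u, hu, u2, hdu⟩ := h.two_decomp hxy hr hd r2
  rcases hdu with rfl | rfl | rfl
  · exact hall _ hu u2
  · exact ((show Commute J u from hall u hu u2).mul_right hJr).eq
  · exact ((show Commute J u from hall u hu u2).mul_right hrr).eq

/-- There is an involution exchanging two points. -/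
theorem exists_swap {x y : Ω} (hxy : x ≠ y) :
    ∃ J ∈ swaps G x y, ∃ r ∈ tw G x y, r * r ≠ 1 ∧ (J * r * J⁻¹ = r ∨ J * r * J⁻¹ = r * r) := by
  obtain ⟨r, hr, r2⟩ := h.exists_three hxy
  have r3 := h.two_cube hxy hr r2
  obtain ⟨g, gx, gy⟩ := h.exists_map hxy hxy.symm
  have hs := swap_conj_mem gx gy hr
  have s2 : g * r * g⁻¹ * (g * r * g⁻¹) ≠ 1 := fun e => r2 (by
    rw [show r * r = g⁻¹ * (g * r * g⁻¹ * (g * r * g⁻¹)) * g by group, e, mul_one, inv_mul_cancel])
  obtain ⟨c, hc, hcr⟩ := h.three_conj hxy hr hs r2 s2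
  have ci := mem_tw.1 (inv_mem hc)
  set w := c⁻¹ * g with hw
  have wx : w • x = y := by rw [hw, mul_smul, gx, ci.2]
  have wy : w • y = x := by rw [hw, mul_smul, gy, ci.1]
  have hwr : w * r * w⁻¹ = r ∨ w * r * w⁻¹ = r * r := by
    rw [show w * r * w⁻¹ = c⁻¹ * (g * r * g⁻¹) * c by rw [hw]; group]
    rcases hcr with k | k <;> rw [← k]
    · left; group
    · right; group
  have hww : w * w ∈ tw G x y := mem_tw.2 ⟨by rw [mul_smul, wx, wy], by rw [mul_smul, wy, wx]⟩
  have hwwr : w * w * r = r * (w * w) := by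
    refine mul_inv_eq_iff_eq_mul.1 ?_
    rw [show w * w * r * (w * w)⁻¹ = w * (w * r * w⁻¹) * w⁻¹ by group]
    rcases hwr with k | k
    · rw [k, k]
    · rw [k, show w * (r * r) * w⁻¹ = (w * r * w⁻¹) * (w * r * w⁻¹) by group, k,
        show r * r * (r * r) = r * r * r * r by group, r3, one_mul]
  obtain ⟨u, hu, u2, hwu⟩ := h.two_decomp hxy hr hww r2
  have hu1 : u = 1 := by
    refine h.two_fpf hxy hr hu r2 u2 ?_
    rcases hwu with k | k | k <;> rw [k] at hwwr
    · exact hwwr.symm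
    · exact (mul_right_cancel (hwwr.trans (mul_assoc _ _ _).symm)).symm
    · refine (mul_right_cancel (b := r * r) ?_).symm
      rw [show u * r * (r * r) = u * (r * r) * r by group, hwwr, mul_assoc]
  have hne : x ≠ y := hxy
  have hJ : ∃ J : G, J * J = 1 ∧ J • x = y ∧ (J * r * J⁻¹ = r ∨ J * r * J⁻¹ = r * r) := by
    rcases hwu with k | k | k <;> rw [hu1] at k
    · exact ⟨w, k, wx, hwr⟩
    all_goals
      rw [one_mul] at k
      refine ⟨w * (w * w), ?_, ?_, ?_⟩
      · rw [show w * (w * w) * (w * (w * w)) = w * w * (w * w) * (w * w) by group, k]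
        first
          | exact r3
          | rw [show r * r * (r * r) * (r * r) = r * r * r * (r * r * r) by group, r3, one_mul]
      · rw [mul_smul, (mem_tw.1 hww).1, wx]
      · rw [show w * (w * w) * r * (w * (w * w))⁻¹ = w * (w * w * r * (w * w)⁻¹) * w⁻¹ by group,
          hwwr, mul_inv_cancel_right]
        exact hwr
  obtain ⟨J, J2, Jx, hJr⟩ := hJ
  exact ⟨J, ⟨⟨fun e => hne (by rw [← Jx, e, one_smul]), J2⟩, Jx⟩, r, hr, r2, hJr⟩

/-- Every pair has a central exchanging involution, or none has. -/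
theorem mid_or {x y x' y' : Ω} (hxy : x ≠ y) (hxy' : x' ≠ y') {J : G} (hJ : IsMid x y J) :
    ∃ J' : G, IsMid x' y' J' := by
  obtain ⟨g, rfl, rfl⟩ := h.exists_map hxy hxy'
  exact ⟨_, hJ.conj⟩

theorem mid_unique {x y : Ω} (hxy : x ≠ y) {J J' : G} (hJ : IsMid x y J) (hJ' : IsMid x y J') :
    J = J' := by
  have hd : J * J' ∈ tw G x y := mem_tw.2
    ⟨by rw [mul_smul, hJ'.1.2, swaps_back hJ.1], by rw [mul_smul, swaps_back hJ'.1, hJ.1.2]⟩
  have := h.two_center hxy hd fun b hb => by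
    rw [mul_assoc, hJ'.2 b hb, ← mul_assoc, hJ.2 b hb, mul_assoc]
  rw [← inv_eq_of_mul_eq_one_right this, hJ.1.1.inv_eq]

/-- The exchanging involutions in the central case. -/
theorem swaps_of_mid {x y : Ω} (hxy : x ≠ y) {J : G} (hJ : IsMid x y J) {g : G} :
    g ∈ swaps G x y ↔ ∃ v ∈ tw G x y, v * v = 1 ∧ g = J * v := by
  constructor
  · intro hg
    have hd : J * g ∈ tw G x y := mem_tw.2
      ⟨by rw [mul_smul, hg.2, swaps_back hJ.1], by rw [mul_smul, swaps_back hg, hJ.1.2]⟩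
    have hgJ : g = J * (J * g) := by rw [← mul_assoc, hJ.1.1.2, one_mul]
    refine ⟨J * g, hd, ?_, hgJ⟩
    have := hg.1.2
    rw [hgJ] at this
    generalize J * g = d at hd this ⊢
    rw [show J * d * (J * d) = J * (d * J) * d by group, ← hJ.2 _ hd, ← mul_assoc, hJ.1.1.2,
      one_mul] at this
    exact this
  · rintro ⟨v, hv, v2, rfl⟩
    have hx : (J * v) • x = y := by rw [mul_smul, (mem_tw.1 hv).1, hJ.1.2]
    refine ⟨⟨fun e => hxy (by rw [← hx, e, one_smul]), ?_⟩, hx⟩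
    rw [show J * v * (J * v) = J * (v * J) * v by group, ← hJ.2 v hv, ← mul_assoc, hJ.1.1.2, one_mul, v2]

theorem card_swaps_mid {x y : Ω} (hxy : x ≠ y) {J : G} (hJ : IsMid x y J) :
    Nat.card ↥(swaps G x y) = 4 := by
  rw [← h.card_four hxy]
  refine Nat.card_congr (Equiv.subtypeEquiv (Equiv.mulLeft J⁻¹) fun g => ?_)
  rw [h.swaps_of_mid hxy hJ]
  constructor
  · rintro ⟨v, hv, v2, rfl⟩
    simpa using ⟨hv, v2⟩
  · rintro ⟨k, k2⟩
    exact ⟨_, k, k2, by simp⟩

/-- In the central case the exchanging involutions other than the central one are conjugate. -/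
theorem mid_others_conj {x y : Ω} (hxy : x ≠ y) {J g g' : G} (hJ : IsMid x y J)
    (hg : g ∈ swaps G x y) (hg' : g' ∈ swaps G x y) (gJ : g ≠ J) (gJ' : g' ≠ J) :
    ∃ c ∈ tw G x y, c * g * c⁻¹ = g' := by
  obtain ⟨v, hv, v2, rfl⟩ := (h.swaps_of_mid hxy hJ).1 hg
  obtain ⟨v', hv', v2', rfl⟩ := (h.swaps_of_mid hxy hJ).1 hg'
  obtain ⟨c, hc, hcv⟩ := h.two_conj hxy hv hv' ⟨fun e => gJ (by rw [e, mul_one]), v2⟩
    ⟨fun e => gJ' (by rw [e, mul_one]), v2'⟩
  refine ⟨c, hc, ?_⟩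
  rw [show c * (J * v) * c⁻¹ = c * J * v * c⁻¹ by group, ← hJ.2 c hc, ← hcv]
  group

section nomid

variable {x y : Ω} (hxy : x ≠ y) (hno : ¬ ∃ J, IsMid (G := G) x y J)
include hxy hno

/-- Without a central exchanging involution, an exchanging involution centralises two elements of
the stabiliser. -/
theorem card_cent_swap {J : G} (hJ : J ∈ swaps G x y) :
    Nat.card {d : G // d ∈ tw G x y ∧ J * d = d * J} = 2 := by
  have Jy := swaps_back hJ
  have hsq : ∀ d ∈ tw G x y, J * d = d * J → d * d = 1 := fun d hd hJd =>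
    by_contra fun d2 => hno ⟨J, h.mid_of_three hxy hJ hd d2 hJd⟩
  obtain ⟨J₀, hJ₀, r, hr, r2, hJ₀r⟩ := h.exists_swap hxy
  have hJ₀r' : J₀ * r * J₀⁻¹ = r * r := hJ₀r.resolve_left fun k =>
    hno ⟨J₀, h.mid_of_three hxy hJ₀ hr r2 (mul_inv_eq_iff_eq_mul.1 k)⟩
  -- not all involutions are centralised
  have hnot : ¬ ∀ d ∈ tw G x y, d * d = 1 → J * d = d * J := by
    intro hall
    have hd : J * J₀ ∈ tw G x y := mem_tw.2
      ⟨by rw [mul_smul, hJ₀.2, Jy], by rw [mul_smul, swaps_back hJ₀, hJ.2]⟩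
    -- a fixed involution of `J₀`
    obtain ⟨v, hv, vi⟩ := h.exists_inv_two hxy
    have hu := swap_conj_mem hJ₀.2 (swaps_back hJ₀) hv
    have key : ∀ w ∈ tw G x y, Inv w → J₀ * w = w * J₀ → J * J₀ * (J * J₀) = 1 := by
      intro w hw wi hw0
      refine h.two_cent hxy hw hd wi ?_
      rw [mul_assoc, hw0, ← mul_assoc, ← hall w hw wi.2, mul_assoc]
    have d2 : J * J₀ * (J * J₀) = 1 := by
      by_cases k : J₀ * v * J₀⁻¹ = v
      · exact key v hv vi (mul_inv_eq_iff_eq_mul.1 k)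
      obtain ⟨hc, hsq'⟩ := h.two_comm hxy hv hu vi.2 (vi.conj J₀).2
      refine key _ (mul_mem hv hu) ⟨fun e => k ?_, hsq'⟩ (mul_inv_eq_iff_eq_mul.1 ?_)
      · rw [← inv_eq_of_mul_eq_one_right e, vi.inv_eq]
      · calc J₀ * (v * (J₀ * v * J₀⁻¹)) * J₀⁻¹
            = J₀ * v * J₀⁻¹ * (J₀ * J₀ * v * (J₀ * J₀)⁻¹) := by group
          _ = v * (J₀ * v * J₀⁻¹) := by rw [hJ₀.1.2, one_mul, inv_one, mul_one, hc]
    -- so `J₀` centralises every involution, contradicting the inversion of `r`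
    have h0 : ∀ w ∈ tw G x y, w * w = 1 → J₀ * w = w * J₀ := by
      intro w hw w2
      have e : J₀ = J * (J * J₀) := by rw [← mul_assoc, hJ.1.2, one_mul]
      rw [e, mul_assoc, (h.two_comm hxy hd hw d2 w2).1, ← mul_assoc, hall w hw w2, mul_assoc]
    have hw : r * v * r⁻¹ ∈ tw G x y := mul_mem (mul_mem hr hv) (inv_mem hr)
    have e := h0 _ hw (vi.conj r).2
    have e' : J₀ * (r * v * r⁻¹) * J₀⁻¹ = (J₀ * r * J₀⁻¹) * (J₀ * v * J₀⁻¹) * (J₀ * r * J₀⁻¹)⁻¹ := by
      group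
    rw [e, mul_inv_cancel_right, hJ₀r', h0 v hv vi.2, mul_inv_cancel_right] at e'
    refine vi.1 (h.two_fpf hxy hr hv r2 vi.2 ?_)
    calc r * v = r * v * r⁻¹ * r := by group
      _ = r * r * v * (r * r)⁻¹ * r := by rw [e']
      _ = r * (r * v * r⁻¹) := by group
      _ = r * (r * r * v * (r * r)⁻¹) := by rw [← e']
      _ = r * r * r * v * (r * r * r)⁻¹ * r := by group
      _ = v * r := by rw [h.two_cube hxy hr r2, one_mul, inv_one, mul_one]
  obtain ⟨v, hv, vi, hJv⟩ : ∃ v ∈ tw G x y, Inv v ∧ J * v = v * J := by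
    obtain ⟨v, hv, vi⟩ := h.exists_inv_two hxy
    by_cases k : J * v * J⁻¹ = v
    · exact ⟨v, hv, vi, mul_inv_eq_iff_eq_mul.1 k⟩
    have hu := swap_conj_mem hJ.2 Jy hv
    obtain ⟨hc, hsq'⟩ := h.two_comm hxy hv hu vi.2 (vi.conj J).2
    refine ⟨v * (J * v * J⁻¹), mul_mem hv hu, ⟨fun e => k ?_, hsq'⟩, mul_inv_eq_iff_eq_mul.1 ?_⟩
    · rw [← inv_eq_of_mul_eq_one_right e, vi.inv_eq]
    · calc J * (v * (J * v * J⁻¹)) * J⁻¹ = J * v * J⁻¹ * (J * J * v * (J * J)⁻¹) := by group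
        _ = v * (J * v * J⁻¹) := by rw [hJ.1.2, one_mul, inv_one, mul_one, hc]
  change Nat.card ↥{d | d ∈ tw G x y ∧ J * d = d * J} = 2
  rw [← Nat.card_congr (Equiv.setCongr (show ({1, v} : Set G) =
    {d | d ∈ tw G x y ∧ J * d = d * J} from ?_)), Nat.card_coe_set_eq, Set.ncard_pair vi.1.symm]
  ext d
  refine ⟨?_, fun hd => ?_⟩
  · rintro (rfl | rfl)
    · exact ⟨one_mem _, by rw [mul_one, one_mul]⟩
    · exact ⟨hv, hJv⟩
  by_contra hne
  simp only [Set.mem_insert_iff, Set.mem_singleton_iff, not_or] at hne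
  have di : Inv d := ⟨hne.1, hsq d hd.1 hd.2⟩
  refine hnot fun w hw w2 => ?_
  -- `v`, `d` generate the four group
  classical
  have hsub : ({1, v, d, v * d} : Set G) ⊆ {a | a ∈ tw G x y ∧ a * a = 1} := by
    rintro a (rfl | rfl | rfl | rfl)
    · exact ⟨one_mem _, one_mul 1⟩
    · exact ⟨hv, vi.2⟩
    · exact ⟨hd.1, di.2⟩
    · exact ⟨mul_mem hv hd.1, (h.two_comm hxy hv hd.1 vi.2 di.2).2⟩
  have h4 : ({1, v, d, v * d} : Set G).ncard = 4 := by
    have e1 : v * d ≠ 1 := fun e => hne.2 (by rw [← inv_eq_of_mul_eq_one_right e, vi.inv_eq])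
    have e2 : v * d ≠ v := fun e => di.1 (mul_eq_left.1 e)
    have e3 : v * d ≠ d := fun e => vi.1 (mul_eq_right.1 e)
    rw [Set.ncard_insert_of_notMem, Set.ncard_insert_of_notMem, Set.ncard_pair e3.symm]
    · simp [Ne.symm hne.2, e2.symm]
    · simp [vi.1.symm, di.1.symm, e1.symm]
  have hfin : ({a | a ∈ tw G x y ∧ a * a = 1} : Set G).Finite := by
    refine Set.finite_coe_iff.1 (Nat.finite_of_card_ne_zero ?_)
    rw [show Nat.card {a : G | a ∈ tw G x y ∧ a * a = 1} = 4 from h.card_four hxy]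
    omega
  have := Set.eq_of_subset_of_ncard_le hsub (by rw [h4, ← Nat.card_coe_set_eq]; exact (h.card_four hxy).le) hfin
  have hw' : w ∈ ({1, v, d, v * d} : Set G) := this ▸ ⟨hw, w2⟩
  rcases hw' with rfl | rfl | rfl | rfl
  · rw [mul_one, one_mul]
  · exact hJv
  · exact hd.2
  · exact ((show Commute J v from hJv).mul_right hd.2).eq

variable [Finite G]

/-- Without a central exchanging involution there are six exchanging involutions, all conjugate. -/
theorem swaps_nomid : Nat.card ↥(swaps G x y) = 6 ∧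
    ∀ g ∈ swaps G x y, ∀ g' ∈ swaps G x y, ∃ c ∈ tw G x y, c * g * c⁻¹ = g' := by
  classical
  obtain ⟨J₀, hJ₀, -⟩ := h.exists_swap hxy
  let O : G → Set G := fun g => {g' | ∃ c ∈ tw G x y, c * g * c⁻¹ = g'}
  have hO : ∀ g ∈ swaps G x y, O g ⊆ swaps G x y ∧ (O g).ncard = 6 := by
    intro g hg
    refine ⟨?_, ?_⟩
    · rintro _ ⟨c, hc, rfl⟩
      have := swaps_conj (c := c) hg
      rwa [(mem_tw.1 hc).1, (mem_tw.1 hc).2] at this
    · let act : MulAction (tw G x y) G :=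
        MulAction.compHom G ((ConjAct.toConjAct (G := G)).toMonoidHom.comp (tw G x y).subtype)
      have hsm : ∀ (c : tw G x y) (w : G), c • w = (c : G) * w * (c : G)⁻¹ := fun c w => rfl
      have h1 := (stabilizer (tw G x y) g).card_mul_index
      rw [index_stabilizer, h.card_two hxy] at h1
      have e1 : Nat.card (stabilizer (tw G x y) g) = 2 := by
        rw [← h.card_cent_swap hxy hno hg]
        refine Nat.card_congr
          { toFun := fun c => ⟨c.1.1, c.1.2, ?_⟩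
            invFun := fun d => ⟨⟨d.1, d.2.1⟩, ?_⟩
            left_inv := fun _ => rfl
            right_inv := fun _ => rfl }
        · have := c.2
          rw [mem_stabilizer_iff, hsm, mul_inv_eq_iff_eq_mul] at this
          exact this.symm
        · rw [mem_stabilizer_iff, hsm, mul_inv_eq_iff_eq_mul]
          exact d.2.2.symm
      have e2 : orbit (tw G x y) g = O g := by
        ext w
        exact ⟨fun ⟨c, hc⟩ => ⟨c, c.2, hc⟩, fun ⟨c, hc, hcw⟩ => ⟨⟨c, hc⟩, hcw⟩⟩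
      rw [e1, e2] at h1
      omega
  -- all exchanging involutions lie in `J₀ D`
  have hmem : ∀ g ∈ swaps G x y, J₀ * g ∈ tw G x y := fun g hg => mem_tw.2
    ⟨by rw [mul_smul, hg.2, swaps_back hJ₀], by rw [mul_smul, swaps_back hg, hJ₀.2]⟩
  have heq : O J₀ = swaps G x y := by
    refine Set.Subset.antisymm (hO J₀ hJ₀).1 fun g hg => by_contra fun hgn => ?_
    have hdis : Disjoint (O J₀) (O g) := by
      refine Set.disjoint_left.2 ?_
      rintro _ ⟨c, hc, rfl⟩ ⟨c', hc', e⟩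
      exact hgn ⟨c'⁻¹ * c, mul_mem (inv_mem hc') hc, by
        calc c'⁻¹ * c * J₀ * (c'⁻¹ * c)⁻¹ = c'⁻¹ * (c * J₀ * c⁻¹) * c' := by group
          _ = c'⁻¹ * (c' * g * c'⁻¹) * c' := by rw [e]
          _ = g := by group⟩
    have h12 : (swaps G x y).ncard ≥ 12 := by
      have := Set.ncard_le_ncard (Set.union_subset (hO J₀ hJ₀).1 (hO g hg).1) (Set.toFinite _)
      rw [Set.ncard_union_eq hdis (Set.toFinite _) (Set.toFinite _), (hO J₀ hJ₀).2, (hO g hg).2] at this
      omega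
    -- then every element of the stabiliser is inverted
    have himg : (J₀ * ·) '' swaps G x y = (tw G x y : Set G) := by
      refine Set.eq_of_subset_of_ncard_le ?_ ?_ (Set.toFinite _)
      · rintro _ ⟨w, hw, rfl⟩
        exact hmem w hw
      · rw [Set.ncard_image_of_injective _ (mul_right_injective J₀), ← Nat.card_coe_set_eq,
          show Nat.card ↥((tw G x y : Subgroup G) : Set G) = 12 from h.card_two hxy]
        omega
    have hinv : ∀ d ∈ tw G x y, J₀ * d * J₀ = d⁻¹ := by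
      intro d hd
      obtain ⟨w, hw, rfl⟩ := (himg.symm ▸ hd : d ∈ (J₀ * ·) '' swaps G x y)
      simp only
      rw [mul_inv_rev, hw.1.inv_eq, hJ₀.1.inv_eq, ← mul_assoc, hJ₀.1.2, one_mul]
    obtain ⟨r, hr, r2⟩ := h.exists_three hxy
    refine r2 ?_
    rw [h.two_center hxy hr fun b hb => inv_injective ?_, one_mul]
    rw [← hinv _ (mul_mem hr hb), mul_inv_rev, ← hinv b hb, ← hinv r hr,
      show J₀ * r * J₀ * (J₀ * b * J₀) = J₀ * r * (J₀ * J₀) * b * J₀ by group, hJ₀.1.2, mul_one]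
    group
  refine ⟨?_, fun g hg g' hg' => ?_⟩
  · rw [← heq, Nat.card_coe_set_eq, (hO J₀ hJ₀).2]
  · rw [← heq] at hg hg'
    obtain ⟨c, hc, rfl⟩ := hg
    obtain ⟨c', hc', rfl⟩ := hg'
    exact ⟨c' * c⁻¹, mul_mem hc' (inv_mem hc), by group⟩

end nomid

end Hyp

end Cfsg.Agent.H6.AFour
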