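import Cfsg.Agent.H6.AFour.Thin

/-!
# Thin case without central exchanging involutions: the parameters
-/

set_option autoImplicit false
set_option linter.unusedSectionVars false
set_option linter.style.haveILetI false

namespace Cfsg.Agent.H6.AFour

open MulAction

variable {G Ω : Type*} [Group G] [MulAction G Ω]

namespace Hyp

variable (h : Hyp G Ω) [Finite G] [Finite Ω]
include h

/-- For every pair of fixed points there is an exchanging involution centralising `t` and moving
another involution `w` of the four group to `w * t`. -/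
theorem exists_sigma (hn : NoMid G Ω) {x y : Ω} (hxy : x ≠ y) {t w : G} (ht : t ∈ h.four hxy)
    (t1 : t ≠ 1) (hw : w ∈ h.four hxy) (w1 : w ≠ 1) (wt : w ≠ t) :
    ∃ s ∈ swaps G x y, s * t = t * s ∧ s * w * s = w * t := by
  have hno := hn x y hxy
  obtain ⟨s₀, hs₀, -⟩ := h.exists_swap hxy
  obtain ⟨d₀, hd₀, d01, hd0s⟩ : ∃ d ∈ tw G x y, d ≠ 1 ∧ s₀ * d = d * s₀ := by
    by_contra k
    push Not at k
    have : Subsingleton {d : G // d ∈ tw G x y ∧ s₀ * d = d * s₀} := by
      refine ⟨fun a b => Subtype.ext ?_⟩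
      have key : ∀ c : {d : G // d ∈ tw G x y ∧ s₀ * d = d * s₀}, (c : G) = 1 :=
        fun c => by_contra fun hc => k c c.2.1 hc c.2.2
      rw [key a, key b]
    have h2 := h.card_cent_swap hxy hno hs₀
    rw [Nat.card_of_subsingleton
      (⟨1, one_mem _, by rw [mul_one, one_mul]⟩ : {d : G // d ∈ tw G x y ∧ s₀ * d = d * s₀})] at h2
    omega
  have hd2 : d₀ * d₀ = 1 := by_contra fun k => hno ⟨s₀, h.mid_of_three hxy hs₀ hd₀ k hd0s⟩
  obtain ⟨c, hc, hct⟩ := h.two_conj hxy hd₀ ht.1 ⟨d01, hd2⟩ ⟨t1, ht.2⟩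
  set s := c * s₀ * c⁻¹
  have hs : s ∈ swaps G x y := by
    have := swaps_conj (c := c) hs₀
    rwa [(mem_tw.1 hc).1, (mem_tw.1 hc).2] at this
  have hst : s * t = t * s := by
    rw [← hct]
    calc c * s₀ * c⁻¹ * (c * d₀ * c⁻¹) = c * (s₀ * d₀) * c⁻¹ := by group
      _ = c * d₀ * c⁻¹ * (c * s₀ * c⁻¹) := by rw [hd0s]; group
  refine ⟨s, hs, hst, ?_⟩
  have hsw : s * w * s ∈ h.four hxy := by
    have := swap_conj_mem hs.2 (swaps_back hs) hw.1
    rw [hs.1.inv_eq] at this
    exact ⟨this, by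
      rw [show s * w * s * (s * w * s) = s * w * (s * s) * w * s by group, hs.1.2, mul_one,
        mul_assoc s w w, hw.2, mul_one, hs.1.2]⟩
  have hnot : ∀ v ∈ h.four hxy, v ≠ 1 → v ≠ t → ¬ s * v = v * s := by
    intro v hv v1 vt e
    have h2 := h.card_cent_swap hxy hno hs
    have hsub : ({1, t, v} : Set G) ⊆ {d | d ∈ tw G x y ∧ s * d = d * s} := by
      rintro u (rfl | rfl | rfl)
      · exact ⟨one_mem _, by rw [mul_one, one_mul]⟩
      · exact ⟨ht.1, hst⟩
      · exact ⟨hv.1, e⟩
    have h3 := Set.ncard_le_ncard hsub (Set.toFinite _)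
    rw [Set.ncard_insert_of_notMem (by simp [t1.symm, v1.symm]), Set.ncard_pair (Ne.symm vt)] at h3
    have : ({d | d ∈ tw G x y ∧ s * d = d * s} : Set G).ncard = 2 := by
      rw [← Nat.card_coe_set_eq]; exact h2
    omega
  classical
  have hsub : ({1, t, w, w * t} : Set G) ⊆ (h.four hxy : Set G) := by
    rintro u (rfl | rfl | rfl | rfl)
    · exact one_mem _
    · exact ht
    · exact hw
    · exact mul_mem hw ht
  have e1 : w * t ≠ 1 := fun e => wt (by rw [eq_inv_of_mul_eq_one_left e, Inv.inv_eq ⟨t1, ht.2⟩])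
  have e2 : w * t ≠ t := fun e => w1 (mul_eq_right.1 e)
  have e3 : w * t ≠ w := fun e => t1 (mul_eq_left.1 e)
  have h4 : ({1, t, w, w * t} : Set G).ncard = 4 := by
    rw [Set.ncard_insert_of_notMem, Set.ncard_insert_of_notMem, Set.ncard_pair e3.symm]
    · simp [Ne.symm wt, e2.symm]
    · simp [t1.symm, w1.symm, e1.symm]
  have heq := Set.eq_of_subset_of_ncard_le hsub (by
    rw [h4, ← Nat.card_coe_set_eq]
    exact (h.card_four' hxy).le) (Set.toFinite _)
  have hmem : s * w * s ∈ ({1, t, w, w * t} : Set G) := heq ▸ hsw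
  rcases hmem with e | e | e | e
  · exfalso
    refine w1 ?_
    rw [show w = s⁻¹ * (s * w * s) * s⁻¹ by group, e, hs.1.inv_eq, mul_one, hs.1.2]
  · exfalso
    refine wt ?_
    rw [show w = s⁻¹ * (s * w * s) * s⁻¹ by group, e, hs.1.inv_eq, hst, mul_assoc, hs.1.2, mul_one]
  · exfalso
    refine hnot w hw w1 wt ?_
    calc s * w = s * w * s * s := by rw [mul_assoc (s * w) s s, hs.1.2, mul_one]
      _ = w * s := by rw [e]
  · exact e

/-- The induced group has swap elements, and the fixed point numbers are squares of the line size. -/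
theorem thinA_facts (hn : NoMid G Ω) (hth : ¬ Flat G Ω) {x y : Ω} (hxy : x ≠ y) {t : G}
    (ht : t ∈ h.four hxy) (t1 : t ≠ 1) :
    fixCard Ω t = (line G x y).ncard ^ 2 ∧
      (∃ q, Two.IsSwap (Δ := ↥(fixedBy Ω t)) (q : ↥(centImage Ω t))) := by
  have hT : IsT Ω t := h.isT_of_mem hxy ht.1 ⟨t1, ht.2⟩
  obtain ⟨w, hw, w1, wt⟩ := h.exists_third hxy t
  obtain ⟨s, hs, hst, hsw⟩ := h.exists_sigma hn hxy ht t1 hw w1 wt
  have hwC : w ∈ Subgroup.centralizer ({t} : Set G) :=
    Subgroup.mem_centralizer_singleton_iff.2 (h.four_comm hxy hw ht)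
  have hsC : s ∈ Subgroup.centralizer ({t} : Set G) := Subgroup.mem_centralizer_singleton_iff.2 hst
  have hgg : s * w * (s * w) = t := by
    rw [show s * w * (s * w) = s * w * s * w by group, hsw, mul_assoc, h.four_comm hxy ht hw, ← mul_assoc,
      hw.2, one_mul]
  set g : ↥(Subgroup.centralizer ({t} : Set G)) := ⟨s * w, mul_mem hsC hwC⟩
  have hg1 : toImage Ω t g ≠ 1 := fun k => by
    rcases (h.toImage_eq_one hth hT g).1 k with e | e
    · exact t1 (by rw [← hgg, show s * w = 1 from e, one_mul])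
    · exact t1 (by rw [← hgg, show s * w = t from e]; exact ht.2)
  have hgo : orderOf (toImage Ω t g) = 2 := by
    refine orderOf_eq_prime ?_ hg1
    rw [← map_pow]
    refine (h.toImage_eq_one hth hT _).2 (Or.inr ?_)
    rw [pow_two]
    exact hgg
  have hnt : ¬ Two.IsTau ↥(fixedBy Ω t) (toImage Ω t g) := by
    intro k
    -- a tau lifts to an involution
    obtain ⟨htau, -⟩ := h.isTau_of_four hth hxy ht t1 hw w1 wt hwC
    obtain ⟨c, hc⟩ := (h.two_hyp hth hT).exists_conj_tau htau k
    obtain ⟨c', rfl⟩ := (centPerm (Ω := Ω) t).rangeRestrict_surjective c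
    rw [← map_inv, ← map_mul, ← map_mul, h.toImage_eq_iff hth hT] at hc
    have hsq : (c' : G) * w * (c' : G)⁻¹ * ((c' : G) * w * (c' : G)⁻¹) = 1 := by
      rw [show (c' : G) * w * (c' : G)⁻¹ * ((c' : G) * w * (c' : G)⁻¹) = (c' : G) * (w * w) * (c' : G)⁻¹ by group,
        hw.2, mul_one, mul_inv_cancel]
    refine t1 ?_
    rw [← hgg]
    change s * w = (c' : G) * w * (c' : G)⁻¹ ∨ s * w = (c' : G) * w * (c' : G)⁻¹ * t at hc
    rcases hc with e | e <;> rw [e]
    · exact hsq
    · set u := (c' : G) * w * (c' : G)⁻¹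
      have huC : u * t = t * u := Subgroup.mem_centralizer_singleton_iff.1
        (mul_mem (mul_mem c'.2 hwC) (inv_mem c'.2))
      rw [show u * t * (u * t) = u * (t * u) * t by group, ← huC, show u * (u * t) * t = u * u * (t * t) by group,
        hsq, ht.2, mul_one]
  have hswap := (Two.isTau_or_isSwap hgo).resolve_left hnt
  obtain ⟨htau, hfw⟩ := h.isTau_of_four hth hxy ht t1 hw w1 wt hwC
  refine ⟨?_, ⟨_, hswap⟩⟩
  rcases (h.two_hyp hth hT).dichotomy htau with ⟨hall, -⟩ | ⟨hf, -⟩
  · exact absurd hswap (hall _ hgo).not_isSwap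
  · rw [hfw] at hf
    exact hf

/-- An even line has two points. -/
theorem thinA_even (hn : NoMid G Ω) {x y : Ω} (hxy : x ≠ y)
    (hev : Even (line G x y).ncard) : (line G x y).ncard = 2 := by
  classical
  obtain ⟨t, ht, ti⟩ := h.exists_inv_two hxy
  have htV : t ∈ h.four hxy := ⟨ht, ti.2⟩
  set e := (line G x y).ncard with he
  have he2 : 2 ≤ e := h.two_le_line hxy
  set C := Subgroup.centralizer ({t} : Set G)
  set K := C ⊓ Subgroup.normalizer (h.four hxy : Set G) with hKdef
  have hK : Nat.card K = 4 * (e * (e - 1)) := h.card_cent_normalizer hxy htV ti.1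
  set Kc := K ⊓ Subgroup.centralizer (h.four hxy : Set G) with hKc
  obtain ⟨w, hw, w1, wt⟩ := h.exists_third hxy t
  obtain ⟨s, hs, hst, hsw⟩ := h.exists_sigma hn hxy htV ti.1 hw w1 wt
  have hsK : s ∈ K := ⟨Subgroup.mem_centralizer_singleton_iff.2 hst,
    (h.mem_normalizer_four hxy).2 (by rw [hs.2, swaps_back hs]; exact ⟨right_mem_line x y, left_mem_line x y⟩)⟩
  have hlt : Nat.card Kc < Nat.card K := by
    refine lt_of_le_of_ne (Subgroup.card_le_of_le inf_le_left) fun k => ?_
    have : s ∈ Kc := by rw [Subgroup.eq_of_le_of_card_ge (show Kc ≤ K from inf_le_left) k.ge]; exact hsK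
    have e1 := Subgroup.mem_centralizer_iff.1 this.2 w hw
    rw [show s * w * s = w * (s * s) by rw [← mul_assoc, e1], hs.1.2, mul_one] at hsw
    exact ti.1 (left_eq_mul.1 hsw)
  have hKL : ∀ g ∈ K, ∀ z ∈ line G x y, g • z ∈ line G x y := by
    intro g hg z hz
    obtain ⟨hgx, hgy⟩ := (h.mem_normalizer_four hxy).1 hg.2
    rw [← h.line_eq hxy (fun k => hxy (MulAction.injective g k)) hgx hgy]
    exact (h.smul_line hxy g).2 hz
  -- point stabilisers centralise the four group
  have hpt : ∀ z ∈ line G x y, ∀ g ∈ K, g • z = z → g ∈ Kc := by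
    intro z hz g hg gz
    refine ⟨hg, ?_⟩
    show g ∈ Subgroup.centralizer (h.four hxy : Set G)
    have hKz : Nat.card ↥(K ⊓ stabilizer G z) = 4 * (e - 1) := by
      have h1 := card_eq_orbit_mul K z (line G x y) fun u => ⟨fun hu => ?_, fun ⟨k, hk, hku⟩ => hku ▸ hKL k hk z hz⟩
      · rw [hK, ← he] at h1
        exact Nat.eq_of_mul_eq_mul_left (show 0 < e by omega) (by rw [← h1]; ring)
      · by_cases k : u = z
        · exact ⟨1, one_mem _, by rw [one_smul, k]⟩
        · obtain ⟨g', hg', ga, gb⟩ := h.witt ti (Ne.symm k) k (hz t ht ti.2) (hu t ht ti.2)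
            (hu t ht ti.2) (hz t ht ti.2)
          refine ⟨g', ⟨hg', (h.mem_normalizer_four hxy).2 ?_⟩, ga⟩
          have hzu : z ≠ u := Ne.symm k
          rw [← h.line_eq hxy hzu hz hu]
          have e1 : h.four hzu = h.four hxy := h.four_eq hxy hzu hz hu
          have hn' : g' ∈ Subgroup.normalizer (h.four hzu : Set G) := (h.mem_normalizer_four hzu).2
            (by rw [ga, gb]; exact ⟨right_mem_line z u, left_mem_line z u⟩)
          rw [e1] at hn'
          rw [h.line_eq hxy hzu hz hu]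
          exact (h.mem_normalizer_four hxy).1 hn'
    -- the squares centralise; the odd part centralises
    have hsq : ∀ k ∈ K, k * k ∈ Subgroup.centralizer (h.four hxy : Set G) := by
      intro k hk
      refine Subgroup.mem_centralizer_iff.2 fun v hv => ?_
      have hconj : ∀ u ∈ h.four hxy, k * u * k⁻¹ ∈ h.four hxy := fun u hu =>
        (Subgroup.mem_normalizer_iff.1 hk.2 u).1 hu
      have hkt : k * t * k⁻¹ = t := by
        rw [Subgroup.mem_centralizer_singleton_iff.1 hk.1, mul_inv_cancel_right]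
      have key : k * (k * v * k⁻¹) * k⁻¹ = v := by
        by_cases hv1 : v = 1
        · rw [hv1]; group
        by_cases hvt : v = t
        · rw [hvt, hkt, hkt]
        by_cases e1 : k * v * k⁻¹ = v
        · rw [e1, e1]
        -- otherwise `v` goes to `v * t`
        obtain ⟨s', hs', -, hsv⟩ := h.exists_sigma hn hxy htV ti.1 hv hv1 hvt
        have hne1 : k * v * k⁻¹ ≠ 1 := fun e2 => hv1 (conj_eq_one_iff.1 e2)
        have hne2 : k * v * k⁻¹ ≠ t := fun e2 => hvt (mul_left_cancel (mul_right_cancel (e2.trans hkt.symm)))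
        have hvk : k * v * k⁻¹ = v * t := by
          have hsub : ({1, t, v, v * t} : Set G) ⊆ (h.four hxy : Set G) := by
            rintro u (rfl | rfl | rfl | rfl)
            · exact one_mem _
            · exact htV
            · exact hv
            · exact mul_mem hv htV
          have a1 : v * t ≠ 1 := fun e => hvt (by rw [eq_inv_of_mul_eq_one_left e, ti.inv_eq])
          have a2 : v * t ≠ t := fun e => hv1 (mul_eq_right.1 e)
          have a3 : v * t ≠ v := fun e => ti.1 (mul_eq_left.1 e)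
          have h4 : ({1, t, v, v * t} : Set G).ncard = 4 := by
            rw [Set.ncard_insert_of_notMem, Set.ncard_insert_of_notMem, Set.ncard_pair a3.symm]
            · simp [Ne.symm hvt, a2.symm]
            · simp [ti.1.symm, Ne.symm hv1, a1.symm]
          have heq := Set.eq_of_subset_of_ncard_le hsub (by
            rw [h4, ← Nat.card_coe_set_eq]
            exact (h.card_four' hxy).le) (Set.toFinite _)
          rcases (heq ▸ hconj v hv : k * v * k⁻¹ ∈ ({1, t, v, v * t} : Set G)) with e2 | e2 | e2 | e2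
          · exact absurd e2 hne1
          · exact absurd e2 hne2
          · exact absurd e2 e1
          · exact e2
        rw [hvk, show k * (v * t) * k⁻¹ = k * v * k⁻¹ * (k * t * k⁻¹) by group, hvk, hkt, mul_assoc,
          ti.2, mul_one]
      calc v * (k * k) = k * (k * v * k⁻¹) * k⁻¹ * (k * k) := by rw [key]
        _ = k * k * v := by group
    have hd : Nat.card ↥((K ⊓ stabilizer G z) ⊓ Subgroup.centralizer (h.four hxy : Set G)) ∣ 4 * (e - 1) := by
      rw [← hKz]; exact Subgroup.card_dvd_of_le inf_le_left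
    have hmem : g ∈ K ⊓ stabilizer G z := ⟨hg, gz⟩
    have hpow : g ^ (4 * (e - 1)) = 1 := by
      rw [← hKz]
      have := pow_card_eq_one' (x := (⟨g, hmem⟩ : ↥(K ⊓ stabilizer G z)))
      simpa using congrArg Subtype.val this
    -- elements of the four group fix `z`; remove the two-part
    have hev' : Odd (e - 1) := by
      rw [Nat.even_iff] at hev
      exact Nat.odd_iff.2 (by omega)
    obtain ⟨a, ha⟩ := hev'
    have h4 : g ^ (e - 1) * g ^ (e - 1) * (g ^ (e - 1) * g ^ (e - 1)) = 1 := by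
      rw [← pow_add, ← pow_add, show e - 1 + (e - 1) + (e - 1 + (e - 1)) = 4 * (e - 1) by ring, hpow]
    set r := g ^ (e - 1) with hr
    have hrK : r ∈ K ⊓ stabilizer G z := pow_mem hmem _
    -- the two elements of the stabiliser lie in the four group
    have hcop : r ∈ h.four hxy := by
      obtain ⟨P, hP⟩ := (IsPGroup.of_card (p := 2) (n := 2) (h.card_four' hxy)).exists_le_sylow (G := G)
      by_contra hr'
      have hVK : h.four hxy ≤ K ⊓ stabilizer G z := fun v hv => by
        obtain ⟨vx, vy⟩ := mem_tw.1 hv.1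
        exact ⟨⟨Subgroup.mem_centralizer_singleton_iff.2 (h.four_comm hxy hv htV),
          (h.mem_normalizer_four hxy).2 (by rw [vx, vy]; exact ⟨left_mem_line x y, right_mem_line x y⟩)⟩,
          hz v hv.1 hv.2⟩
      have hn' : Subgroup.zpowers r ≤ Subgroup.normalizer (h.four hxy : Set G) :=
        Subgroup.zpowers_le.2 hrK.1.2
      have hZ : IsPGroup 2 (Subgroup.zpowers r) := by
        obtain ⟨m, -, hm⟩ := (Nat.dvd_prime_pow Nat.prime_two).1 (show orderOf r ∣ 2 ^ 2 from
          orderOf_dvd_of_pow_eq_one (by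
            rw [show (2 : ℕ) ^ 2 = 4 by norm_num, show r ^ 4 = r * r * (r * r) by simp [pow_succ, mul_assoc], h4]))
        exact IsPGroup.of_card (n := m) (by rw [Nat.card_zpowers, hm])
      have hV2 : IsPGroup 2 (h.four hxy) := IsPGroup.of_card (n := 2) (h.card_four' hxy)
      have hS := hZ.to_sup_of_normal_right' hV2 hn'
      obtain ⟨m, hm⟩ := hS.exists_card_eq
      have hdd := Subgroup.card_dvd_of_le (sup_le (Subgroup.zpowers_le.2 hrK) hVK)
      rw [hm, hKz] at hdd
      have hco : Nat.Coprime (2 ^ m) (e - 1) :=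
        Nat.Coprime.pow_left _ (Nat.coprime_two_left.2 ⟨a, ha⟩)
      have hle := Nat.le_of_dvd (by norm_num) (hco.dvd_of_dvd_mul_right hdd)
      have : h.four hxy = Subgroup.zpowers r ⊔ h.four hxy :=
        Subgroup.eq_of_le_of_card_ge le_sup_right (by rw [h.card_four' hxy, hm]; exact hle)
      exact hr' (this ▸ le_sup_left (a := Subgroup.zpowers r) (Subgroup.mem_zpowers r))
    have hrc : r ∈ Subgroup.centralizer (h.four hxy : Set G) :=
      Subgroup.mem_centralizer_iff.2 fun v hv => h.four_comm hxy hv hcop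
    have hg2 := hsq g hg
    have : g = r * ((g * g) ^ a)⁻¹ := by
      rw [hr, ha, pow_succ', ← pow_two, ← pow_mul, mul_inv_cancel_right]
    rw [this]
    exact mul_mem hrc (inv_mem (pow_mem hg2 a))
  by_contra hne
  -- the centraliser of the four group would be transitive
  obtain ⟨z, hz, hzx, hzy⟩ : ∃ z ∈ line G x y, z ≠ x ∧ z ≠ y := by
    by_contra k
    push Not at k
    have : line G x y ⊆ {x, y} := fun u hu => by
      by_cases u1 : u = x
      · exact Or.inl u1
      · exact Or.inr (k u hu u1)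
    have := Set.ncard_le_ncard this (Set.toFinite _)
    rw [Set.ncard_pair hxy] at this
    omega
  have htr2 : ∀ b ∈ line G x y, ∀ u ∈ line G x y, ∀ u' ∈ line G x y, u ≠ b → u' ≠ b →
      ∃ g ∈ Kc, g • u = u' := by
    intro b hb u hu u' hu' ub ub'
    obtain ⟨g, hg, gb, gu⟩ := h.witt ti (Ne.symm ub) (Ne.symm ub') (hb t ht ti.2) (hu t ht ti.2)
      (hb t ht ti.2) (hu' t ht ti.2)
    refine ⟨g, hpt b hb g ⟨hg, ?_⟩ gb, gu⟩
    have hbu : b ≠ u := Ne.symm ub
    have hn' : g ∈ Subgroup.normalizer (h.four hbu : Set G) := (h.mem_normalizer_four hbu).2 (by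
      rw [gb, gu, h.line_eq hxy hbu hb hu]; exact ⟨hb, hu'⟩)
    rwa [h.four_eq hxy hbu hb hu] at hn'
  have htr : ∀ u ∈ line G x y, ∃ g ∈ Kc, g • x = u := by
    intro u hu
    by_cases k : u = x
    · exact ⟨1, one_mem _, by rw [one_smul, k]⟩
    by_cases k' : u = z
    · obtain ⟨g, hg, e⟩ := htr2 y (right_mem_line x y) x (left_mem_line x y) z hz hxy hzy
      exact ⟨g, hg, by rw [k', e]⟩
    obtain ⟨g, hg, e⟩ := htr2 z hz x (left_mem_line x y) u hu hzx.symm k'
    exact ⟨g, hg, e⟩
  have h1 := card_eq_orbit_mul Kc x (line G x y) fun u => ⟨fun hu => htr u hu,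
    fun ⟨g, hg, hgu⟩ => hgu ▸ hKL g hg.1 x (left_mem_line x y)⟩
  have hxst : Nat.card ↥(K ⊓ stabilizer G x) ≤ Nat.card ↥(Kc ⊓ stabilizer G x) :=
    Subgroup.card_le_of_le fun g hg => ⟨hpt x (left_mem_line x y) g hg.1 hg.2, hg.2⟩
  have h2 := card_eq_orbit_mul K x (line G x y) fun u => ⟨fun hu => by
    obtain ⟨g, hg, e⟩ := htr u hu; exact ⟨g, hg.1, e⟩, fun ⟨g, hg, hgu⟩ => hgu ▸ hKL g hg x (left_mem_line x y)⟩
  rw [h1, h2] at hlt
  exact absurd hlt (not_lt.2 (Nat.mul_le_mul_left _ hxst))

end Hyp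

end Cfsg.Agent.H6.AFour
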